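/-
Dickson: generation by a line of five upper transvections and one lower transvection.
-/
import Cfsg.Agent.Lib.SL2.TwoRoots

set_option autoImplicit false
set_option linter.unusedSectionVars false
set_option maxHeartbeats 800000

namespace CfsgLib.SL2

open Matrix
open scoped MatrixGroups

variable {F : Type*} [Field F] [Finite F]

local notation "PSL" => ProjectiveSpecialLinearGroup (Fin 2) F
local notation "M2" => Matrix (Fin 2) (Fin 2) F

theorem pow_five_eq {μ w : F} (hμ0 : μ ≠ 0) (h50 : (5 : F) = 0)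
    (h : proj ((up w * lo μ : SL(2, F)) ^ 2) = 1 ∨ proj ((up w * lo μ : SL(2, F)) ^ 3) = 1 ∨
      proj ((up w * lo μ : SL(2, F)) ^ 5) = 1) : (μ * w) ^ 5 = μ * w := by
  set x := μ * w with hx
  have key : (x + 2) ^ 5 = x + 2 := by
    rcases h with h | h | h <;> have := entry_zero_of_proj_one h <;>
      simp [pow_succ, Matrix.SpecialLinearGroup.coe_mul, up_coe, lo_coe, Matrix.mul_apply,
        Fin.sum_univ_two] at this
    · have h1 : μ * (x + 2) = 0 := by rw [hx]; linear_combination this
      have : x + 2 = 0 := by simpa [hμ0] using h1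
      rw [this]; ring
    · have h1 : μ * ((x + 2) ^ 2 - 1) = 0 := by rw [hx]; linear_combination this
      have : (x + 2) ^ 2 = 1 := sub_eq_zero.mp (by simpa [hμ0] using h1)
      linear_combination (x + 2) * ((x + 2) ^ 2 + 1) * this
    · have h1 : μ * ((x + 2) ^ 2 + 1) ^ 2 = 0 := by
        rw [hx]; linear_combination this + μ * (μ * w + 2) ^ 2 * h50
      have : (x + 2) ^ 2 + 1 = 0 := by simpa [hμ0] using h1
      linear_combination (x + 2) * ((x + 2) ^ 2 - 1) * this
  linear_combination key - (2 * x ^ 4 + 8 * x ^ 3 + 16 * x ^ 2 + 16 * x + 6) * h50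

theorem card_le_five {W : AddSubgroup F} {μ : F} (hgen : ∀ K : Subfield F, (∀ w ∈ W, μ * w ∈ K) → K = ⊤)
    (h50 : (5 : F) = 0) (hT : ∀ w ∈ W, (μ * w) ^ 5 = μ * w) : Nat.card F = 5 := by
  let _ := Fintype.ofFinite F
  obtain ⟨p, hchar⟩ := CharP.exists F
  obtain ⟨f, hp, hcard⟩ := FiniteField.card F p
  have hp5 : p = 5 := (Nat.prime_dvd_prime_iff_eq hp Nat.prime_five).1
    ((CharP.cast_eq_zero_iff F p 5).1 (by exact_mod_cast h50))
  subst hp5
  have : Fact (Nat.Prime 5) := ⟨hp⟩
  let K : Subfield F :=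
    { carrier := {x | x ^ 5 = x}
      mul_mem' := fun {a b} ha hb => show (a * b) ^ 5 = a * b by rw [mul_pow, ha, hb]
      one_mem' := one_pow 5
      add_mem' := fun {a b} (ha : a ^ 5 = a) (hb : b ^ 5 = b) => show (a + b) ^ 5 = a + b by
        rw [add_pow_char, ha, hb]
      zero_mem' := zero_pow (by norm_num)
      neg_mem' := fun {a} (ha : a ^ 5 = a) => show (-a) ^ 5 = -a by rw [Odd.neg_pow (by decide), ha]
      inv_mem' := fun a ha => show a⁻¹ ^ 5 = a⁻¹ by rw [inv_pow, ha] }
  have hK := hgen K hT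
  have hall : ∀ x : F, x ^ 5 = x := fun x => (hK ▸ Subfield.mem_top x : x ∈ K)
  classical
  have hle : Fintype.card F ≤ 5 := by
    rw [← Finset.card_univ]
    refine le_trans (Finset.card_le_card (t := ((Polynomial.X ^ 5 - Polynomial.X : Polynomial F)).roots.toFinset)
      fun x _ => ?_) ((Multiset.toFinset_card_le _).trans ?_)
    · rw [Multiset.mem_toFinset, Polynomial.mem_roots']
      refine ⟨fun e => ?_, by simp [hall x]⟩
      simpa [Polynomial.coeff_X] using congrArg (fun f : Polynomial F => f.coeff 5) e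
    · refine (Polynomial.card_roots' _).trans ?_
      compute_degree
  have hge : 5 ≤ Fintype.card F := hcard ▸ Nat.le_self_pow f.ne_zero 5
  rw [Nat.card_eq_fintype_card]
  omega

theorem card_PSL_le (hF5 : Nat.card F = 5) : Nat.card PSL ≤ 60 := by
  have hsl := card_SL_two' (F := F)
  have hpsl : Nat.gcd 2 (Nat.card F - 1) * Nat.card PSL = Nat.card SL(2, F) := by
    rw [card_SL_two', card_PSL]
  rw [hF5] at hsl
  rw [hF5, hsl] at hpsl
  norm_num at hpsl
  omega

theorem eq_top_of_up_lo_five {H : Subgroup SL(2, F)} (W : AddSubgroup F) (hW : ∀ w ∈ W, up w ∈ H)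
    {μ : F} (hμ0 : μ ≠ 0) (hμ : lo μ ∈ H)
    (hW5 : Nat.card W = 5) (h50 : (5 : F) = 0)
    (hgen : ∀ K : Subfield F, (∀ w ∈ W, μ * w ∈ K) → K = ⊤) : H = ⊤ := by
  let _ := Fintype.ofFinite F
  obtain ⟨p, hchar⟩ := CharP.exists F
  obtain ⟨f₁, hp, hcardF⟩ := FiniteField.card F p
  rw [Fintype.card_eq_nat_card] at hcardF
  have : Fact p.Prime := ⟨hp⟩
  have h3 : 3 < Nat.card W := by omega
  set Hb := H.map proj with hHb
  have hmem : ∀ g ∈ H, proj g ∈ Hb := fun g hg => Subgroup.mem_map_of_mem _ hg
  have hE : (upHom W).range ≤ Hb := by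
    rintro _ ⟨w, rfl⟩
    exact hmem _ (hW _ w.toAdd.2)
  have hWd : Nat.card W ∣ Nat.card Hb := by
    rw [← Nat.card_congr Multiplicative.toAdd,
      Nat.card_congr (MonoidHom.ofInjective (upHom_injective W)).toEquiv]
    exact Subgroup.card_dvd_of_le hE
  obtain ⟨k, -, hWp⟩ := (Nat.dvd_prime_pow hp).1 (hcardF ▸ AddSubgroup.card_addSubgroup_dvd_card W)
  have htop : Hb = ⊤ := by
    rcases dickson_in p Hb with ⟨c, -, hc, h⟩ | ⟨y, hy⟩ | h | h | h | h
    · exfalso
      have hco : Nat.Coprime (Nat.card W) (orderOf c) :=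
        hWp ▸ ((hp.coprime_iff_not_dvd).2 hc).pow_left k
      rcases h with ⟨-, h⟩ | h
      · rw [h] at hWd
        have := Nat.Coprime.eq_one_of_dvd hco hWd
        omega
      · obtain ⟨e⟩ := h
        rw [Nat.card_congr e.toEquiv, DihedralGroup.nat_card] at hWd
        have := Nat.le_of_dvd two_pos (hco.dvd_of_dvd_mul_right hWd)
        omega
    · exfalso
      obtain ⟨g, rfl⟩ := proj_surjective y
      obtain ⟨w, hw, hw0⟩ : ∃ w ∈ W, w ≠ 0 := by
        by_contra hall
        push Not at hall
        have : W = ⊥ := eq_bot_iff.2 fun w hw => AddSubgroup.mem_bot.2 (hall w hw)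
        rw [this, AddSubgroup.card_bot] at h3
        omega
      have h1 := hy _ (hmem _ (hW w hw))
      have h2 := hy _ (hmem _ hμ)
      rw [← map_inv, ← map_mul, ← map_mul, proj_mem_borelPSL] at h1 h2
      rw [Matrix.SpecialLinearGroup.coe_mul, Matrix.SpecialLinearGroup.coe_mul,
        Matrix.SpecialLinearGroup.coe_inv] at h1 h2
      simp [up_coe, lo_coe, Matrix.adjugate_fin_two, Matrix.mul_apply, Fin.sum_univ_two] at h1 h2
      have hc0 : (g : M2) 1 0 = 0 := by
        have : (g : M2) 1 0 ^ 2 * w = 0 := by linear_combination -h1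
        simpa [hw0] using this
      have hd0 : (g : M2) 1 1 = 0 := by
        have : μ * (g : M2) 1 1 ^ 2 = 0 := by linear_combination h2
        simpa [hμ0] using this
      have := det_eq g
      rw [hc0, hd0] at this
      simp at this
    · exfalso
      obtain ⟨e⟩ := h
      rw [Nat.card_congr e.toEquiv, card_alternating_four', hW5] at hWd
      omega
    · exfalso
      obtain ⟨e⟩ := h
      rw [Nat.card_congr e.toEquiv, card_perm_four, hW5] at hWd
      omega
    · obtain ⟨e⟩ := h
      rw [Nat.card_congr e.toEquiv, card_alternating_five'] at hWd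
      have hex : ∀ σ : alternatingGroup (Fin 5), σ ^ 2 = 1 ∨ σ ^ 3 = 1 ∨ σ ^ 5 = 1 := by decide +kernel
      have hT : ∀ w ∈ W, (μ * w) ^ 5 = μ * w := fun w hw => by
        have hwm : proj (up w * lo μ) ∈ Hb := hmem _ (mul_mem (hW w hw) hμ)
        rcases hex (e ⟨_, hwm⟩) with he | he | he
        · exact pow_five_eq hμ0 h50 (Or.inl (pow_of_equiv e he))
        · exact pow_five_eq hμ0 h50 (Or.inr (Or.inl (pow_of_equiv e he)))
        · exact pow_five_eq hμ0 h50 (Or.inr (Or.inr (pow_of_equiv e he)))
      refine Subgroup.eq_top_of_le_card _ ?_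
      have hF5 := card_le_five hgen h50 hT
      rw [Nat.card_congr e.toEquiv, card_alternating_five']
      exact card_PSL_le hF5
    · obtain ⟨K, fK, fT, m, -, hsh, f, D, hD⟩ := h
      have hsq : ∀ w ∈ W, (2 + μ * w) ^ 2 ∈ Set.range f := fun w hw => by
        have := trace_sq_mem_range f D hD (hmem _ (mul_mem (hW w hw) hμ))
        rwa [up_mul_lo_trace, mul_comm w μ] at this
      have hKtop : f.fieldRange = ⊤ := hgen _ fun w hw => by
        have ha := hsq w hw
        have hb := hsq (-w) (neg_mem hw)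
        have h4 : (4 : F) ∈ f.fieldRange := ⟨4, map_ofNat f 4⟩
        by_cases h2 : (2 : F) = 0
        · have hsq' : (μ * w) ^ 2 ∈ f.fieldRange := by
            rw [h2, zero_add] at ha; exact ha
          obtain ⟨x, hx⟩ := hsq'
          have : CharP F 2 := CharTwo.of_one_ne_zero_of_two_eq_zero one_ne_zero h2
          have : CharP K 2 := (f.charP_iff f.injective 2).2 this
          obtain ⟨s, rfl⟩ : ∃ s, s ^ 2 = x := by
            obtain ⟨s, hs⟩ := (Finite.injective_iff_surjective.1 (frobenius_inj K 2)) x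
            exact ⟨s, by simpa [frobenius_def] using hs⟩
          rw [map_pow] at hx
          exact ⟨s, frobenius_inj F 2 (by simpa [frobenius_def] using hx)⟩
        · have h8 : (8 : F) ≠ 0 := by
            rw [show (8 : F) = 2 * 2 * 2 by norm_num]
            exact mul_ne_zero (mul_ne_zero h2 h2) h2
          have h8m : (8 : F) ∈ f.fieldRange := ⟨8, map_ofNat f 8⟩
          have := f.fieldRange.div_mem (f.fieldRange.sub_mem ha hb) h8m
          rwa [show ((2 + μ * w) ^ 2 - (2 + μ * -w) ^ 2) / 8 = μ * w by field_simp; ring] at this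
      have hsurj : Function.Surjective f := fun y => RingHom.mem_fieldRange.1 (hKtop ▸ Subfield.mem_top y)
      have hcard : Nat.card K = Nat.card F := Nat.card_eq_of_bijective f ⟨f.injective, hsurj⟩
      exact Subgroup.eq_top_of_le_card _ (card_PSL_le_of_equiv hcard hsh)
  have hlift : ∀ g : SL(2, F), g ∈ H ∨ -g ∈ H := by
    intro g
    have : proj g ∈ Hb := htop ▸ Subgroup.mem_top _
    obtain ⟨x, hx, e⟩ := this
    rcases eq_or_eq_neg_of_proj_eq e with rfl | rfl
    · exact Or.inl hx
    · exact Or.inr (by rwa [neg_neg])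
  have hneg : ∀ g : SL(2, F), g ^ p = 1 → g ∈ H := by
    intro g hg
    rcases hlift g with h | h
    · exact h
    rcases hp.eq_two_or_odd' with rfl | hodd
    · have : CharP F 2 := hchar
      rwa [show -g = g from Subtype.ext (Matrix.ext fun i j => by
        rw [Matrix.SpecialLinearGroup.coe_neg, Matrix.neg_apply, CharTwo.neg_eq])] at h
    · have := pow_mem h (p + 1)
      rwa [Even.neg_pow (Nat.even_add_one.2 (Nat.not_even_iff_odd.2 hodd)), pow_succ, hg, one_mul] at this
  refine CfsgLib.Classical.eq_top_of_transvection_mem H fun i j hij c => hneg _ ?_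
  refine Subtype.ext ?_
  rw [Matrix.SpecialLinearGroup.coe_pow, Matrix.SpecialLinearGroup.transvection_coe]
  simp only [Matrix.SpecialLinearGroup.coe_one]
  show Matrix.transvection i j c ^ p = 1
  rw [transvection_pow' hij, CharP.cast_eq_zero F p, zero_mul, Matrix.transvection_zero]
where
  card_alternating_four' : Nat.card (alternatingGroup (Fin 4)) = 12 := by
    rw [Nat.card_eq_fintype_card]; decide +kernel
  card_alternating_five' : Nat.card (alternatingGroup (Fin 5)) = 60 := by
    rw [Nat.card_eq_fintype_card]; decide +kernel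
  transvection_pow' {i j : Fin 2} {c : F} {p : ℕ} (hij : i ≠ j) :
      Matrix.transvection i j c ^ p = Matrix.transvection i j ((p : F) * c) := by
    induction p with
    | zero => simp
    | succ p ih =>
      rw [pow_succ, ih, Matrix.transvection_mul_transvection_same _ _ hij]
      congr 1; push_cast; ring


end CfsgLib.SL2
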