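/-
Special linear groups of degree two over monogenic algebras: basic elements, and generation by
`upm k` and `lom (k Z)` for an infinite field `k`.
-/
import Mathlib

set_option autoImplicit false
set_option linter.unusedSectionVars false

open Polynomial

namespace CfsgLib.QuadPair

section defs

variable {A : Type*} [CommRing A]

local notation "SL2" => Matrix.SpecialLinearGroup (Fin 2) A
local notation "M2" => Matrix (Fin 2) (Fin 2) A

/-- Upper unitriangular. -/
def upm (x : A) : Matrix.SpecialLinearGroup (Fin 2) A :=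
  ⟨!![1, x; 0, 1], by simp [Matrix.det_fin_two]⟩

/-- Lower unitriangular. -/
def lom (x : A) : Matrix.SpecialLinearGroup (Fin 2) A :=
  ⟨!![1, 0; x, 1], by simp [Matrix.det_fin_two]⟩

/-- Diagonal. -/
def dia (u : Aˣ) : Matrix.SpecialLinearGroup (Fin 2) A :=
  ⟨!![(u : A), 0; 0, ((u⁻¹ : Aˣ) : A)], by simp [Matrix.det_fin_two]⟩

theorem upm_coe (x : A) : (upm x : M2) = !![1, x; 0, 1] := rfl
theorem lom_coe (x : A) : (lom x : M2) = !![1, 0; x, 1] := rfl
theorem dia_coe (u : Aˣ) : (dia u : M2) = !![(u : A), 0; 0, ((u⁻¹ : Aˣ) : A)] := rfl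

theorem sl_ext {g h : SL2} (h00 : (g : M2) 0 0 = (h : M2) 0 0) (h01 : (g : M2) 0 1 = (h : M2) 0 1)
    (h10 : (g : M2) 1 0 = (h : M2) 1 0) (h11 : (g : M2) 1 1 = (h : M2) 1 1) : g = h := by
  refine Subtype.ext (Matrix.ext fun i j => ?_)
  fin_cases i <;> fin_cases j <;> assumption

theorem mul_entry (g h : SL2) (i j : Fin 2) :
    ((g * h : SL2) : M2) i j = (g : M2) i 0 * (h : M2) 0 j + (g : M2) i 1 * (h : M2) 1 j := by
  rw [Matrix.SpecialLinearGroup.coe_mul, Matrix.mul_apply, Fin.sum_univ_two]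

theorem inv_entry (g : SL2) :
    ((g⁻¹ : SL2) : M2) = !![(g : M2) 1 1, -(g : M2) 0 1; -(g : M2) 1 0, (g : M2) 0 0] := by
  rw [Matrix.SpecialLinearGroup.coe_inv, Matrix.adjugate_fin_two]

theorem det_one (g : SL2) : (g : M2) 0 0 * (g : M2) 1 1 - (g : M2) 0 1 * (g : M2) 1 0 = 1 := by
  rw [← Matrix.det_fin_two]; exact g.2

theorem upm_zero : upm (0 : A) = 1 := sl_ext rfl rfl rfl rfl
theorem lom_zero : lom (0 : A) = 1 := sl_ext rfl rfl rfl rfl

theorem upm_add (x y : A) : upm (x + y) = upm x * upm y := by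
  refine sl_ext ?_ ?_ ?_ ?_ <;> simp [upm_coe, mul_entry, add_comm]

theorem lom_add (x y : A) : lom (x + y) = lom x * lom y := by
  refine sl_ext ?_ ?_ ?_ ?_ <;> simp [lom_coe, mul_entry]

theorem upm_neg (x : A) : upm (-x) = (upm x)⁻¹ :=
  eq_inv_of_mul_eq_one_left (by rw [← upm_add, neg_add_cancel, upm_zero])

theorem lom_neg (x : A) : lom (-x) = (lom x)⁻¹ :=
  eq_inv_of_mul_eq_one_left (by rw [← lom_add, neg_add_cancel, lom_zero])

theorem upm_pow (x : A) (n : ℕ) : upm x ^ n = upm (n * x) := by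
  induction n with
  | zero => simp [upm_zero]
  | succ n ih => rw [pow_succ, ih, ← upm_add]; congr 1; push_cast; ring

theorem lom_pow (x : A) (n : ℕ) : lom x ^ n = lom (n * x) := by
  induction n with
  | zero => simp [lom_zero]
  | succ n ih => rw [pow_succ, ih, ← lom_add]; congr 1; push_cast; ring

/-- The standard representative exchanging the two root groups. -/
def wm (u : Aˣ) : Matrix.SpecialLinearGroup (Fin 2) A :=
  ⟨!![0, (u : A); -((u⁻¹ : Aˣ) : A), 0], by simp [Matrix.det_fin_two]⟩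

theorem wm_coe (u : Aˣ) : (wm u : M2) = !![0, (u : A); -((u⁻¹ : Aˣ) : A), 0] := rfl

theorem wm_eq (u : Aˣ) : wm u = upm (u : A) * lom (-((u⁻¹ : Aˣ) : A)) * upm (u : A) := by
  refine sl_ext ?_ ?_ ?_ ?_ <;> simp [wm_coe, upm_coe, lom_coe, mul_entry]

theorem dia_eq (u : Aˣ) : dia u = wm u * wm (-1) := by
  refine sl_ext ?_ ?_ ?_ ?_ <;> simp [wm_coe, dia_coe, mul_entry]

theorem dia_conj (u : Aˣ) (x : A) : dia u * upm x * (dia u)⁻¹ = upm ((u : A) ^ 2 * x) := by
  refine sl_ext ?_ ?_ ?_ ?_ <;> simp [dia_coe, upm_coe, mul_entry, inv_entry] <;> ring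

theorem wm_mem {S : Subgroup SL2} (hu : ∀ x : A, upm x ∈ S) (hl : ∀ x : A, lom x ∈ S) (u : Aˣ) :
    wm u ∈ S := by
  rw [wm_eq]; exact mul_mem (mul_mem (hu _) (hl _)) (hu _)

theorem dia_mem {S : Subgroup SL2} (hu : ∀ x : A, upm x ∈ S) (hl : ∀ x : A, lom x ∈ S) (u : Aˣ) :
    dia u ∈ S := by
  rw [dia_eq]; exact mul_mem (wm_mem hu hl u) (wm_mem hu hl _)

end defs

variable (k : Type*) [Field k] {A : Type*} [CommRing A] [Algebra k A]

/-- The group generated by `upm k` and `lom (k Z)`. -/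
def gam (Z : A) : Subgroup (Matrix.SpecialLinearGroup (Fin 2) A) :=
  Subgroup.closure ({g | ∃ c : k, g = upm (algebraMap k A c)} ∪ {g | ∃ c : k, g = lom (algebraMap k A c * Z)})

variable {k}

theorem gam_up (Z : A) (c : k) : upm (algebraMap k A c) ∈ gam k Z := Subgroup.subset_closure (Or.inl ⟨c, rfl⟩)

theorem gam_lo (Z : A) (c : k) : lom (algebraMap k A c * Z) ∈ gam k Z := Subgroup.subset_closure (Or.inr ⟨c, rfl⟩)

/-- Scaling the lower left entry. -/
def sclMap (u : Aˣ) (g : Matrix.SpecialLinearGroup (Fin 2) A) : Matrix.SpecialLinearGroup (Fin 2) A :=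
  ⟨!![(g : Matrix (Fin 2) (Fin 2) A) 0 0, ((u⁻¹ : Aˣ) : A) * (g : Matrix (Fin 2) (Fin 2) A) 0 1;
      (u : A) * (g : Matrix (Fin 2) (Fin 2) A) 1 0, (g : Matrix (Fin 2) (Fin 2) A) 1 1], by
    rw [Matrix.det_fin_two_of]
    linear_combination det_one g -
      (g : Matrix (Fin 2) (Fin 2) A) 0 1 * (g : Matrix (Fin 2) (Fin 2) A) 1 0 * u.mul_inv⟩

theorem scl_coe (u : Aˣ) (g : Matrix.SpecialLinearGroup (Fin 2) A) :
    (sclMap u g : Matrix (Fin 2) (Fin 2) A) =
      !![(g : Matrix (Fin 2) (Fin 2) A) 0 0, ((u⁻¹ : Aˣ) : A) * (g : Matrix (Fin 2) (Fin 2) A) 0 1;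
        (u : A) * (g : Matrix (Fin 2) (Fin 2) A) 1 0, (g : Matrix (Fin 2) (Fin 2) A) 1 1] := rfl

/-- `sclMap` as a homomorphism. -/
def scl (u : Aˣ) : Matrix.SpecialLinearGroup (Fin 2) A →* Matrix.SpecialLinearGroup (Fin 2) A :=
  MonoidHom.mk' (sclMap u) fun g h => by
    refine sl_ext ?_ ?_ ?_ ?_ <;> simp [mul_entry, scl_coe]
    · linear_combination -((g : Matrix (Fin 2) (Fin 2) A) 0 1 * (h : Matrix (Fin 2) (Fin 2) A) 1 0) * u.inv_mul
    · ring
    · ring
    · linear_combination -((g : Matrix (Fin 2) (Fin 2) A) 1 0 * (h : Matrix (Fin 2) (Fin 2) A) 0 1) * u.mul_inv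

theorem scl_apply (u : Aˣ) (g : Matrix.SpecialLinearGroup (Fin 2) A) : scl u g = sclMap u g := rfl

theorem gam_scl {Z : A} {lam : k} (u : Aˣ) (hu : (u : A) = algebraMap k A lam)
    (hu' : ((u⁻¹ : Aˣ) : A) = algebraMap k A lam⁻¹) {g : Matrix.SpecialLinearGroup (Fin 2) A} (hg : g ∈ gam k Z) :
    scl u g ∈ gam k Z := by
  refine (Subgroup.closure_le ((gam k Z).comap (scl u))).mpr ?_ hg
  rintro _ (⟨c, rfl⟩ | ⟨c, rfl⟩)
  · refine Subgroup.mem_comap.mpr ?_
    have e : scl u (upm (algebraMap k A c)) = upm (algebraMap k A (lam⁻¹ * c)) := by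
      refine sl_ext ?_ ?_ ?_ ?_ <;> simp [scl_apply, scl_coe, upm_coe, hu']
    rw [e]; exact gam_up Z _
  · refine Subgroup.mem_comap.mpr ?_
    have e : scl u (lom (algebraMap k A c * Z)) = lom (algebraMap k A (lam * c) * Z) := by
      refine sl_ext ?_ ?_ ?_ ?_ <;> simp [scl_apply, scl_coe, lom_coe, hu, mul_assoc]
    rw [e]; exact gam_lo Z _

section inf

variable (pb : PowerBasis k A)

local notation "Z" => pb.gen

/-- The top coordinate. -/
noncomputable def top' : A →ₗ[k] k :=
  if h : 0 < pb.dim then pb.basis.coord ⟨pb.dim - 1, by omega⟩ else 0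

/-- The Hankel matrix of `m`. -/
noncomputable def gram (m : A) (j : ℕ) : Matrix (Fin j) (Fin j) k :=
  Matrix.of fun i l => top' pb (m * pb.gen ^ ((i : ℕ) + (l : ℕ)))

/-- Polynomials of degree below `j` in the generator. -/
def low (j : ℕ) : Submodule k A := Submodule.span k (Set.range fun i : Fin j => pb.gen ^ (i : ℕ))

theorem low_mono {i j : ℕ} (h : i ≤ j) : low pb i ≤ low pb j := by
  refine Submodule.span_le.mpr ?_
  rintro _ ⟨l, rfl⟩
  exact Submodule.subset_span ⟨⟨l, by omega⟩, rfl⟩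

theorem low_top : low pb pb.dim = ⊤ := by
  rw [low, ← pb.basis.span_eq, pb.coe_basis]

theorem pow_mem_low {i j : ℕ} (h : i < j) : pb.gen ^ i ∈ low pb j := Submodule.subset_span ⟨⟨i, h⟩, rfl⟩

theorem gen_mul_low {j : ℕ} {x : A} (hx : x ∈ low pb j) : pb.gen * x ∈ low pb (j + 1) := by
  induction hx using Submodule.span_induction with
  | mem y hy =>
    obtain ⟨l, rfl⟩ := hy
    rw [← pow_succ']
    exact pow_mem_low pb (by omega)
  | zero => simp
  | add a b _ _ ha hb => rw [mul_add]; exact add_mem ha hb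
  | smul c a _ ha => rw [mul_smul_comm]; exact Submodule.smul_mem _ c ha

theorem top_pow {i : ℕ} (h : i < pb.dim) : top' pb (pb.gen ^ i) = if i + 1 = pb.dim then 1 else 0 := by
  have e : pb.gen ^ i = pb.basis ⟨i, h⟩ := by rw [pb.basis_eq_pow]
  rw [top', dif_pos (by omega), e, Module.Basis.coord_apply, Module.Basis.repr_self, Finsupp.single_apply]
  refine if_congr ?_ rfl rfl
  rw [Fin.mk.injEq]
  omega

theorem eq_zero_of_gram {m : A} {j : ℕ} (hd : (gram pb m j).det ≠ 0) {x : A} (hx : x ∈ low pb j)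
    (h : ∀ i < j, top' pb (m * x * pb.gen ^ i) = 0) : x = 0 := by
  obtain ⟨v, rfl⟩ := (Submodule.mem_span_range_iff_exists_fun k).mp hx
  have hv : (gram pb m j).mulVec v = 0 := by
    funext i
    rw [Pi.zero_apply, ← h i i.2]
    simp only [Matrix.mulVec, dotProduct, gram, Matrix.of_apply, Finset.mul_sum, Finset.sum_mul, map_sum]
    refine Finset.sum_congr rfl fun l _ => ?_
    rw [mul_smul_comm, smul_mul_assoc, map_smul, smul_eq_mul, mul_comm, pow_add, mul_comm (pb.gen ^ (i : ℕ)),
      mul_assoc]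
  have := Matrix.eq_zero_of_mulVec_eq_zero hd hv
  simp [this]

theorem gram_ne_of_anti {m : A} {j : ℕ} (h0 : ∀ l, l + 1 < j → top' pb (m * pb.gen ^ l) = 0)
    (h1 : ∀ l, l + 1 = j → top' pb (m * pb.gen ^ l) = 1) : (gram pb m j).det ≠ 0 := by
  classical
  intro hd
  obtain ⟨v, hv0, hv⟩ := Matrix.exists_mulVec_eq_zero_iff.mpr hd
  obtain ⟨w, hw⟩ := Function.ne_iff.mp hv0
  have hne : (Finset.univ.filter fun i : Fin j => v i ≠ 0).Nonempty :=
    ⟨w, Finset.mem_filter.mpr ⟨Finset.mem_univ _, hw⟩⟩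
  set i₀ := (Finset.univ.filter fun i : Fin j => v i ≠ 0).max' hne
  have hi₀ : v i₀ ≠ 0 := (Finset.mem_filter.mp (Finset.max'_mem _ hne)).2
  have := congrFun hv ⟨j - 1 - (i₀ : ℕ), by omega⟩
  simp only [Matrix.mulVec, dotProduct, gram, Matrix.of_apply, Pi.zero_apply] at this
  rw [Finset.sum_eq_single i₀] at this
  · rw [h1 _ (by omega), one_mul] at this
    exact hi₀ this
  · intro l _ hl
    rcases lt_or_gt_of_ne hl with h | h
    · rw [h0 _ (by have := Fin.lt_def.mp h; omega), zero_mul]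
    · have : v l = 0 := by
        by_contra hne'
        exact absurd (Finset.le_max' _ l (Finset.mem_filter.mpr ⟨Finset.mem_univ _, hne'⟩)) (not_le.mpr h)
      rw [this, mul_zero]
  · simp

theorem eq_zero_of_top {y : A} (h : ∀ i < pb.dim, top' pb (y * pb.gen ^ i) = 0) : y = 0 := by
  classical
  by_contra hy
  have hd : (gram pb 1 pb.dim).det ≠ 0 := gram_ne_of_anti pb
    (fun l hl => by rw [one_mul, top_pow pb (by omega), if_neg (by omega)])
    (fun l hl => by rw [one_mul, top_pow pb (by omega), if_pos hl])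
  exact hy (eq_zero_of_gram pb hd (low_top pb ▸ Submodule.mem_top) (by simpa using h))

/-- Good parameters. -/
def Good (m : A) : Prop :=
  (∀ j ≤ pb.dim, (gram pb m j).det ≠ 0) ∧ ∀ j < pb.dim, (gram pb (m * pb.gen) j).det ≠ 0

theorem gram_line (x y : A) (j : ℕ) :
    ∃ P : k[X], ∀ r : k, P.eval r = (gram pb (x + r • y) j).det := by
  refine ⟨(Matrix.of fun a b => C (gram pb x j a b) + X * C (gram pb y j a b)).det, fun r => ?_⟩
  rw [← Polynomial.coe_evalRingHom, RingHom.map_det]
  refine congrArg Matrix.det (Matrix.ext fun a b => ?_)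
  simp [gram, add_mul, smul_mul_assoc, mul_comm r]

theorem good_line (x y : A) : ∃ Q : k[X], ∀ r : k, Q.eval r ≠ 0 ↔ Good pb (x + r • y) := by
  choose P hP using fun j => gram_line pb x y j
  choose P' hP' using fun j => gram_line pb (x * pb.gen) (y * pb.gen) j
  refine ⟨(∏ j ∈ Finset.range (pb.dim + 1), P j) * ∏ j ∈ Finset.range pb.dim, P' j, fun r => ?_⟩
  simp [Polynomial.eval_prod, Finset.prod_ne_zero_iff, hP, hP', Good, add_mul, smul_mul_assoc]

variable [Infinite k]

theorem exists_ne_of_lines {ι : Type*} (s : Finset ι) (D : ι → A → k)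
    (hD : ∀ i x y, ∃ P : k[X], ∀ r : k, P.eval r = D i (x + r • y)) (hne : ∀ i ∈ s, ∃ m, D i m ≠ 0) :
    ∃ m, ∀ i ∈ s, D i m ≠ 0 := by
  classical
  induction s using Finset.induction_on with
  | empty => exact ⟨0, by simp⟩
  | insert a s ha ih =>
    obtain ⟨m0, h0⟩ := ih fun i hi => hne i (Finset.mem_insert_of_mem hi)
    obtain ⟨m1, h1⟩ := hne a (Finset.mem_insert_self a s)
    choose P hP using fun i => hD i m0 (m1 - m0)
    have hQ : (∏ i ∈ insert a s, P i) ≠ 0 := by
      refine Finset.prod_ne_zero_iff.mpr fun i hi he => ?_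
      rcases Finset.mem_insert.mp hi with rfl | hi
      · exact h1 (by simpa [he] using (hP i 1).symm)
      · exact h0 i hi (by simpa [he] using (hP i 0).symm)
    obtain ⟨r, hr⟩ : ∃ r, (∏ i ∈ insert a s, P i).eval r ≠ 0 := by
      by_contra h
      push Not at h
      exact hQ (Polynomial.funext fun r => by simp [h r])
    rw [Polynomial.eval_prod, Finset.prod_ne_zero_iff] at hr
    exact ⟨m0 + r • (m1 - m0), fun i hi => by rw [← hP]; exact hr i hi⟩

theorem exists_top (lv : Fin pb.dim → k) : ∃ m : A, ∀ i : Fin pb.dim, top' pb (m * pb.gen ^ (i : ℕ)) = lv i := by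
  have := pb.finite
  let L : A →ₗ[k] (Fin pb.dim → k) := LinearMap.pi fun i => (top' pb).comp (LinearMap.mulRight k (pb.gen ^ (i : ℕ)))
  have hinj : Function.Injective L := by
    rw [← LinearMap.ker_eq_bot, Submodule.eq_bot_iff]
    exact fun y hy => eq_zero_of_top pb fun i hi => congrFun (LinearMap.mem_ker.mp hy) ⟨i, hi⟩
  obtain ⟨m, hm⟩ := (LinearMap.injective_iff_surjective_of_finrank_eq_finrank
    (by rw [Module.finrank_fin_fun, pb.finrank])).mp hinj lv
  exact ⟨m, fun i => congrFun hm i⟩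

theorem exists_good : ∃ m : A, Good pb m := by
  classical
  let D : Bool × ℕ → A → k := fun i m => (gram pb (if i.1 then m * pb.gen else m) i.2).det
  obtain ⟨m, hm⟩ := exists_ne_of_lines
    ((Finset.range (pb.dim + 1)).image (Prod.mk false) ∪ (Finset.range pb.dim).image (Prod.mk true)) D
    (fun i x y => by
      rcases i with ⟨_ | _, j⟩
      · exact gram_line pb x y j
      · obtain ⟨P, hP⟩ := gram_line pb (x * pb.gen) (y * pb.gen) j
        exact ⟨P, fun r => by simp [D, hP, add_mul, smul_mul_assoc]⟩)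
    (fun i hi => by
      simp only [Finset.mem_union, Finset.mem_image, Finset.mem_range] at hi
      rcases hi with ⟨j, hj, rfl⟩ | ⟨j, hj, rfl⟩
      · obtain ⟨m, hm⟩ := exists_top pb fun l => if (l : ℕ) + 1 = j then 1 else 0
        refine ⟨m, gram_ne_of_anti pb (fun l hl => ?_) fun l hl => ?_⟩
        · exact (hm ⟨l, by omega⟩).trans (if_neg (by simp; omega))
        · exact (hm ⟨l, by omega⟩).trans (if_pos hl)
      · obtain ⟨m, hm⟩ := exists_top pb fun l => if (l : ℕ) = j then 1 else 0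
        refine ⟨m, gram_ne_of_anti pb (fun l hl => ?_) fun l hl => ?_⟩
        · simp only [mul_assoc, ← pow_succ', if_true]
          exact (hm ⟨l + 1, by omega⟩).trans (if_neg (by simp; omega))
        · simp only [mul_assoc, ← pow_succ', if_true]
          exact (hm ⟨l + 1, by omega⟩).trans (if_pos hl))
  refine ⟨m, fun j hj => ?_, fun j hj => ?_⟩
  · exact hm (false, j) (Finset.mem_union_left _ (Finset.mem_image_of_mem _ (Finset.mem_range.mpr (by omega))))
  · exact hm (true, j) (Finset.mem_union_right _ (Finset.mem_image_of_mem _ (Finset.mem_range.mpr hj)))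

theorem good_unit {m : A} (hm : Good pb m) : IsUnit m := by
  have := pb.finite
  have hinj : Function.Injective (LinearMap.mulLeft k m) := by
    rw [← LinearMap.ker_eq_bot, Submodule.eq_bot_iff]
    intro x hx
    rw [LinearMap.mem_ker, LinearMap.mulLeft_apply] at hx
    exact eq_zero_of_gram pb (hm.1 _ le_rfl) (low_top pb ▸ Submodule.mem_top) fun i _ => by simp [hx]
  obtain ⟨b, hb⟩ := LinearMap.injective_iff_surjective.mp hinj (1 : A)
  exact IsUnit.of_mul_eq_one b hb

theorem scalar_of_top {y : A} (h : ∀ i, i + 1 < pb.dim → top' pb (y * pb.gen ^ i) = 0) :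
    ∃ c : k, y = algebraMap k A c := by
  refine ⟨top' pb (y * pb.gen ^ (pb.dim - 1)), sub_eq_zero.mp (eq_zero_of_top pb fun i hi => ?_)⟩
  rw [sub_mul, map_sub, ← Algebra.smul_def, map_smul, top_pow pb hi, smul_eq_mul]
  by_cases hl : i + 1 = pb.dim
  · rw [if_pos hl, mul_one, show i = pb.dim - 1 by omega, sub_self]
  · rw [if_neg hl, mul_zero, h i (by omega), sub_zero]

variable (hZ : IsUnit pb.gen)
include hZ

theorem stage {m : A} (hm : Good pb m) {j : ℕ} (hj1 : 1 ≤ j) (hj : j ≤ pb.dim) :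
    ∃ g ∈ gam k Z, ∃ x ∈ low pb j, x ≠ 0 ∧ (g : Matrix (Fin 2) (Fin 2) A) 1 0 = pb.gen * x ∧
      (∀ i, i + 1 < j → top' pb (m * pb.gen * x * pb.gen ^ i) = 0) ∧
      (∀ i, i + 1 < j → top' pb (m * (g : Matrix (Fin 2) (Fin 2) A) 0 0 * pb.gen ^ i) = 0) ∧
      ∃ y ∈ low pb (j - 1), (g : Matrix (Fin 2) (Fin 2) A) 0 0 = 1 + pb.gen * y := by
  induction j, hj1 using Nat.le_induction with
  | base =>
    refine ⟨lom (algebraMap k A 1 * Z), gam_lo _ 1, 1, ?_, ?_, by simp [lom_coe], fun i hi => by omega,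
      fun i hi => by omega, 0, zero_mem _, by simp [lom_coe]⟩
    · simpa using pow_mem_low pb (Nat.one_pos)
    · intro h
      exact hm.1 1 hj (by
        have : m = 0 := by rw [← mul_one m, h, mul_zero]
        simp [gram, this, Matrix.det_unique])
  | succ j hj1 ih =>
    obtain ⟨g, hg, x, hx, hx0, hg10, hx1, hg1, y, hy, hg00⟩ := ih (by omega)
    have hs : top' pb (m * pb.gen * x * pb.gen ^ (j - 1)) ≠ 0 := by
      intro h
      refine hx0 (eq_zero_of_gram pb (hm.2 j (by omega)) hx fun i hi => ?_)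
      rcases eq_or_ne i (j - 1) with rfl | hne
      · exact h
      · exact hx1 i (by omega)
    set s := -top' pb (m * (g : Matrix (Fin 2) (Fin 2) A) 0 0 * pb.gen ^ (j - 1)) /
      top' pb (m * pb.gen * x * pb.gen ^ (j - 1)) with hs'
    have ha : ∀ i < j, top' pb (m * ((g : Matrix (Fin 2) (Fin 2) A) 0 0 + algebraMap k A s * (pb.gen * x)) *
        pb.gen ^ i) = 0 := by
      intro i hi
      have e : m * ((g : Matrix (Fin 2) (Fin 2) A) 0 0 + algebraMap k A s * (pb.gen * x)) * pb.gen ^ i =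
          m * (g : Matrix (Fin 2) (Fin 2) A) 0 0 * pb.gen ^ i + s • (m * pb.gen * x * pb.gen ^ i) := by
        rw [Algebra.smul_def]; ring
      rw [e, map_add, map_smul, smul_eq_mul]
      rcases eq_or_ne i (j - 1) with rfl | hne
      · rw [hs', div_mul_cancel₀ _ hs, add_neg_cancel]
      · rw [hg1 i (by omega), hx1 i (by omega), mul_zero, add_zero]
    set a := (g : Matrix (Fin 2) (Fin 2) A) 0 0 + algebraMap k A s * (pb.gen * x) with ha'
    have hy' : y + s • x ∈ low pb j := add_mem (low_mono pb (by omega) hy) (Submodule.smul_mem _ _ hx)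
    have hae : a = 1 + pb.gen * (y + s • x) := by rw [ha', hg00, Algebra.smul_def]; ring
    have halow : a ∈ low pb (j + 1) := by
      rw [hae]
      exact add_mem (by simpa using pow_mem_low pb (Nat.succ_pos j)) (gen_mul_low pb hy')
    have ha0 : a ≠ 0 := by
      intro h
      have : pb.gen * (-(y + s • x)) = 1 := by linear_combination -(hae.symm.trans h)
      have hlow : (1 : A) ∈ Submodule.span k (Set.range fun i : Fin j => pb.gen ^ ((i : ℕ) + 1)) := by
        rw [← this]
        have hmap : (low pb j).map (LinearMap.mulLeft k pb.gen) =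
            Submodule.span k (Set.range fun i : Fin j => pb.gen ^ ((i : ℕ) + 1)) := by
          rw [low, Submodule.map_span, ← Set.range_comp]
          congr 1
          exact congrArg Set.range (funext fun i => by simp [pow_succ'])
        rw [← hmap]
        exact Submodule.mem_map_of_mem (neg_mem hy')
      have h1 : (1 : A) = pb.basis ⟨0, by omega⟩ := by rw [pb.basis_eq_pow]; simp
      rw [h1, show (Set.range fun i : Fin j => pb.gen ^ ((i : ℕ) + 1)) =
        pb.basis '' Set.range (fun i : Fin j => (⟨(i : ℕ) + 1, by omega⟩ : Fin pb.dim)) from by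
          rw [← Set.range_comp]
          exact congrArg Set.range (funext fun i => by simp [pb.basis_eq_pow])] at hlow
      have hsup := pb.basis.mem_span_image.mp hlow
      rw [Module.Basis.repr_self, Finsupp.support_single _ one_ne_zero] at hsup
      obtain ⟨i, hi⟩ := hsup (Finset.mem_coe.mpr (Finset.mem_singleton_self _))
      simp [Fin.ext_iff] at hi
    have ht : top' pb (m * a * pb.gen ^ j) ≠ 0 := by
      intro h
      refine ha0 (eq_zero_of_gram pb (hm.1 (j + 1) hj) halow fun i hi => ?_)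
      rcases eq_or_ne i j with rfl | hne
      · exact h
      · exact ha i (by omega)
    set t := -top' pb (m * pb.gen * x * pb.gen ^ (j - 1)) / top' pb (m * a * pb.gen ^ j) with ht'
    refine ⟨lom (algebraMap k A t * Z) * (upm (algebraMap k A s) * g),
      mul_mem (gam_lo _ t) (mul_mem (gam_up _ s) hg), x + t • a,
      add_mem (low_mono pb (by omega) hx) (Submodule.smul_mem _ _ halow), ?_, ?_, fun i hi => ?_, fun i hi => ?_,
      y + s • x, by simpa using hy', ?_⟩
    · intro h
      have ht0 : t ≠ 0 := div_ne_zero (neg_ne_zero.mpr hs) ht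
      have hA : a ∈ low pb j := by
        have : a = t⁻¹ • (-x) := by
          rw [eq_neg_of_add_eq_zero_left h, neg_neg, inv_smul_smul₀ ht0]
        rw [this]
        exact Submodule.smul_mem _ _ (neg_mem hx)
      exact ha0 (eq_zero_of_gram pb (hm.1 j (by omega)) hA ha)
    · simp [mul_entry, lom_coe, upm_coe, hg10, Algebra.smul_def, ha']
      ring
    · rw [mul_add, add_mul, map_add, mul_smul_comm, smul_mul_assoc, map_smul, smul_eq_mul,
        show m * pb.gen * a * pb.gen ^ i = m * a * pb.gen ^ (i + 1) by ring]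
      rcases eq_or_ne i (j - 1) with rfl | hne
      · rw [show j - 1 + 1 = j by omega, ht', div_mul_cancel₀ _ ht, add_neg_cancel]
      · rw [hx1 i (by omega), ha (i + 1) (by omega), mul_zero, add_zero]
    · convert ha i (by omega) using 3
      simp [mul_entry, lom_coe, upm_coe, hg10, ha']
    · rw [← hae]
      simp [mul_entry, lom_coe, upm_coe, hg10, ha']

theorem antidiag {m : A} (hm : Good pb m) (hn : 1 ≤ pb.dim) :
    ∃ g ∈ gam k Z, ∃ c : k, c ≠ 0 ∧ (g : Matrix (Fin 2) (Fin 2) A) 0 0 = 0 ∧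
      m * (g : Matrix (Fin 2) (Fin 2) A) 1 0 = algebraMap k A c := by
  obtain ⟨g, hg, x, hx, hx0, hg10, hx1, hg1, -⟩ := stage pb hZ hm hn le_rfl
  obtain ⟨c, hc⟩ := scalar_of_top pb (y := m * pb.gen * x) hx1
  obtain ⟨a, ha⟩ := scalar_of_top pb (y := m * (g : Matrix (Fin 2) (Fin 2) A) 0 0) hg1
  have hu := good_unit pb hm
  have hc0 : c ≠ 0 := by
    rintro rfl
    rw [map_zero] at hc
    exact hx0 ((hu.mul hZ).mul_right_eq_zero.mp hc)
  refine ⟨upm (algebraMap k A (-a / c)) * g, mul_mem (gam_up _ _) hg, c, hc0, ?_, ?_⟩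
  · refine hu.mul_right_eq_zero.mp ?_
    simp only [mul_entry, upm_coe, Matrix.of_apply, Matrix.cons_val', Matrix.cons_val_zero, Matrix.cons_val_one,
      Matrix.cons_val_fin_one, one_mul, hg10]
    rw [mul_add, ha, show m * (algebraMap k A (-a / c) * (pb.gen * x)) = algebraMap k A (-a / c) * (m * pb.gen * x)
      by ring, hc, ← map_mul, ← map_add, div_mul_cancel₀ _ hc0, add_neg_cancel, map_zero]
  · simp only [mul_entry, upm_coe, Matrix.of_apply, Matrix.cons_val', Matrix.cons_val_zero, Matrix.cons_val_one,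
      Matrix.cons_val_fin_one, zero_mul, one_mul, zero_add, hg10]
    rw [← mul_assoc, hc]

theorem full_infinite (h2 : (2 : k) ≠ 0) (x : A) :
    upm x ∈ gam k Z ∧ lom x ∈ gam k Z := by
  rcases Nat.eq_zero_or_pos pb.dim with h0 | hn
  · have : ∀ y : A, y = 0 := fun y => by
      have := (low_top pb) ▸ (Submodule.mem_top : y ∈ (⊤ : Submodule k A))
      rw [h0, low] at this
      simpa [Set.range_eq_empty] using this
    rw [this x, upm_zero, lom_zero]; exact ⟨one_mem _, one_mem _⟩
  have key : ∀ m : A, Good pb m → ∀ c : k, upm (algebraMap k A c * (pb.gen * m ^ 2)) ∈ gam k Z := by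
    intro m hm c
    obtain ⟨g, hg, q, hq, h00, h10⟩ := antidiag pb hZ hm hn
    have hdet := det_one g
    rw [h00, zero_mul, zero_sub] at hdet
    have e : g⁻¹ * lom (algebraMap k A (-(c * q ^ 2)) * Z) * g = upm (algebraMap k A c * (pb.gen * m ^ 2)) := by
      have e1 : (g : Matrix (Fin 2) (Fin 2) A) 0 1 * algebraMap k A q = -m := by
        rw [← h10]; linear_combination -m * hdet
      refine sl_ext ?_ ?_ ?_ ?_ <;> simp [mul_entry, inv_entry, Matrix.adjugate_fin_two, lom_coe, upm_coe, h00]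
      · linear_combination hdet
      · linear_combination (pb.gen * algebraMap k A c) *
          ((g : Matrix (Fin 2) (Fin 2) A) 0 1 * algebraMap k A q - m) * e1
      · linear_combination hdet
    rw [← e]
    exact mul_mem (mul_mem (inv_mem hg) (gam_lo _ _)) hg
  let P : Submodule k A :=
    { carrier := {y | ∀ c : k, upm (algebraMap k A c * y) ∈ gam k Z}
      zero_mem' := fun c => by rw [mul_zero, upm_zero]; exact one_mem _
      add_mem' := fun {a b} ha hb c => by rw [mul_add, upm_add]; exact mul_mem (ha c) (hb c)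
      smul_mem' := fun r a ha c => by rw [Algebra.smul_def, ← mul_assoc, ← map_mul]; exact ha _ }
  obtain ⟨m, hm⟩ := exists_good pb
  have sq : ∀ y : A, pb.gen * y ^ 2 ∈ P := by
    intro y
    obtain ⟨Q, hQ⟩ := good_line pb m y
    have hQ0 : Q ≠ 0 := fun h => by
      have := (hQ 0).mpr (by simpa using hm)
      simp [h] at this
    have hfin : {r : k | ¬ Good pb (m + r • y)}.Finite := by
      refine (Polynomial.finite_setOf_isRoot hQ0).subset fun r hr => ?_
      by_contra h
      exact hr ((hQ r).mp h)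
    have hinf := hfin.infinite_compl
    obtain ⟨a, ha, -⟩ := hinf.exists_notMem_finite (Set.finite_empty)
    obtain ⟨b, hb, hba⟩ := hinf.exists_notMem_finite (Set.finite_singleton a)
    obtain ⟨c, hc, hca⟩ := hinf.exists_notMem_finite ((Set.finite_singleton a).insert b)
    simp only [Set.mem_compl_iff, Set.mem_setOf_eq, not_not] at ha hb hc
    simp only [Set.mem_singleton_iff, Set.mem_insert_iff, not_or] at hba hca
    have hne : (b - a) * (c - a) * (c - b) ≠ 0 :=
      mul_ne_zero (mul_ne_zero (sub_ne_zero.mpr hba) (sub_ne_zero.mpr hca.2)) (sub_ne_zero.mpr hca.1)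
    have hmem : ((b - a) * (c - a) * (c - b)) • (pb.gen * y ^ 2) ∈ P := by
      have : ((b - a) * (c - a) * (c - b)) • (pb.gen * y ^ 2) =
          (c - b) • (pb.gen * (m + a • y) ^ 2) + (a - c) • (pb.gen * (m + b • y) ^ 2) +
            (b - a) • (pb.gen * (m + c • y) ^ 2) := by
        simp only [Algebra.smul_def, map_mul, map_sub]
        ring
      rw [this]
      exact add_mem (add_mem (P.smul_mem _ (key _ ha)) (P.smul_mem _ (key _ hb))) (P.smul_mem _ (key _ hc))
    exact (P.smul_mem_iff hne).mp hmem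
  have hP : ∀ y : A, upm y ∈ gam k Z := by
    intro y
    obtain ⟨b, hb⟩ := hZ.exists_right_inv
    have h := sub_mem (sq (1 + y * b)) (add_mem (sq 1) (sq (y * b)))
    have e : pb.gen * (1 + y * b) ^ 2 - (pb.gen * 1 ^ 2 + pb.gen * (y * b) ^ 2) = (2 : k) • y := by
      rw [Algebra.smul_def, map_ofNat]
      linear_combination (2 * y) * hb
    rw [e, P.smul_mem_iff h2] at h
    simpa using h 1
  obtain ⟨g, hg, q, hq, h00, h10⟩ := antidiag pb hZ hm hn
  refine ⟨hP x, ?_⟩
  set e10 := (g : Matrix (Fin 2) (Fin 2) A) 1 0 with he10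
  have hu10 : IsUnit e10 := by
    have : IsUnit (algebraMap k A q) := (isUnit_iff_ne_zero.mpr hq).map _
    rw [← h10] at this
    exact isUnit_of_mul_isUnit_right this
  obtain ⟨f, hf⟩ := hu10.exists_right_inv
  have hdet := det_one g
  rw [h00, zero_mul, zero_sub] at hdet
  have e : g * upm (-(x * f ^ 2)) * g⁻¹ = lom x := by
    refine sl_ext ?_ ?_ ?_ ?_ <;> simp [mul_entry, inv_entry, Matrix.adjugate_fin_two, lom_coe, upm_coe, h00, ← he10]
    · linear_combination hdet
    · linear_combination x * (e10 * f + 1) * hf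
    · linear_combination hdet
  rw [← e]
  exact mul_mem (mul_mem hg (hP _)) (inv_mem hg)

end inf

end CfsgLib.QuadPair
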