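/-
Generation of `SL(2, A)` root groups by `upm k` and `lom (k Z)` for a finite algebra `A = k[Z]`,
by induction along a minimal ideal.
-/
import Mathlib
import Cfsg.Agent.Lib.QuadPair.SL2Ring
import Cfsg.Agent.Lib.QuadPair.Five

set_option autoImplicit false
set_option linter.unusedSectionVars false

open Matrix

namespace CfsgLib.QuadPair

section field

variable {k : Type*} [Field k] {F : Type*} [Field F] [Finite F] [Algebra k F]

theorem full_field (h2 : (2 : k) ≠ 0) (h3 : Nat.card k ≠ 3) {z : F} (hz : z ≠ 0)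
    (hgen : Algebra.adjoin k ({z} : Set F) = ⊤) : gam k z = ⊤ := by
  have hinj := (algebraMap k F).injective
  have : Finite k := Finite.of_injective _ hinj
  let W : AddSubgroup F := (algebraMap k F).toAddMonoidHom.range
  have hW : ∀ w ∈ W, CfsgLib.SL2.up w ∈ gam k z := by
    rintro _ ⟨c, rfl⟩
    have e : CfsgLib.SL2.up (algebraMap k F c) = upm (algebraMap k F c) := Subtype.ext (CfsgLib.SL2.up_coe _)
    exact e ▸ gam_up z c
  have hlo : CfsgLib.SL2.lo z ∈ gam k z := by
    have e : CfsgLib.SL2.lo z = lom z := Subtype.ext (CfsgLib.SL2.lo_coe _)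
    have := gam_lo (k := k) z 1
    rw [map_one, one_mul] at this
    exact e ▸ this
  have hcard : Nat.card W = Nat.card k :=
    (Nat.card_congr (AddMonoidHom.ofInjective (f := (algebraMap k F).toAddMonoidHom) hinj).toEquiv).symm
  have hK : ∀ K : Subfield F, (∀ w ∈ W, z * w ∈ K) → K = ⊤ := by
    intro K hK
    have hz' : z ∈ K := by simpa using hK 1 ⟨1, map_one (algebraMap k F)⟩
    have hc : ∀ c : k, algebraMap k F c ∈ K := fun c => by
      have := K.mul_mem (K.inv_mem hz') (hK _ ⟨c, rfl⟩)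
      rwa [← mul_assoc, inv_mul_cancel₀ hz, one_mul] at this
    let S : Subalgebra k F := { K.toSubring.toSubsemiring with algebraMap_mem' := hc }
    have hS : S = ⊤ := top_le_iff.mp (hgen ▸ Algebra.adjoin_le (Set.singleton_subset_iff.mpr hz'))
    exact SetLike.ext fun x => iff_of_true (show x ∈ S from hS ▸ Algebra.mem_top) (Subfield.mem_top x)
  obtain ⟨p, hchar⟩ := CharP.exists k
  let _ := Fintype.ofFinite k
  obtain ⟨f, hp, hc⟩ := FiniteField.card k p
  rw [Fintype.card_eq_nat_card] at hc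
  have hp2 : p ≠ 2 := by
    rintro rfl
    exact h2 (by exact_mod_cast CharP.cast_eq_zero k 2)
  have hk5 : Nat.card k = 5 ∨ 5 < Nat.card k := by
    have h3p : 3 ≤ p := by have := hp.two_le; omega
    have hle : p ≤ Nat.card k := hc ▸ Nat.le_self_pow f.ne_zero p
    have hodd : Odd (Nat.card k) := hc ▸ (hp.odd_of_ne_two hp2).pow
    obtain ⟨r, hr⟩ := hodd
    omega
  rcases hk5 with h5 | h5
  · refine CfsgLib.SL2.eq_top_of_up_lo_five W hW hz hlo (hcard.trans h5) ?_ hK
    have hp5 : p = 5 := by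
      have h1 : p ∣ 5 := by rw [← h5, hc]; exact dvd_pow_self p f.ne_zero
      exact (Nat.prime_dvd_prime_iff_eq hp Nat.prime_five).1 h1
    subst hp5
    rw [← map_ofNat (algebraMap k F) 5, show (5 : k) = 0 from by exact_mod_cast CharP.cast_eq_zero k 5, map_zero]
  · exact CfsgLib.SL2.eq_top_of_up_lo' W hW hz hlo (Or.inl (hcard ▸ h5)) hK

end field

section step

variable {k : Type*} [Field k] {A : Type*} [CommRing A] [Algebra k A] [Finite A]
variable (Z : A) (I : Ideal A)

local notation "SL2" => Matrix.SpecialLinearGroup (Fin 2) A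
local notation "M2" => Matrix (Fin 2) (Fin 2) A

/-- Congruence modulo an ideal. -/
def cgr (J : Ideal A) : Matrix.SpecialLinearGroup (Fin 2) A →* Matrix.SpecialLinearGroup (Fin 2) (A ⧸ J) :=
  Matrix.SpecialLinearGroup.map (Ideal.Quotient.mk J)

theorem cgr_eq_iff {J : Ideal A} {g h : SL2} :
    cgr J g = cgr J h ↔ ∀ i j, (g : M2) i j - (h : M2) i j ∈ J := by
  constructor
  · intro e i j
    exact Ideal.Quotient.eq.mp (congrFun (congrFun (congrArg Subtype.val e) i) j)
  · intro e
    exact Subtype.ext (Matrix.ext fun i j => Ideal.Quotient.eq.mpr (e i j))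

theorem cgr_upm {J : Ideal A} {x y : A} (h : x - y ∈ J) : cgr J (upm x) = cgr J (upm y) :=
  cgr_eq_iff.mpr fun i j => by fin_cases i <;> fin_cases j <;> simp [upm_coe, h]

theorem cgr_lom {J : Ideal A} {x y : A} (h : x - y ∈ J) : cgr J (lom x) = cgr J (lom y) :=
  cgr_eq_iff.mpr fun i j => by fin_cases i <;> fin_cases j <;> simp [lom_coe, h]

variable (k) in
/-- The congruence kernel inside `gam k Z`. -/
def ck : Subgroup (Matrix.SpecialLinearGroup (Fin 2) A) := gam k Z ⊓ (cgr I).ker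

variable (k) in
/-- Hypotheses of the inductive step. -/
structure Hyp : Prop where
  two : (2 : k) ≠ 0
  three : Nat.card k ≠ 3
  unit : IsUnit Z
  adjoin : Algebra.adjoin k ({Z} : Set A) = ⊤
  atom : IsAtom I
  lift : ∀ J : Ideal A, J ≠ ⊥ → ∀ x : A, (∃ g ∈ gam k Z, cgr J g = cgr J (upm x)) ∧
    ∃ g ∈ gam k Z, cgr J g = cgr J (lom x)
  ann : ∃ a : A, a ≠ 0 ∧ ∀ i ∈ I, a * i = 0

variable {Z I}

theorem ck_iff {g : SL2} :
    g ∈ ck k Z I ↔ g ∈ gam k Z ∧ (g : M2) 0 0 - 1 ∈ I ∧ (g : M2) 0 1 ∈ I ∧ (g : M2) 1 0 ∈ I ∧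
      (g : M2) 1 1 - 1 ∈ I := by
  rw [ck, Subgroup.mem_inf, MonoidHom.mem_ker, ← map_one (cgr I), cgr_eq_iff]
  refine and_congr Iff.rfl ⟨fun h => ?_, fun h i j => ?_⟩
  · exact ⟨by simpa using h 0 0, by simpa using h 0 1, by simpa using h 1 0, by simpa using h 1 1⟩
  · fin_cases i <;> fin_cases j <;> simp [h.1, h.2.1, h.2.2.1, h.2.2.2]

theorem span_eq (H : Hyp k Z I) {c : A} (hc : c ∈ I) (h0 : c ≠ 0) {i : A} (hi : i ∈ I) : ∃ y, y * c = i := by
  have h : Ideal.span {c} = I :=
    (H.atom.le_iff.mp ((Ideal.span_singleton_le_iff_mem I).mpr hc)).resolve_left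
      (mt Ideal.span_singleton_eq_bot.mp h0)
  exact Ideal.mem_span_singleton'.mp (h.symm ▸ hi)

theorem sq_or_unit (H : Hyp k Z I) :
    (∀ i ∈ I, ∀ j ∈ I, i * j = 0) ∨ ∃ e ∈ I, ∀ i ∈ I, e * i = i := by
  by_cases h : ∀ i ∈ I, ∀ j ∈ I, i * j = 0
  · exact Or.inl h
  push Not at h
  obtain ⟨c, hc, j, hj, hcj⟩ := h
  obtain ⟨y, hy⟩ := span_eq H (I.mul_mem_right j hc) hcj hc
  refine Or.inr ⟨y * j, I.mul_mem_left y hj, fun i hi => ?_⟩
  obtain ⟨z, rfl⟩ := span_eq H hc (left_ne_zero_of_mul hcj) hi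
  calc y * j * (z * c) = z * (y * (c * j)) := by ring
    _ = z * c := by rw [hy]

theorem normalize (H : Hyp k Z I) (x : A) :
    upm x ∈ Subgroup.normalizer ((ck k Z I : Subgroup SL2) : Set SL2) ∧
      lom x ∈ Subgroup.normalizer ((ck k Z I : Subgroup SL2) : Set SL2) := by
  obtain ⟨a, ha0, ha⟩ := H.ann
  set J : Ideal A :=
    { carrier := {b | ∀ i ∈ I, b * i = 0}
      zero_mem' := fun i _ => zero_mul i
      add_mem' := fun {u v} hu hv i hi => by rw [add_mul, hu i hi, hv i hi, add_zero]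
      smul_mem' := fun r u hu i hi => by rw [smul_eq_mul, mul_assoc, hu i hi, mul_zero] } with hJ
  have hJ0 : J ≠ ⊥ := fun h => ha0 ((Submodule.eq_bot_iff J).mp h a ha)
  have key : ∀ g : SL2, (∃ c ∈ gam k Z, cgr J c = cgr J g) → ∀ q ∈ ck k Z I, g * q * g⁻¹ ∈ ck k Z I := by
    rintro g ⟨c, hc, hcg⟩ q hq
    obtain ⟨d, hd⟩ : ∃ d, d = c⁻¹ * g := ⟨_, rfl⟩
    have hd1 : cgr J d = cgr J 1 := by rw [hd, map_mul, map_inv, hcg, inv_mul_cancel, map_one]
    have hdJ := cgr_eq_iff.mp hd1
    obtain ⟨hqG, q00, q01, q10, q11⟩ := ck_iff.mp hq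
    have hcomm : d * q = q * d := by
      refine Subtype.ext ?_
      simp only [Matrix.SpecialLinearGroup.coe_mul]
      have hz : ∀ (u v : M2), (∀ i j, u i j ∈ J) → (∀ i j, v i j ∈ I) → u * v = 0 ∧ v * u = 0 := by
        intro u v hu hv
        constructor <;> ext i j <;> rw [Matrix.mul_apply, Matrix.zero_apply] <;>
          refine Finset.sum_eq_zero fun l _ => ?_
        · exact hu i l _ (hv l j)
        · rw [mul_comm]; exact hu l j _ (hv i l)
      obtain ⟨h1, h2⟩ := hz ((d : M2) - 1) ((q : M2) - 1) (fun i j => by simpa using hdJ i j)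
        (fun i j => by fin_cases i <;> fin_cases j <;> simp [q00, q01, q10, q11])
      linear_combination (norm := noncomm_ring) h1 - h2
    have e : g * q * g⁻¹ = c * q * c⁻¹ := by
      rw [show g = c * d by rw [hd, mul_inv_cancel_left], mul_assoc c d q, hcomm]
      group
    rw [e]
    exact Subgroup.mem_inf.mpr ⟨mul_mem (mul_mem hc hqG) (inv_mem hc),
      (MonoidHom.normal_ker (cgr I)).conj_mem q hq.2 c⟩
  constructor <;> rw [Subgroup.mem_normalizer_iff] <;> intro q <;> refine ⟨key _ ?_ q, fun h => ?_⟩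
  · exact (H.lift J hJ0 x).1
  · have := key (upm (-x)) (H.lift J hJ0 (-x)).1 _ h
    simpa [upm_neg, mul_assoc] using this
  · exact (H.lift J hJ0 x).2
  · have := key (lom (-x)) (H.lift J hJ0 (-x)).2 _ h
    simpa [lom_neg, mul_assoc] using this

theorem conj_ck (H : Hyp k Z I) {g : SL2}
    (hg : g ∈ Subgroup.normalizer ((ck k Z I : Subgroup SL2) : Set SL2)) {q : SL2} (hq : q ∈ ck k Z I) :
    g * q * g⁻¹ ∈ ck k Z I := (Subgroup.mem_normalizer_iff.mp hg q).mp hq

theorem comm_ck (H : Hyp k Z I) {g : SL2}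
    (hg : g ∈ Subgroup.normalizer ((ck k Z I : Subgroup SL2) : Set SL2)) {q : SL2} (hq : q ∈ ck k Z I) :
    g * q * g⁻¹ * q⁻¹ ∈ ck k Z I := mul_mem (conj_ck H hg hq) (inv_mem hq)

theorem exists_lam (h2 : (2 : k) ≠ 0) (h3 : Nat.card k ≠ 3) [Finite k] :
    (∃ l : k, l ≠ 0 ∧ l ^ 2 ≠ 1) ∧ ∃ l : k, l ≠ 0 ∧ 2 + l ^ 2 ≠ 0 := by
  classical
  let _ := Fintype.ofFinite k
  have hne : (1 : k) ≠ -1 := fun h => h2 (by linear_combination h)
  have hcard : 3 < Nat.card k := by
    have : ({0, 1, -1} : Finset k).card = 3 := by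
      rw [Finset.card_eq_three]
      exact ⟨0, 1, -1, zero_ne_one, (neg_ne_zero.mpr one_ne_zero).symm, hne, rfl⟩
    have := Finset.card_le_univ ({0, 1, -1} : Finset k)
    rw [Nat.card_eq_fintype_card] at h3 ⊢
    omega
  obtain ⟨l, hl⟩ : ∃ l : k, l ∉ ({0, 1, -1} : Finset k) := by
    by_contra h
    push Not at h
    have := Finset.card_le_card (s := (Finset.univ : Finset k)) (t := {0, 1, -1}) fun x _ => h x
    rw [Finset.card_univ, ← Nat.card_eq_fintype_card] at this
    have h33 : ({0, 1, -1} : Finset k).card ≤ 3 := Finset.card_le_three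
    omega
  simp only [Finset.mem_insert, Finset.mem_singleton, not_or] at hl
  have hl1 : l ^ 2 ≠ 1 := by
    rw [Ne, sq_eq_one_iff]; tauto
  refine ⟨⟨l, hl.1, hl1⟩, ?_⟩
  by_cases h : (2 : k) + 1 = 0
  · exact ⟨l, hl.1, fun h' => hl1 (by linear_combination h' - h)⟩
  · exact ⟨1, one_ne_zero, by simpa using h⟩

theorem lam_unit {l : k} (hl : l ≠ 0) : ∃ u : Aˣ, (u : A) = algebraMap k A l :=
  ⟨((isUnit_iff_ne_zero.mpr hl).map (algebraMap k A)).unit, rfl⟩

theorem wm_normalize (H : Hyp k Z I) (u : Aˣ) :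
    wm u ∈ Subgroup.normalizer ((ck k Z I : Subgroup SL2) : Set SL2) :=
  wm_mem (fun x => (normalize H x).1) (fun x => (normalize H x).2) u

theorem dia_normalize (H : Hyp k Z I) (u : Aˣ) :
    dia u ∈ Subgroup.normalizer ((ck k Z I : Subgroup SL2) : Set SL2) :=
  dia_mem (fun x => (normalize H x).1) (fun x => (normalize H x).2) u

/-- Not a scalar. -/
def NS (q : Matrix.SpecialLinearGroup (Fin 2) A) : Prop :=
  ¬ ((q : Matrix (Fin 2) (Fin 2) A) 0 1 = 0 ∧ (q : Matrix (Fin 2) (Fin 2) A) 1 0 = 0 ∧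
    (q : Matrix (Fin 2) (Fin 2) A) 0 0 = (q : Matrix (Fin 2) (Fin 2) A) 1 1)

variable (k Z I) in
/-- A non-trivial upper element of the kernel. -/
def HasUp : Prop := ∃ i ∈ I, i ≠ 0 ∧ upm i ∈ ck k Z I

theorem hasUp_of_upm (H : Hyp k Z I) {x : A} (hx : x ≠ 0) (h : upm x ∈ ck k Z I) : HasUp k Z I := by
  refine ⟨x, ?_, hx, h⟩
  simpa [upm_coe] using (ck_iff.mp h).2.2.1

theorem hasUp_tri [Finite k] (H : Hyp k Z I) {q : SL2} (hq : q ∈ ck k Z I) (hc : (q : M2) 1 0 = 0)
    (hns : NS q) : HasUp k Z I := by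
  set a := (q : M2) 0 0
  set b := (q : M2) 0 1
  set d := (q : M2) 1 1
  have hdet : a * d = 1 := by
    have := det_one q
    rw [hc, mul_zero, sub_zero] at this
    exact this
  by_cases ha : a ^ 2 = 1
  · have hda : d = a := by linear_combination (-d) * ha + a * hdet
    have hb : b ≠ 0 := fun hb => hns ⟨hb, hc, hda.symm⟩
    obtain ⟨l, hl, hl1⟩ := (exists_lam H.two H.three).1
    obtain ⟨u, hu⟩ := lam_unit (A := A) hl
    have e : dia u * q * (dia u)⁻¹ * q⁻¹ = upm (algebraMap k A (l ^ 2 - 1) * (a * b)) := by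
      have hu' : (u : A) * ((u⁻¹ : Aˣ) : A) = 1 := u.mul_inv
      refine sl_ext ?_ ?_ ?_ ?_ <;>
        simp [mul_entry, inv_entry, Matrix.adjugate_fin_two, dia_coe, upm_coe, hc, map_sub, map_pow, ← hu]
      · linear_combination ((u : A) * ((u⁻¹ : Aˣ) : A)) * hdet + hu'
      · linear_combination (-(a * b)) * hu'
      · linear_combination ((u : A) * ((u⁻¹ : Aˣ) : A)) * hdet + hu'
    refine hasUp_of_upm H ?_ (e ▸ comm_ck H (dia_normalize H u) hq)
    intro h0
    have h1 : IsUnit (algebraMap k A (l ^ 2 - 1)) := (isUnit_iff_ne_zero.mpr (sub_ne_zero.mpr hl1)).map _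
    have h3 : a * b = 0 := h1.mul_right_eq_zero.mp h0
    exact hb (by linear_combination d * h3 - b * hdet)
  · have e : q * upm 1 * q⁻¹ * (upm 1)⁻¹ = upm (a ^ 2 - 1) := by
      refine sl_ext ?_ ?_ ?_ ?_ <;> simp [mul_entry, inv_entry, Matrix.adjugate_fin_two, upm_coe, hc]
      · linear_combination hdet
      · linear_combination (-1 : A) * hdet
      · linear_combination hdet
    refine hasUp_of_upm H (sub_ne_zero.mpr ha) ?_
    rw [← e, mul_assoc, mul_assoc]
    exact mul_mem hq (by rw [← mul_assoc]; exact conj_ck H (normalize H 1).1 (inv_mem hq))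

theorem hasUp_low [Finite k] (H : Hyp k Z I) {q : SL2} (hq : q ∈ ck k Z I) (hb : (q : M2) 0 1 = 0)
    (hns : NS q) : HasUp k Z I := by
  refine hasUp_tri H (conj_ck H (wm_normalize H 1) hq) (by simp [mul_entry, inv_entry, Matrix.adjugate_fin_two, wm_coe, hb]) ?_
  intro ⟨h1, _, h3⟩
  simp [mul_entry, inv_entry, Matrix.adjugate_fin_two, wm_coe, hb] at h1 h3
  exact hns ⟨hb, h1, h3.symm⟩

theorem hasUp_trace [Finite k] (H : Hyp k Z I) {e : A} (he : e ∈ I) (hei : ∀ i ∈ I, e * i = i)
    {q : SL2} (hq : q ∈ ck k Z I) (hc : (q : M2) 1 0 ≠ 0)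
    (ht : e * ((q : M2) 0 0 + (q : M2) 1 1) ≠ 0) : HasUp k Z I := by
  obtain ⟨-, -, q01, q10, -⟩ := ck_iff.mp hq
  obtain ⟨y, hy⟩ := span_eq H q10 hc he
  set a := (q : M2) 0 0
  set c := (q : M2) 1 0
  set r := upm (-(a * y)) * q * (upm (-(a * y)))⁻¹ with hr
  have hrm : r ∈ ck k Z I := conj_ck H (normalize H _).1 hq
  obtain ⟨l, hl, hl1⟩ := (exists_lam H.two H.three).1
  obtain ⟨u, hu⟩ := lam_unit (A := A) hl
  have hu' : (u : A) * ((u⁻¹ : Aˣ) : A) = 1 := u.mul_inv
  have hee : e * e = e := hei e he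
  have r00 : (r : M2) 0 0 = a - a * e := by
    simp [hr, mul_entry, inv_entry, Matrix.adjugate_fin_two, upm_coe]
    linear_combination (-a) * hy
  have r10 : (r : M2) 1 0 = c := by
    simp [hr, mul_entry, inv_entry, Matrix.adjugate_fin_two, upm_coe]; rfl
  have r11 : (r : M2) 1 1 = (q : M2) 1 1 + a * e := by
    simp [hr, mul_entry, inv_entry, Matrix.adjugate_fin_two, upm_coe]
    linear_combination a * hy
  obtain ⟨-, -, r01, -, -⟩ := ck_iff.mp hrm
  set s := dia u * r * (dia u)⁻¹ * r⁻¹ with hs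
  have s01 : (s : M2) 0 1 = 0 := by
    have h := hei _ r01
    simp [hs, mul_entry, inv_entry, Matrix.adjugate_fin_two, dia_coe, r00]
    have h0 : (a - a * e) * (r : M2) 0 1 = 0 := by linear_combination (-a) * h
    linear_combination ((u : A) ^ 2 - (u : A) * ((u⁻¹ : Aˣ) : A)) * h0
  refine hasUp_low H (comm_ck H (dia_normalize H u) hrm) s01 fun ⟨_, h10, _⟩ => ht ?_
  simp [hs, mul_entry, inv_entry, Matrix.adjugate_fin_two, dia_coe, r00, r10, r11] at h10
  have h2 : (algebraMap k A (l ^ 2 - 1)) * (e * (a + (q : M2) 1 1)) = 0 := by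
    rw [map_sub, map_pow, map_one, ← hu]
    linear_combination (-((u : A) ^ 2) * y) * h10 +
      ((u : A) ^ 2 * (((u⁻¹ : Aˣ) : A) ^ 2 - (u : A) * ((u⁻¹ : Aˣ) : A)) * ((q : M2) 1 1 + a * e)) * hy +
      (((u : A) * ((u⁻¹ : Aˣ) : A) + 1) * e * ((q : M2) 1 1 + a * e) - (u : A) ^ 2 * e * ((q : M2) 1 1 + a * e)) * hu' +
      (-((u : A) ^ 2 - 1) * a) * hee
  exact ((isUnit_iff_ne_zero.mpr (sub_ne_zero.mpr hl1)).map (algebraMap k A)).mul_right_eq_zero.mp h2

theorem hasUp_of_ns [Finite k] (H : Hyp k Z I) {q : SL2} (hq : q ∈ ck k Z I) (hns : NS q) : HasUp k Z I := by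
  by_cases hc : (q : M2) 1 0 = 0
  · exact hasUp_tri H hq hc hns
  obtain ⟨-, q00, q01, q10, q11⟩ := ck_iff.mp hq
  set a := (q : M2) 0 0
  set c := (q : M2) 1 0
  have com : ∀ x : A, ((upm x * q * (upm x)⁻¹ * q⁻¹ : SL2) : M2) 1 0 = x * c ^ 2 ∧
      ((upm x * q * (upm x)⁻¹ * q⁻¹ : SL2) : M2) 0 1 = x * (1 - a ^ 2) - x ^ 2 * a * c ∧
      ((upm x * q * (upm x)⁻¹ * q⁻¹ : SL2) : M2) 0 0 + ((upm x * q * (upm x)⁻¹ * q⁻¹ : SL2) : M2) 1 1 =
        2 + x ^ 2 * c ^ 2 := by
    intro x
    refine ⟨?_, ?_, ?_⟩ <;> simp [mul_entry, inv_entry, Matrix.adjugate_fin_two, upm_coe] <;>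
      have hd := det_one q
    · ring
    · linear_combination x * hd
    · linear_combination 2 * hd
  rcases sq_or_unit H with hsq | ⟨e, he, hei⟩
  · have hc2 : c ^ 2 = 0 := by rw [pow_two]; exact hsq c q10 c q10
    have hac : a * c = c := by linear_combination hsq _ q00 c q10
    by_cases h1 : (1 : A) * (1 - a ^ 2) - 1 ^ 2 * a * c = 0
    · refine hasUp_tri H (comm_ck H (normalize H (-1)).1 hq) (by rw [(com _).1, hc2, mul_zero]) fun ⟨h, _⟩ => hc ?_
      rw [(com _).2.1] at h
      have h2 : IsUnit (algebraMap k A 2) := (isUnit_iff_ne_zero.mpr H.two).map _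
      refine h2.mul_right_eq_zero.mp ?_
      rw [map_ofNat]
      linear_combination -h - h1 - 2 * hac
    · refine hasUp_tri H (comm_ck H (normalize H 1).1 hq) (by rw [(com _).1, hc2, mul_zero]) fun ⟨h, _⟩ => h1 ?_
      rwa [(com _).2.1] at h
  · obtain ⟨y, hy⟩ := span_eq H q10 hc he
    obtain ⟨l, hl, hl2⟩ := (exists_lam H.two H.three).2
    refine hasUp_trace H he hei (comm_ck H (normalize H (algebraMap k A l * y)).1 hq) ?_ ?_
    · rw [(com _).1]
      intro h0
      have : algebraMap k A l * c = 0 := by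
        have hec : e * c = c := hei c q10
        linear_combination h0 - algebraMap k A l * c * hy - algebraMap k A l * hec
      exact hc (((isUnit_iff_ne_zero.mpr hl).map (algebraMap k A)).mul_right_eq_zero.mp this)
    · rw [(com _).2.2]
      intro h0
      have h1 : algebraMap k A (2 + l ^ 2) * e = 0 := by
        have hee : e * e = e := hei e he
        rw [map_add, map_ofNat, map_pow]
        linear_combination h0 - algebraMap k A l ^ 2 * e * (y * c + e) * hy - algebraMap k A l ^ 2 * (1 + e) * hee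
      have he0 := ((isUnit_iff_ne_zero.mpr hl2).map (algebraMap k A)).mul_right_eq_zero.mp h1
      exact hc (by rw [← hei c q10, he0, zero_mul])

theorem all_up (H : Hyp k Z I) (h : HasUp k Z I) {i : A} (hi : i ∈ I) :
    upm i ∈ ck k Z I ∧ lom i ∈ ck k Z I := by
  obtain ⟨i0, hi0, hne, hup⟩ := h
  have lower : ∀ j, upm j ∈ ck k Z I → lom (-j) ∈ ck k Z I := fun j hj => by
    have e : wm 1 * upm j * (wm 1)⁻¹ = lom (-j) := by
      refine sl_ext ?_ ?_ ?_ ?_ <;> simp [mul_entry, inv_entry, Matrix.adjugate_fin_two, wm_coe, upm_coe, lom_coe]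
    exact e ▸ conj_ck H (wm_normalize H 1) hj
  have half : IsUnit (2 : A) := by
    have := (isUnit_iff_ne_zero.mpr H.two).map (algebraMap k A)
    rwa [map_ofNat] at this
  have sqs : ∀ x : A, upm (x ^ 2 * i0) ∈ ck k Z I := by
    rcases sq_or_unit H with hsq | ⟨e, he, hei⟩
    · intro x
      have hii := hsq i0 hi0 i0 hi0
      have hm := neg_mem hi0
      have hl : lom i0 ∈ ck k Z I := by
        have := inv_mem (lower i0 hup)
        rwa [← lom_neg, neg_neg] at this
      obtain ⟨b, hb⟩ := half.exists_right_inv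
      have h2 : i0 ^ 2 = 0 := by rw [pow_two, hii]
      have h3 : i0 ^ 3 = 0 := by rw [pow_succ, h2, zero_mul]
      have h4 : i0 ^ 4 = 0 := by rw [pow_succ, h3, zero_mul]
      have key : ∀ x : A, (upm x * lom i0 * (upm x)⁻¹ * (lom i0)⁻¹) *
          (upm (-x) * lom i0 * (upm (-x))⁻¹ * (lom i0)⁻¹) = upm (-(2 * x ^ 2 * i0)) := by
        intro x
        refine sl_ext ?_ ?_ ?_ ?_ <;>
          simp [mul_entry, inv_entry, Matrix.adjugate_fin_two, upm_coe, lom_coe] <;> ring_nf <;>
          (try simp [h2, h3, h4]) <;> (try ring)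
      have h1 := mul_mem (comm_ck H (normalize H x).1 hl) (comm_ck H (normalize H (-x)).1 hl)
      rw [key] at h1
      have hI : -(2 * x ^ 2 * i0) ∈ I := by simpa [upm_coe] using (ck_iff.mp h1).2.2.1
      obtain ⟨p, hchar⟩ := CharP.exists k
      have hp : ((2 : ℕ) : k) ≠ 0 := by exact_mod_cast H.two
      have hfin : Finite k := by
        by_cases hs : Subsingleton A
        · exact absurd (Subsingleton.elim i0 0) hne
        · have : Nontrivial A := not_subsingleton_iff_nontrivial.mp hs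
          exact Finite.of_injective _ (algebraMap k A).injective
      let _ := Fintype.ofFinite k
      obtain ⟨f, hpr, -⟩ := FiniteField.card k p
      have : Fact p.Prime := ⟨hpr⟩
      obtain ⟨n, hn⟩ : ∃ n : ℕ, ((n : k) * 2) = -1 := by
        have hp2 : p ≠ 2 := fun e => hp (e ▸ CharP.cast_eq_zero k p)
        obtain ⟨r, hr⟩ := hpr.odd_of_ne_two hp2
        refine ⟨r, eq_neg_of_add_eq_zero_left ?_⟩
        have := CharP.cast_eq_zero k p
        rw [hr] at this
        push_cast at this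
        linear_combination this
      have h2 := pow_mem h1 n
      rw [upm_pow] at h2
      convert h2 using 2
      have := congrArg (algebraMap k A) hn
      rw [map_mul, map_natCast, map_ofNat, map_neg, map_one] at this
      linear_combination (x ^ 2 * i0) * this
    · intro x
      by_cases h0 : x * i0 = 0
      · rw [pow_two, mul_assoc, h0, mul_zero, upm_zero]; exact one_mem _
      obtain ⟨y, hy⟩ := span_eq H (I.mul_mem_left x hi0) h0 hi0
      obtain ⟨z, hz⟩ := span_eq H hi0 hne he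
      have hee : e * e = e := hei e he
      have hu : (x * e + (1 - e)) * (y * e + (1 - e)) = 1 := by
        have h1 : x * y * e = e := by linear_combination z * hy + (x * y - 1) * (-hz)
        linear_combination h1 + (x * y - x - y + 1) * hee
      let u : Aˣ := ⟨x * e + (1 - e), y * e + (1 - e), hu, by rw [mul_comm]; exact hu⟩
      have := conj_ck H (dia_normalize H u) hup
      rw [dia_conj] at this
      convert this using 2
      have hei0 := hei i0 hi0
      show x ^ 2 * i0 = (x * e + (1 - e)) ^ 2 * i0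
      linear_combination (-(x - 1) * ((x - 1) * e + (x + 1))) * hei0
  have hI : ∀ j ∈ I, upm j ∈ ck k Z I := by
    intro j hj
    obtain ⟨z, rfl⟩ := span_eq H hi0 hne hj
    obtain ⟨b, hb⟩ := half.exists_right_inv
    have := mul_mem (sqs ((z + 1) * b)) (inv_mem (sqs ((z - 1) * b)))
    rw [← upm_neg, ← upm_add] at this
    convert this using 2
    linear_combination (-(z * i0) * (2 * b + 1)) * hb
  refine ⟨hI i hi, ?_⟩
  simpa using lower (-i) (hI _ (neg_mem hi))

theorem not_central (H : Hyp k Z I) [Finite k] (hall : ∀ q ∈ ck k Z I, ¬ NS q) : False := by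
  obtain ⟨p, hchar⟩ := CharP.exists k
  let _ := Fintype.ofFinite k
  obtain ⟨f, hp, -⟩ := FiniteField.card k p
  have hp2 : p ≠ 2 := by
    rintro rfl
    exact H.two (by exact_mod_cast CharP.cast_eq_zero k 2)
  have hpodd : Odd p := hp.odd_of_ne_two hp2
  have hpA : (p : A) = 0 := by rw [← map_natCast (algebraMap k A), CharP.cast_eq_zero, map_zero]
  have upm_p : ∀ x : A, upm x ^ p = 1 := fun x => by rw [upm_pow, hpA, zero_mul, upm_zero]
  have lom_p : ∀ x : A, lom x ^ p = 1 := fun x => by rw [lom_pow, hpA, zero_mul, lom_zero]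
  have cen : ∀ q ∈ ck k Z I, (∀ g : SL2, g * q = q * g) ∧ q ^ 2 = 1 := by
    intro q hq
    obtain ⟨h01, h10, h00⟩ : (q : M2) 0 1 = 0 ∧ (q : M2) 1 0 = 0 ∧ (q : M2) 0 0 = (q : M2) 1 1 :=
      not_not.mp (hall q hq)
    have hd := det_one q
    rw [h01, zero_mul, sub_zero, ← h00] at hd
    refine ⟨fun g => sl_ext ?_ ?_ ?_ ?_, ?_⟩
    iterate 4 · simp [mul_entry, h01, h10, ← h00]; ring
    refine sl_ext ?_ ?_ ?_ ?_ <;> simp [pow_two, mul_entry, h01, h10, ← h00, hd]
  have uniq : ∀ g ∈ gam k Z, ∀ h ∈ gam k Z, g ^ p = 1 → h ^ p = 1 → cgr I g = cgr I h → g = h := by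
    intro g hg h hh hgp hhp e
    have hq : g⁻¹ * h ∈ ck k Z I := Subgroup.mem_inf.mpr ⟨mul_mem (inv_mem hg) hh, by
      rw [MonoidHom.mem_ker, map_mul, map_inv, e, inv_mul_cancel]⟩
    obtain ⟨hc, h2⟩ := cen _ hq
    have hmul : g * (g⁻¹ * h) = h := mul_inv_cancel_left g h
    have hqp : (g⁻¹ * h) ^ p = 1 := by
      have e2 := (show Commute g (g⁻¹ * h) from hc g).mul_pow p
      rw [hmul, hhp, hgp, one_mul] at e2
      exact e2.symm
    obtain ⟨r, hr⟩ := hpodd
    rw [hr, pow_succ, pow_mul, h2, one_pow, one_mul] at hqp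
    exact inv_mul_eq_one.mp hqp
  have exi : ∀ t : SL2, t ^ p = 1 → (∃ g ∈ gam k Z, cgr I g = cgr I t) →
      ∃ g ∈ gam k Z, g ^ p = 1 ∧ cgr I g = cgr I t := by
    rintro t ht ⟨g, hg, e⟩
    have hq : g ^ p ∈ ck k Z I := Subgroup.mem_inf.mpr ⟨pow_mem hg p, by
      rw [MonoidHom.mem_ker, map_pow, e, ← map_pow, ht, map_one]⟩
    refine ⟨g ^ (p + 1), pow_mem hg _, ?_, ?_⟩
    · obtain ⟨r, hr⟩ := hpodd
      rw [← pow_mul, show (p + 1) * p = p * (2 * (r + 1)) by rw [hr]; ring, pow_mul, pow_mul, (cen _ hq).2, one_pow]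
    · rw [map_pow, e, ← map_pow, pow_succ, ht, one_mul]
  have tri : ∀ g : SL2, (g : M2) 1 0 = 0 ∨ (g : M2) 0 1 = 0 → (g : M2) 0 0 = (g : M2) 1 1 → g ^ p = 1 →
      (g : M2) 0 0 = 1 := by
    intro g h h00 hgp
    have hpow : ∀ n : ℕ, ((g ^ n : SL2) : M2) 0 0 = (g : M2) 0 0 ^ n ∧
        ((g : M2) 1 0 = 0 → ((g ^ n : SL2) : M2) 1 0 = 0) ∧ ((g : M2) 0 1 = 0 → ((g ^ n : SL2) : M2) 0 1 = 0) := by
      intro n
      induction n with
      | zero => simp
      | succ n ih =>
        obtain ⟨i1, i2, i3⟩ := ih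
        refine ⟨?_, fun h0 => ?_, fun h0 => ?_⟩ <;> rw [pow_succ, mul_entry]
        · rcases h with h | h
          · rw [i1, h, mul_zero, add_zero, ← pow_succ]
          · rw [i1, i3 h, zero_mul, add_zero, ← pow_succ]
        · rw [i2 h0, h0, zero_mul, mul_zero, add_zero]
        · rw [i3 h0, h0, zero_mul, mul_zero, add_zero]
    have h1 : (g : M2) 0 0 ^ p = 1 := by rw [← (hpow p).1, hgp]; rfl
    have h2 : (g : M2) 0 0 ^ 2 = 1 := by
      have hd := det_one g
      rcases h with h | h <;> rw [h, ← h00] at hd <;> linear_combination hd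
    obtain ⟨r, hr⟩ := hpodd
    rwa [hr, pow_succ, pow_mul, h2, one_pow, one_mul] at h1
  have hI0 : I ≠ ⊥ := H.atom.1
  have U : ∀ x : A, ∃ a : A, upm a ∈ gam k Z ∧ cgr I (upm a) = cgr I (upm x) := by
    intro x
    obtain ⟨g, hg, hgp, e⟩ := exi _ (upm_p x) (H.lift I hI0 x).1
    have hu1 : upm (1 : A) ∈ gam k Z := by simpa using gam_up (k := k) Z 1
    have hcm : upm 1 * g * (upm 1)⁻¹ = g := by
      refine uniq _ (mul_mem (mul_mem hu1 hg) (inv_mem hu1)) _ hg (by rw [conj_pow, hgp, mul_one, mul_inv_cancel]) hgp ?_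
      simp only [map_mul, map_inv, e]
      rw [← map_mul, ← map_inv, ← map_mul, ← upm_add, ← upm_neg, ← upm_add]
      congr 2; ring
    rw [mul_inv_eq_iff_eq_mul] at hcm
    have h10 : (g : M2) 1 0 = 0 := by
      have := congrArg (fun t : SL2 => (t : M2) 0 0) hcm
      simp [mul_entry, upm_coe] at this
      exact this
    have h00 : (g : M2) 0 0 = (g : M2) 1 1 := by
      have := congrArg (fun t : SL2 => (t : M2) 0 1) hcm
      simp [mul_entry, upm_coe] at this
      linear_combination -this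
    have h1 := tri g (Or.inl h10) h00 hgp
    refine ⟨(g : M2) 0 1, ?_⟩
    have eg : g = upm ((g : M2) 0 1) := sl_ext (by simp [upm_coe, h1]) (by simp [upm_coe])
      (by simp [upm_coe, h10]) (by simp [upm_coe, ← h00, h1])
    exact ⟨eg ▸ hg, eg ▸ e⟩
  have L : ∀ x : A, ∃ a : A, lom a ∈ gam k Z ∧ cgr I (lom a) = cgr I (lom x) := by
    intro x
    obtain ⟨g, hg, hgp, e⟩ := exi _ (lom_p x) (H.lift I hI0 x).2
    have hu1 : lom Z ∈ gam k Z := by simpa using gam_lo (k := k) Z 1
    have hcm : lom Z * g * (lom Z)⁻¹ = g := by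
      refine uniq _ (mul_mem (mul_mem hu1 hg) (inv_mem hu1)) _ hg (by rw [conj_pow, hgp, mul_one, mul_inv_cancel]) hgp ?_
      simp only [map_mul, map_inv, e]
      rw [← map_mul, ← map_inv, ← map_mul, ← lom_add, ← lom_neg, ← lom_add]
      congr 2; ring
    rw [mul_inv_eq_iff_eq_mul] at hcm
    have h01 : (g : M2) 0 1 = 0 := by
      have := congrArg (fun t : SL2 => (t : M2) 0 0) hcm
      simp [mul_entry, lom_coe] at this
      exact H.unit.mul_left_eq_zero.mp this
    have h00 : (g : M2) 0 0 = (g : M2) 1 1 := by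
      have := congrArg (fun t : SL2 => (t : M2) 1 0) hcm
      simp [mul_entry, lom_coe] at this
      exact H.unit.mul_left_cancel (by linear_combination this)
    have h1 := tri g (Or.inr h01) h00 hgp
    refine ⟨(g : M2) 1 0, ?_⟩
    have eg : g = lom ((g : M2) 1 0) := sl_ext (by simp [lom_coe, h1]) (by simp [lom_coe, h01])
      (by simp [lom_coe]) (by simp [lom_coe, ← h00, h1])
    exact ⟨eg ▸ hg, eg ▸ e⟩
  choose φ hφ hφe using U
  choose ψ hψ hψe using L
  have uφ : ∀ {x a : A}, upm a ∈ gam k Z → a - x ∈ I → φ x = a := by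
    intro x a ha hax
    have := uniq _ (hφ x) _ ha (upm_p _) (upm_p _) ((hφe x).trans (cgr_upm hax).symm)
    simpa [upm_coe] using congrArg (fun t : SL2 => (t : M2) 0 1) this
  have uψ : ∀ {x a : A}, lom a ∈ gam k Z → a - x ∈ I → ψ x = a := by
    intro x a ha hax
    have := uniq _ (hψ x) _ ha (lom_p _) (lom_p _) ((hψe x).trans (cgr_lom hax).symm)
    simpa [lom_coe] using congrArg (fun t : SL2 => (t : M2) 1 0) this
  have φmod : ∀ x, φ x - x ∈ I := fun x => by simpa [upm_coe] using cgr_eq_iff.mp (hφe x) 0 1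
  have ψmod : ∀ x, ψ x - x ∈ I := fun x => by simpa [lom_coe] using cgr_eq_iff.mp (hψe x) 1 0
  have φc : ∀ c : k, φ (algebraMap k A c) = algebraMap k A c := fun c => uφ (gam_up Z c) (by simp)
  have ψc : ∀ c : k, ψ (algebraMap k A c * Z) = algebraMap k A c * Z := fun c => uψ (gam_lo Z c) (by simp)
  have φadd : ∀ x y, φ (x + y) = φ x + φ y := fun x y => uφ (upm_add (φ x) (φ y) ▸ mul_mem (hφ x) (hφ y)) (by
    have := add_mem (φmod x) (φmod y)
    convert this using 1; ring)
  have φneg : ∀ x, φ (-x) = -φ x := fun x => uφ (upm_neg (φ x) ▸ inv_mem (hφ x)) (by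
    have := neg_mem (φmod x)
    convert this using 1; ring)
  have one : φ 1 = 1 := by simpa using φc 1
  have main : ∀ x xi : A, x * xi = 1 → φ x * -(ψ (-xi)) = 1 ∧
      ∀ y : A, ψ (-(xi ^ 2 * y)) = -(ψ (-xi) ^ 2 * φ y) := by
    intro x xi hx
    set e := φ x
    set f := ψ (-xi)
    set w := upm e * lom f * upm e with hw
    have hwG : w ∈ gam k Z := mul_mem (mul_mem (hφ x) (hψ _)) (hφ x)
    have hwI : cgr I w = cgr I (upm x * lom (-xi) * upm x) := by simp only [hw, map_mul, e, f, hφe, hψe]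
    have conj : ∀ y : A, w * upm (φ y) * w⁻¹ = lom (ψ (-(xi ^ 2 * y))) := by
      intro y
      refine uniq _ (mul_mem (mul_mem hwG (hφ y)) (inv_mem hwG)) _ (hψ _)
        (by rw [conj_pow, upm_p, mul_one, mul_inv_cancel]) (lom_p _) ?_
      rw [hψe, map_mul, map_mul, map_inv, hwI, hφe, ← map_inv, ← map_mul, ← map_mul]
      congr 1
      refine sl_ext ?_ ?_ ?_ ?_ <;> simp [mul_entry, inv_entry, Matrix.adjugate_fin_two, upm_coe, lom_coe]
      · linear_combination (-(xi * y)) * hx
      · linear_combination (y * (x * xi - 1)) * hx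
      · ring
      · linear_combination (xi * y) * hx
    have c1 := congrArg (fun t : SL2 => (t : M2)) (conj 1)
    have a01 := congrFun (congrFun c1 0) 1
    have a00 := congrFun (congrFun c1 0) 0
    simp [hw, one, mul_entry, inv_entry, Matrix.adjugate_fin_two, upm_coe, lom_coe] at a01 a00
    have h01 : (1 + e * f) ^ 2 = 0 := by linear_combination a01
    have hef : IsUnit f := by
      refine IsUnit.of_mul_eq_one (-e * (e * f + 2)) ?_
      linear_combination -h01
    have h00 : 1 + e * f = 0 := hef.mul_left_eq_zero.mp (by linear_combination -a00)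
    refine ⟨by linear_combination -h00, fun y => ?_⟩
    have := congrFun (congrFun (congrArg (fun t : SL2 => (t : M2)) (conj y)) 1) 0
    simp [hw, mul_entry, inv_entry, Matrix.adjugate_fin_two, upm_coe, lom_coe] at this
    linear_combination -this
  have ψφ : ∀ y, ψ (-y) = -φ y := fun y => by
    obtain ⟨h1, h2⟩ := main 1 1 (one_mul 1)
    rw [one, one_mul] at h1
    have := h2 y
    rw [one_pow, one_mul] at this
    rw [this]
    linear_combination (-(φ y * (1 - ψ (-1)))) * h1
  obtain ⟨zi, hzi⟩ := H.unit.exists_left_inv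
  have φcZ : ∀ c : k, φ (algebraMap k A c * Z) = algebraMap k A c * Z := fun c => by
    have := ψφ (algebraMap k A (-c) * Z)
    rw [map_neg, neg_mul, neg_neg, ψc, φneg, neg_neg] at this
    exact this.symm
  have φZ2 : ∀ y, φ (Z ^ 2 * y) = Z ^ 2 * φ y := by
    intro y
    obtain ⟨h1, h2⟩ := main zi Z hzi
    have hZ1 : ψ (-Z) = -Z := by rw [ψφ]; simpa using congrArg Neg.neg (φcZ 1)
    have := h2 y
    rw [ψφ, hZ1] at this
    linear_combination -this
  have pw : ∀ (l : ℕ) (c : k), φ (algebraMap k A c * Z ^ l) = algebraMap k A c * Z ^ l := by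
    intro l
    induction l using Nat.twoStepInduction with
    | zero => simpa using φc
    | one => simpa using φcZ
    | more l ih _ =>
      intro c
      rw [show algebraMap k A c * Z ^ (l + 2) = Z ^ 2 * (algebraMap k A c * Z ^ l) by ring, φZ2, ih]
  have fix : ∀ a : A, φ a = a := by
    intro a
    have ha : a ∈ Algebra.adjoin k ({Z} : Set A) := H.adjoin ▸ Algebra.mem_top
    rw [Algebra.adjoin_singleton_eq_range_aeval] at ha
    obtain ⟨P, rfl⟩ := ha
    induction P using Polynomial.induction_on' with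
    | add P Q hP hQ => simp only [RingHom.coe_coe, map_add] at *; rw [φadd, hP, hQ]
    | monomial n c => simpa [Polynomial.aeval_monomial] using pw n c
  obtain ⟨i, hi, hne⟩ := Submodule.exists_mem_ne_zero_of_ne_bot hI0
  exact hne ((fix i).symm.trans (uφ (upm_zero (A := A) ▸ one_mem _) (by simpa using hi)))

theorem step [Finite k] (H : Hyp k Z I) (x : A) : upm x ∈ gam k Z ∧ lom x ∈ gam k Z := by
  by_cases hall : ∀ q ∈ ck k Z I, ¬ NS q
  · exact (not_central H hall).elim
  push Not at hall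
  obtain ⟨q, hq, hns⟩ := hall
  have hup := hasUp_of_ns H hq hns
  have hI0 := H.atom.1
  have ker : ∀ d : SL2, cgr I d = 1 → d ∈ gam k Z := by
    intro d hd
    rw [← map_one (cgr I), cgr_eq_iff] at hd
    have d00 : (d : M2) 0 0 - 1 ∈ I := by simpa using hd 0 0
    have d01 : (d : M2) 0 1 ∈ I := by simpa using hd 0 1
    have d10 : (d : M2) 1 0 ∈ I := by simpa using hd 1 0
    have upG : ∀ i ∈ I, upm i ∈ gam k Z ∧ lom i ∈ gam k Z := fun i hi =>
      ⟨(ck_iff.mp (all_up H hup hi).1).1, (ck_iff.mp (all_up H hup hi).2).1⟩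
    have diag : ∀ (g : SL2) (u : Aˣ), (g : M2) 0 0 = u → (u : A) - 1 ∈ I → (g : M2) 0 1 ∈ I → (g : M2) 1 0 ∈ I →
        g ∈ gam k Z := by
      intro g u h00 hu h01 h10
      have hdet := det_one g
      rw [h00] at hdet
      have hinv : (u : A) * ((u⁻¹ : Aˣ) : A) = 1 := u.mul_inv
      have dec : ∀ h : SL2, (h : M2) 0 0 = u →
          h = lom (((u⁻¹ : Aˣ) : A) * (h : M2) 1 0) * dia u * upm (((u⁻¹ : Aˣ) : A) * (h : M2) 0 1) := by
        intro h h0
        have hd := det_one h
        rw [h0] at hd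
        refine sl_ext ?_ ?_ ?_ ?_ <;> simp [mul_entry, lom_coe, dia_coe, upm_coe, h0]
        · linear_combination (-(h : M2) 1 0) * hinv
        · linear_combination ((u⁻¹ : Aˣ) : A) * hd +
            (-(h : M2) 1 1 - ((u⁻¹ : Aˣ) : A) * (h : M2) 0 1 * (h : M2) 1 0) * hinv
      -- the diagonal element comes from a conjugate of an upper one
      have hi : 1 - (u : A) ∈ I := by simpa using neg_mem hu
      have hh := conj_ck H (normalize H 1).2 (all_up H hup hi).1
      set h := lom 1 * upm (1 - (u : A)) * (lom 1)⁻¹ with hhdef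
      obtain ⟨hhG, -, e01, e10, -⟩ := ck_iff.mp hh
      have h0 : (h : M2) 0 0 = u := by
        simp [hhdef, mul_entry, inv_entry, Matrix.adjugate_fin_two, lom_coe, upm_coe]
      have hdia : dia u ∈ gam k Z := by
        have e := dec h h0
        have l1 := (upG _ (I.mul_mem_left ((u⁻¹ : Aˣ) : A) e10)).2
        have l2 := (upG _ (I.mul_mem_left ((u⁻¹ : Aˣ) : A) e01)).1
        have e2 : ∀ L R : SL2, h = L * dia u * R → dia u = L⁻¹ * h * R⁻¹ := fun L R e => by rw [e]; group
        rw [e2 _ _ e]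
        exact mul_mem (mul_mem (inv_mem l1) hhG) (inv_mem l2)
      rw [dec g h00]
      exact mul_mem (mul_mem (upG _ (I.mul_mem_left _ h10)).2 hdia) (upG _ (I.mul_mem_left _ h01)).1
    by_cases hu : IsUnit ((d : M2) 0 0)
    · exact diag d hu.unit rfl d00 d01 d10
    rcases sq_or_unit H with hsq | ⟨e, he, hei⟩
    · exfalso
      refine hu (IsUnit.of_mul_eq_one (2 - (d : M2) 0 0) ?_)
      linear_combination -(hsq _ d00 _ d00)
    have hee := hei e he
    have hae : (d : M2) 0 0 * e = 0 := by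
      by_contra h0
      obtain ⟨y, hy⟩ := span_eq H (I.mul_mem_left _ he) h0 he
      refine hu (IsUnit.of_mul_eq_one (y * e + (1 - e)) ?_)
      have h1 := hei _ d00
      linear_combination hy - h1
    have hy : -((d : M2) 0 1) * e ∈ I := I.mul_mem_left _ he
    have hm := diag (upm (-((d : M2) 0 1) * e) * d) 1 (by
      simp [mul_entry, upm_coe]
      have h1 := hei _ d00
      have hdet := det_one d
      linear_combination (1 - (d : M2) 1 1) * hae + e * hdet - h1) (by simp)
      (by simp [mul_entry, upm_coe]; exact add_mem d01 (neg_mem (I.mul_mem_right _ (I.mul_mem_left _ he))))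
      (by simp [mul_entry, upm_coe]; exact d10)
    have := mul_mem (inv_mem (upG _ hy).1) hm
    rwa [inv_mul_cancel_left] at this
  obtain ⟨⟨g, hg, e⟩, g', hg', e'⟩ := H.lift I hI0 x
  constructor
  · have := mul_mem hg (ker (g⁻¹ * upm x) (by rw [map_mul, map_inv, e, inv_mul_cancel]))
    rwa [mul_inv_cancel_left] at this
  · have := mul_mem hg' (ker (g'⁻¹ * lom x) (by rw [map_mul, map_inv, e', inv_mul_cancel]))
    rwa [mul_inv_cancel_left] at this

end step

universe u v

theorem full_finite_aux {k : Type u} [Field k] (h2 : (2 : k) ≠ 0) (h3 : Nat.card k ≠ 3) (n : ℕ) :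
    ∀ (A : Type v) [CommRing A] [Algebra k A] [Finite A] (Z : A), IsUnit Z →
      Algebra.adjoin k ({Z} : Set A) = ⊤ → Nat.card A ≤ n → ∀ x : A, upm x ∈ gam k Z ∧ lom x ∈ gam k Z := by
  induction n with
  | zero =>
    intro A _ _ _ Z _ _ hn
    have : 0 < Nat.card A := Nat.card_pos
    omega
  | succ n ih =>
    intro A _ _ _ Z hZ hgen hn x
    rcases subsingleton_or_nontrivial A with hs | hs
    · rw [Subsingleton.elim x 0, upm_zero, lom_zero]; exact ⟨one_mem _, one_mem _⟩
    have : Finite k := Finite.of_injective _ (algebraMap k A).injective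
    by_cases hF : IsField A
    · let _ := hF.toField
      have := full_field h2 h3 (z := Z) hZ.ne_zero hgen
      rw [this]
      exact ⟨Subgroup.mem_top _, Subgroup.mem_top _⟩
    have lift : ∀ J : Ideal A, J ≠ ⊥ → ∀ y : A, (∃ g ∈ gam k Z, cgr J g = cgr J (upm y)) ∧
        ∃ g ∈ gam k Z, cgr J g = cgr J (lom y) := by
      intro J hJ y
      have : Finite (A ⧸ J) := Finite.of_surjective _ Ideal.Quotient.mk_surjective
      have hlt : Nat.card (A ⧸ J) ≤ n := by
        have h1 := J.card_eq_card_quotient_mul_card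
        have h2 : 2 ≤ Nat.card J := by
          have : Nontrivial J := Submodule.nontrivial_iff_ne_bot.mpr hJ
          exact Finite.one_lt_card
        have : 0 < Nat.card (A ⧸ J) := Nat.card_pos
        nlinarith
      have hgen' : Algebra.adjoin k ({Ideal.Quotient.mk J Z} : Set (A ⧸ J)) = ⊤ := by
        have := congrArg (Subalgebra.map (Ideal.Quotient.mkₐ k J)) hgen
        rw [AlgHom.map_adjoin, Set.image_singleton, Algebra.map_top] at this
        rw [← Ideal.Quotient.mkₐ_eq_mk k J, this]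
        exact (AlgHom.range_eq_top _).mpr (Ideal.Quotient.mkₐ_surjective k J)
      have hle : gam k (Ideal.Quotient.mk J Z) ≤ (gam k Z).map (cgr J) := by
        refine (Subgroup.closure_le _).mpr ?_
        rintro _ (⟨c, rfl⟩ | ⟨c, rfl⟩)
        · refine ⟨_, gam_up Z c, Subtype.ext (Matrix.ext fun i j => ?_)⟩
          fin_cases i <;> fin_cases j <;> simp [cgr, upm_coe]
        · refine ⟨_, gam_lo Z c, Subtype.ext (Matrix.ext fun i j => ?_)⟩
          fin_cases i <;> fin_cases j <;> simp [cgr, lom_coe]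
      obtain ⟨h1, h1'⟩ := ih (A ⧸ J) (Ideal.Quotient.mk J Z) (hZ.map _) hgen' hlt (Ideal.Quotient.mk J y)
      have e1 : upm (Ideal.Quotient.mk J y) = cgr J (upm y) := Subtype.ext (Matrix.ext fun i j => by
        fin_cases i <;> fin_cases j <;> simp [cgr, upm_coe])
      have e2 : lom (Ideal.Quotient.mk J y) = cgr J (lom y) := Subtype.ext (Matrix.ext fun i j => by
        fin_cases i <;> fin_cases j <;> simp [cgr, lom_coe])
      exact ⟨hle (e1 ▸ h1), hle (e2 ▸ h1')⟩
    obtain ⟨I, hI⟩ : ∃ I : Ideal A, IsAtom I := by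
      rcases eq_bot_or_exists_atom_le (⊤ : Ideal A) with h | ⟨I, hI, -⟩
      · exact absurd h top_ne_bot
      · exact ⟨I, hI⟩
    obtain ⟨i, hi, hne⟩ := Submodule.exists_mem_ne_zero_of_ne_bot hI.1
    have hspan : Ideal.span {i} = I :=
      (hI.le_iff.mp ((Ideal.span_singleton_le_iff_mem I).mpr hi)).resolve_left
        (mt Ideal.span_singleton_eq_bot.mp hne)
    refine step ⟨h2, h3, hZ, hgen, hI, lift, ?_⟩ x
    by_contra hann
    push Not at hann
    apply hF
    have hinj : Function.Injective fun a : A => (⟨a * i, I.mul_mem_left a hi⟩ : I) := by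
      intro a b h
      by_contra hab
      obtain ⟨j, hj, hj0⟩ := hann (a - b) (sub_ne_zero.mpr hab)
      obtain ⟨z, rfl⟩ := Ideal.mem_span_singleton'.mp (hspan.symm ▸ hj)
      exact hj0 (by linear_combination z * Subtype.ext_iff.mp h)
    have htop : I = ⊤ := by
      refine SetLike.coe_injective ?_
      exact Set.eq_of_subset_of_ncard_le (Set.subset_univ _) (by
        rw [Submodule.top_coe, Set.ncard_univ, ← Nat.card_coe_set_eq]
        exact Nat.card_le_card_of_injective _ hinj) (Set.toFinite _)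
    refine ⟨exists_pair_ne A, mul_comm, fun {a} ha => ?_⟩
    obtain ⟨z, hz⟩ := Ideal.mem_span_singleton'.mp (show (1 : A) ∈ Ideal.span {a} from by
      rcases hI.le_iff.mp (show Ideal.span {a} ≤ I from htop ▸ le_top) with h | h
      · exact absurd (Ideal.span_singleton_eq_bot.mp h) ha
      · rw [h, htop]; exact Submodule.mem_top)
    exact ⟨z, by rw [mul_comm]; exact hz⟩

theorem full_finite {k : Type u} [Field k] {A : Type v} [CommRing A] [Algebra k A] [Finite A]
    (h2 : (2 : k) ≠ 0) (h3 : Nat.card k ≠ 3) {Z : A} (hZ : IsUnit Z)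
    (hgen : Algebra.adjoin k ({Z} : Set A) = ⊤) (x : A) : upm x ∈ gam k Z ∧ lom x ∈ gam k Z :=
  full_finite_aux h2 h3 _ A Z hZ hgen le_rfl x

end CfsgLib.QuadPair
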