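/-
`upm k` and `lom (k Z)` generate every root element over the monogenic algebra `k[Z]`.
-/
import Mathlib
import Cfsg.Agent.Lib.QuadPair.SL2Fin
import Cfsg.Agent.Lib.Classical.Transvection

set_option autoImplicit false
set_option linter.unusedSectionVars false

namespace CfsgLib.QuadPair

variable {k : Type*} [Field k]

theorem full {A : Type*} [CommRing A] [Algebra k A] (pb : PowerBasis k A) (h2 : (2 : k) ≠ 0)
    (h3 : Nat.card k ≠ 3) (hZ : IsUnit pb.gen) (x : A) :
    upm x ∈ gam k pb.gen ∧ lom x ∈ gam k pb.gen := by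
  rcases finite_or_infinite k with hk | hk
  · have := pb.finite
    have : Finite A := Module.finite_of_finite k
    exact full_finite h2 h3 hZ pb.adjoin_gen_eq_top x
  · exact full_infinite pb hZ h2 x

theorem eq_top_of_root {A : Type*} [Field A] {S : Subgroup (Matrix.SpecialLinearGroup (Fin 2) A)}
    (hu : ∀ x : A, upm x ∈ S) (hl : ∀ x : A, lom x ∈ S) : S = ⊤ := by
  refine CfsgLib.Classical.eq_top_of_transvection_mem S fun i j hij c => ?_
  fin_cases i <;> fin_cases j
  · exact absurd rfl hij
  · convert hu c using 1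
    refine sl_ext ?_ ?_ ?_ ?_ <;> simp [upm_coe, Matrix.SpecialLinearGroup.transvection_coe, Matrix.transvection]
  · convert hl c using 1
    refine sl_ext ?_ ?_ ?_ ?_ <;> simp [lom_coe, Matrix.SpecialLinearGroup.transvection_coe, Matrix.transvection]
  · exact absurd rfl hij

theorem gam_eq_top {A : Type*} [Field A] [Algebra k A] (pb : PowerBasis k A) (h2 : (2 : k) ≠ 0)
    (h3 : Nat.card k ≠ 3) (hZ : pb.gen ≠ 0) : gam k pb.gen = ⊤ :=
  eq_top_of_root (fun x => (full pb h2 h3 (isUnit_iff_ne_zero.mpr hZ) x).1)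
    fun x => (full pb h2 h3 (isUnit_iff_ne_zero.mpr hZ) x).2

theorem two_ne_zero_of_ringChar (h : ringChar k ≠ 2) : (2 : k) ≠ 0 := Ring.two_ne_zero h

end CfsgLib.QuadPair
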