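/-
Quadratic elements of a linear group in terms of their nilpotent parts.
-/
import Mathlib
import Cfsg.Prelude.Def_RootSubgroups
import Cfsg.Agent.Lib.RootSub.Unipotent

set_option autoImplicit false
set_option linter.unusedSectionVars false

open Cfsg CfsgLib.RootSub.Unip

namespace CfsgLib.QuadPair

variable {k : Type*} [Field k] {M : Type*} [AddCommGroup M] [Module k M]

local notation "End'" => Module.End k M
local notation "GLM" => LinearMap.GeneralLinearGroup k M

/-- The unit `1 + s` for `s * s = 0`. -/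
noncomputable def el (s : Module.End k M) : LinearMap.GeneralLinearGroup k M := by
  classical
  exact if h : s * s = 0 then ⟨1 + s, 1 - s,
    by rw [mul_sub, add_mul, add_mul, one_mul, one_mul, mul_one, h, add_zero]; abel,
    by rw [mul_add, sub_mul, sub_mul, one_mul, one_mul, mul_one, h, sub_zero]; abel⟩ else 1

theorem coe_el {s : End'} (h : s * s = 0) : (el s : End') = 1 + s := by
  rw [el, dif_pos h]

theorem dm_el {s : End'} (h : s * s = 0) : dm (el s) = s := by
  rw [dm, coe_el h, add_sub_cancel_left]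

theorem el_zero : el (0 : End') = 1 := Units.ext (by rw [coe_el (mul_zero _)]; simp)

theorem el_dm {g : GLM} (h : dm g * dm g = 0) : el (dm g) = g :=
  Units.ext (by rw [coe_el h, dm, add_sub_cancel])

theorem smul_sq {s : End'} (h : s * s = 0) (c : k) : (c • s) * (c • s) = 0 := by
  rw [smul_mul_smul_comm, h, smul_zero]

theorem neg_sq {s : End'} (h : s * s = 0) : (-s) * (-s) = 0 := by rw [neg_mul_neg, h]

theorem el_add {s t : End'} (hs : s * s = 0) (ht : t * t = 0) (h1 : s * t = 0) (h2 : t * s = 0) :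
    el s * el t = el (s + t) := by
  have h : (s + t) * (s + t) = 0 := by rw [add_mul, mul_add, mul_add, hs, h1, h2, ht]; simp
  refine Units.ext ?_
  rw [Units.val_mul, coe_el hs, coe_el ht, coe_el h, mul_add, add_mul, add_mul, one_mul, one_mul, mul_one, h1,
    add_zero]
  abel

theorem el_neg {s : End'} (h : s * s = 0) : el (-s) = (el s)⁻¹ := by
  refine eq_inv_of_mul_eq_one_left ?_
  rw [el_add (neg_sq h) h (by rw [neg_mul, h, neg_zero]) (by rw [mul_neg, h, neg_zero]), neg_add_cancel, el_zero]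

theorem coe_el_inv {s : End'} (h : s * s = 0) : (((el s)⁻¹ : GLM) : End') = 1 - s := by
  rw [← el_neg h, coe_el (neg_sq h), sub_eq_add_neg]

/-- Conjugating the nilpotent part. -/
def cjE (g : LinearMap.GeneralLinearGroup k M) (s : Module.End k M) : Module.End k M :=
  (g : Module.End k M) * s * ((g⁻¹ : LinearMap.GeneralLinearGroup k M) : Module.End k M)

theorem cjE_mul (g : GLM) (s t : End') : cjE g (s * t) = cjE g s * cjE g t := by
  simp only [cjE, mul_assoc]
  rw [← mul_assoc ((g⁻¹ : GLM) : End') (g : End'), Units.inv_mul, one_mul]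

theorem cjE_smul (g : GLM) (c : k) (s : End') : cjE g (c • s) = c • cjE g s := by
  simp only [cjE, mul_smul_comm, smul_mul_assoc]

theorem cjE_add (g : GLM) (s t : End') : cjE g (s + t) = cjE g s + cjE g t := by
  simp only [cjE, mul_add, add_mul]

theorem cjE_sub (g : GLM) (s t : End') : cjE g (s - t) = cjE g s - cjE g t := by
  simp only [cjE, mul_sub, sub_mul]

theorem cjE_zero (g : GLM) : cjE g (0 : End') = 0 := by simp [cjE]

theorem cjE_one (s : End') : cjE (1 : GLM) s = s := by simp [cjE]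

theorem cjE_cjE (g h : GLM) (s : End') : cjE g (cjE h s) = cjE (g * h) s := by
  simp only [cjE, mul_inv_rev, Units.val_mul, mul_assoc]

theorem cjE_inv_cjE (g : GLM) (s : End') : cjE g⁻¹ (cjE g s) = s := by
  rw [cjE_cjE, inv_mul_cancel, cjE_one]

theorem cjE_sq (g : GLM) {s : End'} (h : s * s = 0) : cjE g s * cjE g s = 0 := by
  rw [← cjE_mul, h, cjE_zero]

theorem el_cjE (g : GLM) {s : End'} (h : s * s = 0) : el (cjE g s) = g * el s * g⁻¹ := by
  refine Units.ext ?_
  rw [coe_el (cjE_sq g h), Units.val_mul, Units.val_mul, coe_el h, mul_add, add_mul, mul_one, Units.mul_inv]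
  rfl

/-- Conjugation by `1 + t`. -/
theorem cjE_el {t : End'} (ht : t * t = 0) (s : End') :
    cjE (el t) s = s + (t * s - s * t) - t * s * t := by
  rw [cjE, coe_el ht, coe_el_inv ht]
  noncomm_ring

/-- The rank. -/
noncomputable def rk (s : Module.End k M) : ℕ := Module.finrank k (LinearMap.range s)

/-- Nilpotent parts of the quadratic elements of `G`, with zero. -/
def Sc (G : Subgroup (LinearMap.GeneralLinearGroup k M)) : Set (Module.End k M) :=
  {s | s * s = 0 ∧ ∀ c : k, el (c • s) ∈ G}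

theorem sc_zero (G : Subgroup GLM) : (0 : End') ∈ Sc G :=
  ⟨mul_zero _, fun c => by rw [smul_zero, el_zero]; exact one_mem G⟩

variable {G : Subgroup (LinearMap.GeneralLinearGroup k M)}

theorem sc_smul {s : End'} (hs : s ∈ Sc G) (c : k) : c • s ∈ Sc G :=
  ⟨smul_sq hs.1 c, fun e => by rw [smul_smul]; exact hs.2 _⟩

theorem el_mem {s : End'} (hs : s ∈ Sc G) : el s ∈ G := by simpa using hs.2 1

theorem sc_add {s t : End'} (hs : s ∈ Sc G) (ht : t ∈ Sc G) (h1 : s * t = 0) (h2 : t * s = 0) :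
    s + t ∈ Sc G := by
  refine ⟨by rw [add_mul, mul_add, mul_add, hs.1, h1, h2, ht.1]; simp, fun c => ?_⟩
  rw [smul_add, ← el_add (smul_sq hs.1 c) (smul_sq ht.1 c) (by rw [smul_mul_smul_comm, h1, smul_zero])
    (by rw [smul_mul_smul_comm, h2, smul_zero])]
  exact mul_mem (hs.2 c) (ht.2 c)

theorem sc_neg {s : End'} (hs : s ∈ Sc G) : -s ∈ Sc G := by
  simpa using sc_smul hs (-1)

theorem sc_cjE {g : GLM} (hg : g ∈ G) {s : End'} (hs : s ∈ Sc G) : cjE g s ∈ Sc G := by
  refine ⟨cjE_sq g hs.1, fun c => ?_⟩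
  rw [← cjE_smul, el_cjE g (smul_sq hs.1 c)]
  exact mul_mem (mul_mem hg (hs.2 c)) (inv_mem hg)

theorem range_cjE (g : GLM) (s : End') :
    LinearMap.range (cjE g s) = (LinearMap.range s).map (g : End') := by
  have hsurj : Function.Surjective ((g⁻¹ : GLM) : End') := fun v => ⟨(g : End') v, by
    rw [← Module.End.mul_apply, Units.inv_mul, Module.End.one_apply]⟩
  rw [cjE, Module.End.mul_eq_comp, Module.End.mul_eq_comp, LinearMap.range_comp_of_range_eq_top _
    (LinearMap.range_eq_top.mpr hsurj), LinearMap.range_comp]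

theorem rk_cjE (g : GLM) (s : End') : rk (cjE g s) = rk s := by
  have hinj : Function.Injective (g : End') := fun u v h => by
    have := congrArg ((g⁻¹ : GLM) : End') h
    simpa [← Module.End.mul_apply] using this
  rw [rk, rk, range_cjE]
  exact (LinearEquiv.finrank_eq (Submodule.equivMapOfInjective _ hinj _)).symm

theorem rk_smul {c : k} (hc : c ≠ 0) (s : End') : rk (c • s) = rk s := by
  rw [rk, rk, LinearMap.range_smul _ _ hc]

theorem rk_neg (s : End') : rk (-s) = rk s := by rw [rk, rk, LinearMap.range_neg]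

/-- Nonzero members of `Sc G` of least rank. -/
def Min (G : Subgroup (LinearMap.GeneralLinearGroup k M)) (s : Module.End k M) : Prop :=
  s ∈ Sc G ∧ s ≠ 0 ∧ ∀ t ∈ Sc G, t ≠ 0 → rk s ≤ rk t

theorem Min.sq {s : End'} (h : Min G s) : s * s = 0 := h.1.1

theorem Min.small {s t : End'} (h : Min G s) (ht : t ∈ Sc G) (hlt : rk t < rk s) : t = 0 :=
  of_not_not fun h0 => absurd (h.2.2 t ht h0) (not_le.mpr hlt)

theorem Min.rk_eq {s t : End'} (hs : Min G s) (ht : Min G t) : rk s = rk t :=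
  le_antisymm (hs.2.2 t ht.1 ht.2.1) (ht.2.2 s hs.1 hs.2.1)

theorem Min.of_rk_le {s t : End'} (hs : Min G s) (ht : t ∈ Sc G) (h0 : t ≠ 0) (hle : rk t ≤ rk s) : Min G t :=
  ⟨ht, h0, fun u hu hu0 => hle.trans (hs.2.2 u hu hu0)⟩

theorem Min.cjE {g : GLM} (hg : g ∈ G) {s : End'} (hs : Min G s) : Min G (CfsgLib.QuadPair.cjE g s) := by
  refine hs.of_rk_le (sc_cjE hg hs.1) (fun h => hs.2.1 ?_) (rk_cjE g s).le
  rw [← cjE_inv_cjE g s, h, cjE_zero]

theorem Min.neg {s : End'} (hs : Min G s) : Min G (-s) :=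
  hs.of_rk_le (sc_neg hs.1) (neg_ne_zero.mpr hs.2.1) (rk_neg s).le

theorem Min.smul {s : End'} (hs : Min G s) {c : k} (hc : c ≠ 0) : Min G (c • s) :=
  hs.of_rk_le (sc_smul hs.1 c) (smul_ne_zero hc hs.2.1) (rk_smul hc s).le

/-! ### The predicates of the definition module -/

theorem mem_family {σ τ : GLM} (hσ : dm σ * dm σ = 0) :
    τ ∈ scalarFamily σ ↔ ∃ c : k, τ = el (c • dm σ) := by
  constructor
  · rintro ⟨c, hc⟩
    exact ⟨c, Units.ext (by rw [coe_el (smul_sq hσ c)]; exact hc)⟩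
  · rintro ⟨c, rfl⟩
    exact ⟨c, coe_el (smul_sq hσ c)⟩

theorem mem_quadratic {σ : GLM} :
    σ ∈ quadraticElements G ↔ dm σ ∈ Sc G ∧ dm σ ≠ 0 := by
  constructor
  · rintro ⟨-, ⟨h2, h0⟩, hfam⟩
    exact ⟨⟨h2, fun c => hfam ((mem_family h2).mpr ⟨c, rfl⟩)⟩, h0⟩
  · rintro ⟨h, h0⟩
    refine ⟨el_dm h.1 ▸ el_mem h, ⟨h.1, h0⟩, fun τ hτ => ?_⟩
    obtain ⟨c, rfl⟩ := (mem_family h.1).mp hτ
    exact h.2 c

theorem mem_minimal {σ : GLM} : σ ∈ minimalQuadraticElements G ↔ Min G (dm σ) := by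
  constructor
  · rintro ⟨h, hmin⟩
    obtain ⟨h1, h0⟩ := mem_quadratic.mp h
    refine ⟨h1, h0, fun t ht ht0 => ?_⟩
    have h2 := hmin (el t) (mem_quadratic.mpr (by rw [dm_el ht.1]; exact ⟨ht, ht0⟩))
    change rk (dm σ) ≤ rk (dm (el t)) at h2
    rwa [dm_el ht.1] at h2
  · rintro ⟨h, h0, hmin⟩
    refine ⟨mem_quadratic.mpr ⟨h, h0⟩, fun τ hτ => ?_⟩
    obtain ⟨h1, h2⟩ := mem_quadratic.mp hτ
    exact hmin _ h1 h2

theorem min_el {s : End'} (hs : Min G s) : el s ∈ minimalQuadraticElements G :=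
  mem_minimal.mpr (by rwa [dm_el hs.sq])

/-! ### Classes of equal action -/

theorem mul_eq_zero_of_le {s a b : End'} (hs : s * s = 0) (ha : LinearMap.ker s ≤ LinearMap.ker a)
    (hb : LinearMap.range b ≤ LinearMap.range s) : a * b = 0 := by
  refine LinearMap.ext fun v => ?_
  obtain ⟨w, hw⟩ := hb (LinearMap.mem_range_self b v)
  have h2 : s w ∈ LinearMap.ker s := LinearMap.mem_ker.mpr (DFunLike.congr_fun hs w)
  rw [Module.End.mul_apply, LinearMap.zero_apply, ← hw]
  exact LinearMap.mem_ker.mp (ha h2)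

/-- The space of members of `Sc G` with kernel above and image below those of `s`. -/
def cls (G : Subgroup (LinearMap.GeneralLinearGroup k M)) {s : Module.End k M} (hs : s * s = 0) :
    Submodule k (Module.End k M) where
  carrier := {t | t ∈ Sc G ∧ LinearMap.ker s ≤ LinearMap.ker t ∧ LinearMap.range t ≤ LinearMap.range s}
  zero_mem' := ⟨sc_zero G, by simp, by simp⟩
  add_mem' := fun {a b} ha hb => by
    refine ⟨sc_add ha.1 hb.1 (mul_eq_zero_of_le hs ha.2.1 hb.2.2) (mul_eq_zero_of_le hs hb.2.1 ha.2.2), ?_, ?_⟩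
    · intro v hv
      rw [LinearMap.mem_ker, LinearMap.add_apply, LinearMap.mem_ker.mp (ha.2.1 hv),
        LinearMap.mem_ker.mp (hb.2.1 hv), add_zero]
    · rintro _ ⟨v, rfl⟩
      rw [LinearMap.add_apply]
      exact add_mem (ha.2.2 (LinearMap.mem_range_self _ v)) (hb.2.2 (LinearMap.mem_range_self _ v))
  smul_mem' := fun c a ha => by
    refine ⟨sc_smul ha.1 c, fun v hv => ?_, ?_⟩
    · rw [LinearMap.mem_ker, LinearMap.smul_apply, LinearMap.mem_ker.mp (ha.2.1 hv), smul_zero]
    · rintro _ ⟨v, rfl⟩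
      rw [LinearMap.smul_apply]
      exact Submodule.smul_mem _ c (ha.2.2 (LinearMap.mem_range_self _ v))

theorem mem_cls {s t : End'} {hs : s * s = 0} :
    t ∈ cls G hs ↔ t ∈ Sc G ∧ LinearMap.ker s ≤ LinearMap.ker t ∧ LinearMap.range t ≤ LinearMap.range s := Iff.rfl

theorem self_mem_cls {s : End'} (hs : Min G s) : s ∈ cls G hs.sq := ⟨hs.1, le_rfl, le_rfl⟩

variable [FiniteDimensional k M]

/-- A nonzero member of a class acts like the class. -/
theorem cls_spec {s t : End'} (hs : Min G s) (ht : t ∈ cls G hs.sq) (h0 : t ≠ 0) :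
    Min G t ∧ LinearMap.ker t = LinearMap.ker s ∧ LinearMap.range t = LinearMap.range s := by
  have hr : LinearMap.range t = LinearMap.range s :=
    Submodule.eq_of_le_of_finrank_le ht.2.2 (hs.2.2 t ht.1 h0)
  refine ⟨hs.of_rk_le ht.1 h0 (Submodule.finrank_mono ht.2.2), ?_, hr⟩
  refine (Submodule.eq_of_le_of_finrank_eq ht.2.1 ?_).symm
  have h1 := LinearMap.finrank_range_add_finrank_ker s
  have h2 := LinearMap.finrank_range_add_finrank_ker t
  rw [hr] at h2
  omega

theorem cls_eq {s t : End'} (hs : Min G s) (ht : t ∈ cls G hs.sq) (h0 : t ≠ 0) :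
    cls G ((cls_spec hs ht h0).1).sq = cls G hs.sq := by
  obtain ⟨-, hk, hr⟩ := cls_spec hs ht h0
  ext u
  rw [mem_cls, mem_cls, hk, hr]

theorem mem_grp {σ x : GLM} (hσ : σ ∈ minimalQuadraticElements G) :
    x ∈ sameActionSubgroup G σ ↔ ∃ t ∈ cls G (mem_minimal.mp hσ).sq, x = el t := by
  have hs := mem_minimal.mp hσ
  constructor
  · intro hx
    induction hx using Subgroup.closure_induction with
    | mem y hy =>
      obtain ⟨h1, hk, hr⟩ := hy
      exact ⟨dm y, ⟨(mem_minimal.mp h1).1, hk.ge, hr.le⟩, (el_dm (mem_minimal.mp h1).sq).symm⟩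
    | one => exact ⟨0, zero_mem _, el_zero.symm⟩
    | mul a b _ _ ha hb =>
      obtain ⟨u, hu, rfl⟩ := ha
      obtain ⟨v, hv, rfl⟩ := hb
      exact ⟨u + v, add_mem hu hv, el_add hu.1.1 hv.1.1 (mul_eq_zero_of_le hs.sq hu.2.1 hv.2.2)
        (mul_eq_zero_of_le hs.sq hv.2.1 hu.2.2)⟩
    | inv a _ ha =>
      obtain ⟨u, hu, rfl⟩ := ha
      exact ⟨-u, neg_mem hu, (el_neg hu.1.1).symm⟩
  · rintro ⟨t, ht, rfl⟩
    by_cases h0 : t = 0
    · rw [h0, el_zero]; exact one_mem _
    obtain ⟨hm, hk, hr⟩ := cls_spec hs ht h0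
    refine Subgroup.subset_closure ⟨min_el hm, ?_, ?_⟩
    · show LinearMap.ker (dm (el t)) = LinearMap.ker (dm σ)
      rwa [dm_el hm.sq]
    · show LinearMap.range (dm (el t)) = LinearMap.range (dm σ)
      rwa [dm_el hm.sq]

end CfsgLib.QuadPair
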