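/-
The two-by-two matrix algebra attached to a pair of square-zero elements `S, T` with `S T + T S`
invertible, and the splitting of the space along `S T + T S`.
-/
import Mathlib
import Cfsg.Agent.Lib.RootSub.Unipotent
import Cfsg.Agent.Lib.QuadPair.Basic
import Cfsg.Agent.Lib.QuadPair.SL2Ring

set_option autoImplicit false
set_option linter.unusedSectionVars false

open Cfsg CfsgLib.RootSub.Unip

namespace CfsgLib.QuadPair

/-- Data of the matrix algebra. -/
structure MData (k A R : Type*) [Field k] [CommRing A] [Algebra k A] [Ring R] [Algebra k R] where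
  ι : A →ₐ[k] R
  S : R
  T : R
  Z : Aˣ
  inj : Function.Injective ι
  hS : S * S = 0
  hT : T * T = 0
  hST : S * T + T * S = ι (Z : A)
  cS : ∀ x, Commute (ι x) S
  cT : ∀ x, Commute (ι x) T

section alg

variable {k A R : Type*} [Field k] [CommRing A] [Algebra k A] [Ring R] [Algebra k R] (D : MData k A R)

/-- The inverse of `Z`. -/
def MData.W : R := D.ι ((D.Z⁻¹ : Aˣ) : A)

/-- Matrix units. -/
def MData.mu : Matrix (Fin 2) (Fin 2) R := !![D.S * D.T * D.W, D.S; D.T * D.W, D.T * D.S * D.W]

theorem MData.cW_S : Commute D.W D.S := D.cS _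
theorem MData.cW_T : Commute D.W D.T := D.cT _

theorem MData.W_eq : (D.S * D.T + D.T * D.S) * D.W = 1 := by
  rw [D.hST, MData.W, ← map_mul, Units.mul_inv, map_one]

theorem MData.STS : D.S * D.T * D.S * D.W = D.S := by
  have h := congrArg (fun r => D.S * r) D.W_eq
  simp only [← mul_assoc, mul_add, add_mul, D.hS, zero_mul, zero_add, add_zero, mul_one] at h
  exact h

theorem MData.TST : D.T * D.S * D.T * D.W = D.T := by
  have h := congrArg (fun r => D.T * r) D.W_eq
  simp only [← mul_assoc, mul_add, add_mul, D.hT, zero_mul, zero_add, add_zero, mul_one] at h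
  exact h

theorem MData.mu_mul (i j l m : Fin 2) :
    D.mu i j * D.mu l m = if j = l then D.mu i m else 0 := by
  have a1 : ∀ r : R, D.W * (D.S * r) = D.S * (D.W * r) := fun r => by rw [← mul_assoc, D.cW_S.eq, mul_assoc]
  have a2 : ∀ r : R, D.W * (D.T * r) = D.T * (D.W * r) := fun r => by rw [← mul_assoc, D.cW_T.eq, mul_assoc]
  have a3 : D.W * D.S = D.S * D.W := D.cW_S.eq
  have a4 : D.W * D.T = D.T * D.W := D.cW_T.eq
  have b1 : ∀ r : R, D.S * (D.S * r) = 0 := fun r => by rw [← mul_assoc, D.hS, zero_mul]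
  have b2 : ∀ r : R, D.T * (D.T * r) = 0 := fun r => by rw [← mul_assoc, D.hT, zero_mul]
  have c1 : D.S * (D.T * (D.S * D.W)) = D.S := by simpa only [mul_assoc] using D.STS
  have c2 : D.T * (D.S * (D.T * D.W)) = D.T := by simpa only [mul_assoc] using D.TST
  have c1' : ∀ r : R, D.S * (D.T * (D.S * (D.W * r))) = D.S * r := fun r => by
    simpa only [mul_assoc] using congrArg (fun y => y * r) c1
  have c2' : ∀ r : R, D.T * (D.S * (D.T * (D.W * r))) = D.T * r := fun r => by
    simpa only [mul_assoc] using congrArg (fun y => y * r) c2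
  fin_cases i <;> fin_cases j <;> fin_cases l <;> fin_cases m <;>
    simp [MData.mu, mul_assoc, a1, a2, a3, a4, b1, b2, c1, c2, c1', c2', D.hS, D.hT]

theorem MData.mu_add : D.mu 0 0 + D.mu 1 1 = 1 := by
  have := D.W_eq
  rw [add_mul] at this
  simpa [MData.mu] using this

theorem MData.cmu (x : A) (i j : Fin 2) : Commute (D.ι x) (D.mu i j) := by
  have cW : Commute (D.ι x) D.W := (Commute.all x ((D.Z⁻¹ : Aˣ) : A)).map D.ι
  fin_cases i <;> fin_cases j <;> simp only [MData.mu]
  exacts [((D.cS x).mul_right (D.cT x)).mul_right cW, D.cS x, (D.cT x).mul_right cW,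
    ((D.cT x).mul_right (D.cS x)).mul_right cW]

/-- The algebra map of matrices. -/
def MData.mat : Matrix.SpecialLinearGroup (Fin 2) A →* R where
  toFun g := ∑ i, ∑ j, D.ι ((g : Matrix (Fin 2) (Fin 2) A) i j) * D.mu i j
  map_one' := by simpa [Fin.sum_univ_two] using D.mu_add
  map_mul' g h := by
    have key : ∀ (x y : A) (i j l m : Fin 2), D.ι x * D.mu i j * (D.ι y * D.mu l m) =
        if j = l then D.ι (x * y) * D.mu i m else 0 := by
      intro x y i j l m
      rw [mul_assoc, ← mul_assoc (D.mu i j), ← (D.cmu y i j).eq, mul_assoc (D.ι y), D.mu_mul, ← mul_assoc, ← map_mul]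
      split <;> simp
    simp only [Fin.sum_univ_two, mul_add, add_mul, key, mul_entry, map_add]
    simp only [Fin.reduceEq, if_true, if_false, add_zero, zero_add]
    abel

theorem MData.mat_apply (g : Matrix.SpecialLinearGroup (Fin 2) A) :
    D.mat g = ∑ i, ∑ j, D.ι ((g : Matrix (Fin 2) (Fin 2) A) i j) * D.mu i j := rfl

theorem MData.mat_upm (x : A) : D.mat (upm x) = 1 + D.ι x * D.S := by
  rw [D.mat_apply, ← D.mu_add]
  simp [Fin.sum_univ_two, upm_coe, MData.mu]
  abel

theorem MData.mat_lom (x : A) : D.mat (lom x) = 1 + D.ι x * (D.T * D.W) := by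
  rw [D.mat_apply, ← D.mu_add]
  simp [Fin.sum_univ_two, lom_coe, MData.mu]
  abel

theorem MData.mat_lom_Z (x : A) : D.mat (lom (x * (D.Z : A))) = 1 + D.ι x * D.T := by
  rw [D.mat_lom, map_mul, mul_assoc]
  congr 2
  rw [← mul_assoc, (D.cT _).eq, mul_assoc, MData.W, ← map_mul, Units.mul_inv, map_one, mul_one]

theorem MData.mat_neg_one : D.mat (-1) = -1 := by
  rw [D.mat_apply, ← D.mu_add]
  simp [Fin.sum_univ_two, Matrix.SpecialLinearGroup.coe_neg]
  abel

theorem MData.mat_inj : Function.Injective D.mat := by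
  have zero : ∀ (x : A) (i j : Fin 2), D.ι x * D.mu i j = 0 → x = 0 := by
    intro x i j h
    have h' : ∀ a b : Fin 2, D.ι x * D.mu a b = 0 := fun a b => by
      have h1 := congrArg (fun r => D.mu a i * r * D.mu j b) h
      simp only [mul_zero, zero_mul] at h1
      rw [← mul_assoc (D.mu a i), ← (D.cmu x a i).eq, mul_assoc (D.ι x), D.mu_mul, if_pos rfl, mul_assoc,
        D.mu_mul, if_pos rfl] at h1
      exact h1
    refine D.inj ?_
    rw [map_zero, ← mul_one (D.ι x), ← D.mu_add, mul_add, h', h', add_zero]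
  intro g h e
  refine Subtype.ext (Matrix.ext fun a b => ?_)
  have h1 := congrArg (fun r => D.mu a a * r * D.mu b b) e
  simp only [D.mat_apply] at h1
  have pick : ∀ q : Matrix.SpecialLinearGroup (Fin 2) A,
      D.mu a a * (∑ i, ∑ j, D.ι ((q : Matrix (Fin 2) (Fin 2) A) i j) * D.mu i j) * D.mu b b =
        D.ι ((q : Matrix (Fin 2) (Fin 2) A) a b) * D.mu a b := by
    intro q
    have : ∀ (x : A) (i j : Fin 2), D.mu a a * (D.ι x * D.mu i j) * D.mu b b =
        if a = i ∧ j = b then D.ι x * D.mu a b else 0 := fun x i j => by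
      rw [← mul_assoc, ← (D.cmu x a a).eq, mul_assoc (D.ι x), D.mu_mul]
      by_cases hi : a = i
      · subst hi
        rw [if_pos rfl, mul_assoc, D.mu_mul]
        by_cases hj : j = b <;> simp [hj]
      · simp [hi]
    simp only [Finset.mul_sum, Finset.sum_mul, this, ite_and]
    simp
  rw [pick, pick] at h1
  refine sub_eq_zero.mp (zero _ a b ?_)
  rw [map_sub, sub_mul, h1, sub_self]

end alg

/-! ### Fitting decomposition -/

variable {k : Type*} [Field k] {M : Type*} [AddCommGroup M] [Module k M]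

/-- `X` on `q`, the identity on `p`. -/
noncomputable def extEnd {p q : Submodule k M} (h : IsCompl q p) : Module.End k q →* Module.End k M where
  toFun X := (1 - q.subtype ∘ₗ q.projectionOnto p h) + q.subtype ∘ₗ X ∘ₗ q.projectionOnto p h
  map_one' := by
    refine LinearMap.ext fun v => ?_
    simp
  map_mul' X Y := by
    refine LinearMap.ext fun v => ?_
    simp [Module.End.mul_apply, map_add, map_sub, -Submodule.coe_projectionOnto_apply]

theorem extEnd_left {p q : Submodule k M} (h : IsCompl q p) (X : Module.End k q) (v : q) :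
    extEnd h X v = X v := by
  show ((1 - q.subtype ∘ₗ q.projectionOnto p h) + q.subtype ∘ₗ X ∘ₗ q.projectionOnto p h) (v : M) = _
  simp

theorem extEnd_right {p q : Submodule k M} (h : IsCompl q p) (X : Module.End k q) {v : M} (hv : v ∈ p) :
    extEnd h X v = v := by
  have h0 : q.projectionOnto p h v = 0 := by
    rw [show v = ((⟨v, hv⟩ : p) : M) from rfl, Submodule.projectionOnto_apply_right]
  show ((1 - q.subtype ∘ₗ q.projectionOnto p h) + q.subtype ∘ₗ X ∘ₗ q.projectionOnto p h) v = _
  simp [h0]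

theorem ext_compl {p q : Submodule k M} (h : IsCompl q p) {f g : Module.End k M}
    (h1 : ∀ v : q, f v = g v) (h2 : ∀ v ∈ p, f v = g v) : f = g := by
  refine LinearMap.ext fun v => ?_
  obtain ⟨a, ha, b, hb, rfl⟩ := Submodule.mem_sup.mp (h.sup_eq_top ▸ Submodule.mem_top : v ∈ q ⊔ p)
  rw [map_add, map_add, h1 ⟨a, ha⟩, h2 b hb]

end CfsgLib.QuadPair
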