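/-
Pairs of minimal quadratic elements with nilpotent product: class two, and the class of the commutator.
-/
import Mathlib
import Cfsg.Prelude.Def_RootSubgroups
import Cfsg.Agent.Lib.RootSub.Unipotent
import Cfsg.Agent.Lib.QuadPair.Basic

set_option autoImplicit false
set_option linter.unusedSectionVars false

open Cfsg CfsgLib.RootSub.Unip

namespace CfsgLib.QuadPair

variable {k : Type*} [Field k] {M : Type*} [AddCommGroup M] [Module k M]
variable {G : Subgroup (LinearMap.GeneralLinearGroup k M)}

local notation "End'" => Module.End k M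

theorem el_comm_mul {u v : End'} (hu : u * u = 0) (hv : v * v = 0) (h1 : u * v * u = 0) (h2 : v * u * v = 0) :
    el u * el v * el (-u) * el (-v) = el (u * v - v * u) ∧ (u * v - v * u) * (u * v - v * u) = 0 := by
  have e : (u * v - v * u) * (u * v - v * u) = 0 := by
    have : (u * v - v * u) * (u * v - v * u) =
        u * v * u * v - u * (v * v) * u - v * (u * u) * v + v * u * v * u := by noncomm_ring
    rw [this, h1, hv, hu, h2]
    simp
  refine ⟨Units.ext ?_, e⟩
  simp only [Units.val_mul, coe_el hu, coe_el hv, coe_el (neg_sq hu), coe_el (neg_sq hv), coe_el e]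
  have : (1 + u) * (1 + v) * (1 + -u) * (1 + -v) =
      1 + (u * v - v * u) - u * u - v * v + (u * u) * v + v * u * v - u * v * u - u * (v * v)
        + u * v * u * v := by noncomm_ring
  rw [this, h1, hu, hv, h2]
  simp

/-- The commutator of two elements. -/
theorem br_mem {u v : End'} (hu : u ∈ Sc G) (hv : v ∈ Sc G) (h1 : u * v * u = 0) (h2 : v * u * v = 0) :
    u * v - v * u ∈ Sc G := by
  refine ⟨(el_comm_mul hu.1 hv.1 h1 h2).2, fun c => ?_⟩
  have hc := sc_smul hu c
  have := (el_comm_mul (u := c • u) (v := v) hc.1 hv.1 (by simp [h1, smul_smul])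
    (by simp [h2])).1
  rw [smul_mul_assoc, mul_smul_comm, ← smul_sub] at this
  rw [← this]
  exact mul_mem (mul_mem (mul_mem (el_mem hc) (el_mem hv)) (el_mem (sc_neg hc))) (el_mem (sc_neg hv))

section fin

variable [FiniteDimensional k M]

theorem rk_mul_lt {f s : End'} (hf : IsNilpotent f) (hs : s ≠ 0)
    (hle : LinearMap.range (f * s) ≤ LinearMap.range s) : rk (f * s) < rk s := by
  refine Submodule.finrank_lt_finrank_of_lt (lt_of_le_of_ne hle fun h => hs ?_)
  obtain ⟨n, hn⟩ := hf
  have h2 : ∀ m : ℕ, LinearMap.range (f ^ m * s) = LinearMap.range s := by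
    intro m
    induction m with
    | zero => simp
    | succ m ih =>
      rw [pow_succ', mul_assoc, Module.End.mul_eq_comp f, LinearMap.range_comp, ih,
        ← LinearMap.range_comp]
      exact h
  have := h2 n
  rw [hn, zero_mul, LinearMap.range_zero] at this
  exact LinearMap.range_eq_bot.mp this.symm

theorem rk_mul_lt' {s t : End'} {m : ℕ} (hm : (s * t) ^ m = 0) (hs : s ≠ 0) (j : ℕ) (hj : 1 ≤ j) :
    rk ((s * t) ^ j * s) < rk s := by
  refine rk_mul_lt (IsNilpotent.pow_of_pos ⟨m, hm⟩ (by omega)) hs ?_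
  obtain ⟨i, rfl⟩ : ∃ i, j = i + 1 := ⟨j - 1, by omega⟩
  rw [pow_succ', mul_assoc, mul_assoc, Module.End.mul_eq_comp s]
  exact LinearMap.range_comp_le_range _ _

theorem cjE_mem_el {s t : End'} (hs : s ∈ Sc G) (ht : t ∈ Sc G) :
    s + (t * s - s * t) - t * s * t ∈ Sc G := by
  rw [← cjE_el ht.1]
  exact sc_cjE (el_mem ht) hs

theorem sts_of_five (h2 : (2 : k) ≠ 0) {s t : End'} (hs : Min G s) (ht : Min G t)
    (h5 : s * t * s * t * s = 0) : s * t * s = 0 := by
  have hss := hs.sq
  have htt := ht.sq
  have hss' : ∀ x : End', x * s * s = 0 := fun x => by rw [mul_assoc, hss, mul_zero]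
  have htt' : ∀ x : End', x * t * t = 0 := fun x => by rw [mul_assoc, htt, mul_zero]
  have h5' : ∀ x : End', x * s * t * s * t * s = 0 := fun x => by
    have : x * s * t * s * t * s = x * (s * t * s * t * s) := by simp only [mul_assoc]
    rw [this, h5, mul_zero]
  set s' := s + (t * s - s * t) - t * s * t with hs'
  have hs'm : s' ∈ Sc G := cjE_mem_el hs.1 ht.1
  have e1 : s * s' * s = 0 := by
    simp only [hs', mul_add, mul_sub, add_mul, sub_mul, ← mul_assoc, hss, htt, hss', htt', h5, h5',
      zero_mul, add_zero, sub_zero, zero_sub, zero_add, neg_zero]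
  have e2 : s' * s * s' = 0 := by
    simp only [hs', mul_add, mul_sub, add_mul, sub_mul, ← mul_assoc, hss, htt, hss', htt', h5, h5',
      zero_mul, add_zero, sub_zero, zero_sub, zero_add, neg_zero, neg_mul, mul_neg, neg_neg]
    try abel
  have hn : (t * s) ^ 3 = 0 := by
    simp only [pow_succ, pow_zero, one_mul, ← mul_assoc, h5']
  have hn' : (s * t) ^ 3 = 0 := by
    simp only [pow_succ, pow_zero, one_mul, ← mul_assoc, h5, zero_mul]
  obtain ⟨W, hW⟩ : ∃ W : End', W = s * t * s := ⟨_, rfl⟩
  obtain ⟨A, hA⟩ : ∃ A : End', A = t * s * t * s - s * t * s * t := ⟨_, rfl⟩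
  obtain ⟨B, hB⟩ : ∃ B : End', B = t * s * t * s * t := ⟨_, rfl⟩
  have hD1 : (2 : k) • W + A ∈ Sc G := by
    have := br_mem hs.1 hs'm e1 e2
    convert this using 1
    simp only [hW, hA, hs', mul_add, mul_sub, add_mul, sub_mul, ← mul_assoc, hss, htt, hss', htt', h5, h5',
      zero_mul, two_smul]
    abel
  -- products of the four words vanish
  have key : ∀ a b c d e f : k, (a • W + b • A + c • B) * (d • W + e • A + f • B) = 0 := by
    intro a b c d e f
    simp only [hW, hA, hB, smul_sub, mul_add, mul_sub, add_mul, sub_mul, smul_mul_assoc, mul_smul_comm, ← mul_assoc,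
      hss, htt, hss', htt', h5, h5', zero_mul, smul_zero, add_zero, sub_zero]
  have hz : ∀ a b c d e f : k, a • W + b • A + c • B ∈ Sc G → d • W + e • A + f • B ∈ Sc G →
      (a + d) • W + (b + e) • A + (c + f) • B ∈ Sc G := by
    intro a b c d e f h1 h2
    have := sc_add h1 h2 (key a b c d e f) (key d e f a b c)
    convert this using 1
    simp only [add_smul]
    abel
  have hD1' : (2 : k) • W + (1 : k) • A + (0 : k) • B ∈ Sc G := by simpa using hD1
  have hconj : ∀ e : k, (2 : k) • W + (1 + 2 * e) • A + (-2 * (e + e * e)) • B ∈ Sc G := by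
    intro e
    have := cjE_mem_el hD1 (sc_smul ht.1 e)
    convert this using 1
    simp only [hW, hA, hB, smul_sub, mul_add, mul_sub, add_mul, sub_mul, smul_add, smul_mul_assoc, mul_smul_comm,
      ← mul_assoc, hss, htt, hss', htt', h5, h5', zero_mul, smul_zero, smul_smul]
    module
  have hB1 : B ∈ Sc G := by
    have h := hz _ _ _ _ _ _ (hz _ _ _ _ _ _ (hconj 1) (hconj (-1)))
      (show (-4 : k) • W + (-2 : k) • A + (0 : k) • B ∈ Sc G by
        have := sc_smul hD1' (-2 : k)
        convert this using 1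
        simp only [smul_add, smul_smul]; norm_num)
    have h4 : (-4 : k) ≠ 0 := by
      rw [neg_ne_zero, show (4 : k) = 2 * 2 by norm_num]; exact mul_ne_zero h2 h2
    have h' := sc_smul h (-4 : k)⁻¹
    convert h' using 1
    norm_num [smul_smul]
    rw [inv_mul_cancel₀ (by simpa using h4), one_smul] at *
  have hB0 : B = 0 := ht.small hB1 (by
    have := rk_mul_lt' hn ht.2.1 2 (by norm_num)
    simpa only [hB, pow_succ, pow_zero, one_mul, ← mul_assoc] using this)
  have hA1 : A ∈ Sc G := by
    have h := hz _ _ _ _ _ _ (hconj 1) (show (-2 : k) • W + (-1 : k) • A + (0 : k) • B ∈ Sc G by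
      have := sc_neg hD1'
      convert this using 1
      simp only [neg_add, neg_smul]; simp)
    have h' := sc_smul h (2 : k)⁻¹
    convert h' using 1
    rw [hB0]
    norm_num [smul_smul, h2]
  have hW1 : W ∈ Sc G := by
    have h := hz _ _ _ _ _ _ hD1' (show (0 : k) • W + (-1 : k) • A + (0 : k) • B ∈ Sc G by
      have := sc_neg hA1
      simpa using this)
    have h' := sc_smul h (2 : k)⁻¹
    convert h' using 1
    norm_num [smul_smul, h2]
  rw [← hW]
  exact hs.small hW1 (by simpa [hW] using rk_mul_lt' hn' hs.2.1 1 le_rfl)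

theorem pow_word_conj {s t : End'} (hs : s * s = 0) (ht : t * t = 0) (j : ℕ) :
    (s * (s + (t * s - s * t) - t * s * t)) ^ j * s = (-1 : k) ^ j • ((s * t) ^ (2 * j) * s) := by
  induction j with
  | zero => simp
  | succ j ih =>
    rw [pow_succ', mul_assoc, ih, mul_smul_comm]
    have hs' : ∀ x : End', s * (s * x) = 0 := fun x => by rw [← mul_assoc, hs, zero_mul]
    have key : ∀ i : ℕ, s * (s + (t * s - s * t) - t * s * t) * ((s * t) ^ i * s) =
        -((s * t) ^ (i + 2) * s) := by
      intro i
      have e : ∀ x : End', s * (s + (t * s - s * t) - t * s * t) * x =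
          s * t * s * x - s * t * (s * t) * x + (s * s) * x - (s * s) * t * x := fun x => by noncomm_ring
      rw [e, hs, pow_succ', pow_succ']
      rcases Nat.eq_zero_or_pos i with h | h
      · subst h
        simp only [pow_zero, one_mul, mul_one, zero_mul, sub_zero, add_zero]
        simp only [mul_assoc, hs, mul_zero, zero_sub]
      · obtain ⟨i, rfl⟩ : ∃ l, i = l + 1 := ⟨i - 1, by omega⟩
        simp only [pow_succ', zero_mul, sub_zero, add_zero]
        simp only [mul_assoc, hs', mul_zero, zero_sub]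
    rw [key, pow_succ (-1 : k), mul_smul, neg_one_smul, show 2 * (j + 1) = 2 * j + 2 by ring]

theorem sts_zero (h2 : (2 : k) ≠ 0) {s t : End'} (hs : Min G s) (ht : Min G t)
    (hn : IsNilpotent (s * t)) : s * t * s = 0 := by
  obtain ⟨m, hm⟩ := hn
  have hm' : (s * t) ^ m * s = 0 := by rw [hm, zero_mul]
  clear hm
  induction m using Nat.strong_induction_on generalizing t with
  | h m ih =>
    rcases Nat.lt_or_ge m 2 with h | h
    · interval_cases m
      · exact absurd (by simpa using hm') hs.2.1
      · simpa using hm'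
    · refine sts_of_five h2 hs ht ?_
      have hmem : Min G (cjE (el t) s) := hs.cjE (el_mem ht.1)
      rw [cjE_el ht.sq] at hmem
      have := ih ((m + 1) / 2) (by omega) hmem (by
        rw [pow_word_conj hs.sq ht.sq]
        have : 2 * ((m + 1) / 2) = (2 * ((m + 1) / 2) - m) + m := by omega
        rw [this, pow_add, mul_assoc, hm', mul_zero, smul_zero])
      have e := pow_word_conj (k := k) hs.sq ht.sq 1
      simp only [pow_one, this, neg_one_smul, zero_eq_neg] at e
      simpa [pow_two, mul_assoc] using e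

/-- Both intersections of image and kernel vanish. -/
def Opp (s t : Module.End k M) : Prop :=
  LinearMap.range s ⊓ LinearMap.ker t = ⊥ ∧ LinearMap.range t ⊓ LinearMap.ker s = ⊥

theorem nilp_swap {s t : End'} (hn : IsNilpotent (s * t)) : IsNilpotent (t * s) := by
  obtain ⟨m, hm⟩ := hn
  refine ⟨m + 1, ?_⟩
  have : ∀ j : ℕ, (t * s) ^ (j + 1) = t * (s * t) ^ j * s := by
    intro j
    induction j with
    | zero => simp
    | succ j ih => rw [pow_succ, ih, pow_succ]; simp only [mul_assoc]
  rw [this, hm, mul_zero, zero_mul]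

theorem not_opp (h2 : (2 : k) ≠ 0) {s t : End'} (hs : Min G s) (ht : Min G t)
    (hn : IsNilpotent (s * t)) : ¬ Opp s t := by
  rintro ⟨h, h'⟩
  apply hs.2.1
  refine LinearMap.ext fun v => ?_
  have e : t (s v) ∈ LinearMap.range t ⊓ LinearMap.ker s :=
    ⟨LinearMap.mem_range_self _ _, DFunLike.congr_fun (sts_zero h2 hs ht hn) v⟩
  rw [h', Submodule.mem_bot] at e
  have e' : s v ∈ LinearMap.range s ⊓ LinearMap.ker t := ⟨LinearMap.mem_range_self _ _, e⟩
  rw [h, Submodule.mem_bot] at e'
  exact e'

/-- The geometry of a non-zero commutator. -/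
structure BrSpec (s t : Module.End k M) : Prop where
  range_st : LinearMap.range (s * t) = LinearMap.range s ⊓ LinearMap.ker t
  range_ts : LinearMap.range (t * s) = LinearMap.range t ⊓ LinearMap.ker s
  ker_st : LinearMap.ker (s * t) = LinearMap.range s ⊔ LinearMap.ker t
  ker_ts : LinearMap.ker (t * s) = LinearMap.range t ⊔ LinearMap.ker s
  inter : LinearMap.range s ⊓ LinearMap.range t = ⊥
  range_br : LinearMap.range (s * t - t * s) =
    (LinearMap.range s ⊓ LinearMap.ker t) ⊔ (LinearMap.range t ⊓ LinearMap.ker s)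
  ker_br : LinearMap.ker (s * t - t * s) =
    (LinearMap.range s ⊔ LinearMap.ker t) ⊓ (LinearMap.range t ⊔ LinearMap.ker s)

theorem rk_mul (t s : End') :
    rk (t * s) + Module.finrank k ↥(LinearMap.range s ⊓ LinearMap.ker t) = rk s := by
  have h := LinearMap.finrank_range_add_finrank_ker (t.comp (LinearMap.range s).subtype)
  rw [LinearMap.range_comp, Submodule.range_subtype, ← LinearMap.range_comp, LinearMap.ker_comp] at h
  have e : Module.finrank k ↥((LinearMap.ker t).comap (LinearMap.range s).subtype) =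
      Module.finrank k ↥(LinearMap.range s ⊓ LinearMap.ker t) := by
    rw [← Submodule.finrank_map_subtype_eq, Submodule.map_comap_subtype]
  rw [e] at h
  rw [rk, rk, Module.End.mul_eq_comp]
  exact h

theorem br_spec (h2 : (2 : k) ≠ 0) {s t : End'} (hs : Min G s) (ht : Min G t)
    (hn : IsNilpotent (s * t)) (h0 : s * t - t * s ≠ 0) :
    BrSpec s t ∧ Min G (s * t - t * s) := by
  have e1 := sts_zero h2 hs ht hn
  have e2 := sts_zero h2 ht hs (nilp_swap hn)
  have hD := br_mem hs.1 ht.1 e1 e2
  set D := s * t - t * s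
  have hd := hs.2.2 D hD h0
  have hst := hs.rk_eq ht
  have l1 : LinearMap.range (s * t) ≤ LinearMap.range s ⊓ LinearMap.ker t := by
    rintro _ ⟨v, rfl⟩
    exact ⟨LinearMap.mem_range_self s _, DFunLike.congr_fun e2 v⟩
  have l2 : LinearMap.range (t * s) ≤ LinearMap.range t ⊓ LinearMap.ker s := by
    rintro _ ⟨v, rfl⟩
    exact ⟨LinearMap.mem_range_self t _, DFunLike.congr_fun e1 v⟩
  have lD : LinearMap.range D ≤ LinearMap.range (s * t) ⊔ LinearMap.range (t * s) := by
    rintro _ ⟨v, rfl⟩
    exact sub_mem (Submodule.mem_sup_left (LinearMap.mem_range_self _ v))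
      (Submodule.mem_sup_right (LinearMap.mem_range_self _ v))
  have f1 := rk_mul t s
  have f2 := rk_mul s t
  have g1 := Submodule.finrank_mono l1
  have g2 := Submodule.finrank_mono l2
  have g3 := Submodule.finrank_mono lD
  have g4 := Submodule.finrank_sup_add_finrank_inf_eq (LinearMap.range (s * t)) (LinearMap.range (t * s))
  simp only [rk] at hd hst f1 f2
  have r1 : LinearMap.range (s * t) = LinearMap.range s ⊓ LinearMap.ker t :=
    Submodule.eq_of_le_of_finrank_le l1 (by omega)
  have r2 : LinearMap.range (t * s) = LinearMap.range t ⊓ LinearMap.ker s :=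
    Submodule.eq_of_le_of_finrank_le l2 (by omega)
  have rD : LinearMap.range D = LinearMap.range (s * t) ⊔ LinearMap.range (t * s) :=
    Submodule.eq_of_le_of_finrank_le lD (by omega)
  have hdis : LinearMap.range (s * t) ⊓ LinearMap.range (t * s) = ⊥ :=
    Submodule.finrank_eq_zero.mp (by omega)
  have k1 : LinearMap.range s ⊔ LinearMap.ker t ≤ LinearMap.ker (s * t) := by
    refine sup_le ?_ fun v hv => ?_
    · rintro _ ⟨v, rfl⟩
      exact DFunLike.congr_fun e1 v
    · rw [LinearMap.mem_ker, Module.End.mul_apply, LinearMap.mem_ker.mp hv, map_zero]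
  have k2 : LinearMap.range t ⊔ LinearMap.ker s ≤ LinearMap.ker (t * s) := by
    refine sup_le ?_ fun v hv => ?_
    · rintro _ ⟨v, rfl⟩
      exact DFunLike.congr_fun e2 v
    · rw [LinearMap.mem_ker, Module.End.mul_apply, LinearMap.mem_ker.mp hv, map_zero]
  have n1 := LinearMap.finrank_range_add_finrank_ker (s * t)
  have n2 := LinearMap.finrank_range_add_finrank_ker (t * s)
  have n3 := LinearMap.finrank_range_add_finrank_ker t
  have n4 := LinearMap.finrank_range_add_finrank_ker s
  have n5 := LinearMap.finrank_range_add_finrank_ker D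
  have s1 := Submodule.finrank_sup_add_finrank_inf_eq (LinearMap.range s) (LinearMap.ker t)
  have s2 := Submodule.finrank_sup_add_finrank_inf_eq (LinearMap.range t) (LinearMap.ker s)
  have e1' := congrArg (fun X : Submodule k M => Module.finrank k X) r1
  have e2' := congrArg (fun X : Submodule k M => Module.finrank k X) r2
  have k1' : LinearMap.range s ⊔ LinearMap.ker t = LinearMap.ker (s * t) :=
    Submodule.eq_of_le_of_finrank_le k1 (by omega)
  have k2' : LinearMap.range t ⊔ LinearMap.ker s = LinearMap.ker (t * s) :=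
    Submodule.eq_of_le_of_finrank_le k2 (by omega)
  have kD : LinearMap.ker (s * t) ⊓ LinearMap.ker (t * s) = LinearMap.ker D := by
    refine Submodule.eq_of_le_of_finrank_le (fun v hv => ?_) ?_
    · obtain ⟨h1, h2⟩ := hv
      rw [LinearMap.mem_ker, LinearMap.sub_apply, LinearMap.mem_ker.mp h1, LinearMap.mem_ker.mp h2, sub_zero]
    · have s3 := Submodule.finrank_sup_add_finrank_inf_eq (LinearMap.ker (s * t)) (LinearMap.ker (t * s))
      have s4 := Submodule.finrank_le (LinearMap.ker (s * t) ⊔ LinearMap.ker (t * s))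
      omega
  refine ⟨⟨r1, r2, k1'.symm, k2'.symm, ?_, ?_, ?_⟩, hs.of_rk_le hD h0 (by simp only [rk]; omega)⟩
  · rw [eq_bot_iff, ← hdis, r1, r2]
    rintro v ⟨⟨a, rfl⟩, hb⟩
    have ha : s (s a) = 0 := DFunLike.congr_fun hs.sq a
    obtain ⟨b, hb'⟩ := hb
    have hb2 : t (s a) = 0 := by rw [← hb']; exact DFunLike.congr_fun ht.sq b
    exact ⟨⟨LinearMap.mem_range_self _ _, hb2⟩, ⟨⟨b, hb'⟩, ha⟩⟩
  · rw [rD, r1, r2]
  · rw [← kD, k1', k2']

theorem br_cls (h2 : (2 : k) ≠ 0) {s t s' t' : End'} (hs : Min G s) (ht : Min G t) (hn : IsNilpotent (s * t))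
    (h0 : s * t - t * s ≠ 0) (hs' : s' ∈ cls G hs.sq) (ht' : t' ∈ cls G ht.sq) (hn' : IsNilpotent (s' * t'))
    (hs0 : s' ≠ 0) (ht0 : t' ≠ 0) :
    s' * t' - t' * s' ≠ 0 ∧ s' * t' - t' * s' ∈ cls G (br_spec h2 hs ht hn h0).2.sq := by
  obtain ⟨S, -⟩ := br_spec h2 hs ht hn h0
  obtain ⟨hsm, hsk, hsr⟩ := cls_spec hs hs' hs0
  obtain ⟨htm, htk, htr⟩ := cls_spec ht ht' ht0
  have hne : s' * t' - t' * s' ≠ 0 := by
    intro h
    apply h0
    rw [sub_eq_zero] at h
    have z : ∀ v, s' (t' v) = 0 := fun v => by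
      have : s' (t' v) ∈ LinearMap.range s ⊓ LinearMap.range t :=
        ⟨hsr ▸ LinearMap.mem_range_self _ _, htr ▸ (show s' (t' v) = t' (s' v) from DFunLike.congr_fun h v) ▸
          LinearMap.mem_range_self _ _⟩
      rwa [S.inter, Submodule.mem_bot] at this
    have z1 : s * t = 0 := by
      refine LinearMap.ext fun v => ?_
      have h1 : t v ∈ LinearMap.range t' := htr ▸ LinearMap.mem_range_self t v
      obtain ⟨w, hw⟩ := h1
      have : t v ∈ LinearMap.ker s' := by rw [LinearMap.mem_ker, ← hw]; exact z w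
      rw [hsk, LinearMap.mem_ker] at this
      exact this
    have z2 : t * s = 0 := by
      refine LinearMap.ext fun v => ?_
      obtain ⟨w, hw⟩ : s v ∈ LinearMap.range s' := hsr ▸ LinearMap.mem_range_self s v
      have : s v ∈ LinearMap.ker t' := by
        rw [LinearMap.mem_ker, ← hw]
        exact (DFunLike.congr_fun h w).symm.trans (z w)
      rw [htk, LinearMap.mem_ker] at this
      exact this
    rw [z1, z2, sub_zero]
  obtain ⟨S', hm⟩ := br_spec h2 hsm htm hn' hne
  refine ⟨hne, hm.1, ?_, ?_⟩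
  · rw [S'.ker_br, S.ker_br, hsk, htk, hsr, htr]
  · rw [S'.range_br, S.range_br, hsk, htk, hsr, htr]

end fin

end CfsgLib.QuadPair
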