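/-
Pairs of minimal quadratic elements with non-nilpotent product: `SL(2)` over a monogenic field.
-/
import Mathlib
import Cfsg.Prelude.Def_RootSubgroups
import Cfsg.Agent.Lib.RootSub.Unipotent
import Cfsg.Agent.Lib.QuadPair.Unip
import Cfsg.Agent.Lib.QuadPair.SL2Full
import Cfsg.Agent.Lib.QuadPair.Split

set_option autoImplicit false
set_option linter.unusedSectionVars false

open Cfsg CfsgLib.RootSub.Unip
open scoped commutatorElement

namespace CfsgLib.QuadPair

universe u v

section general

variable {k : Type*} [Field k] {M : Type*} [AddCommGroup M] [Module k M]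

local notation "End'" => Module.End k M
local notation "GLM" => LinearMap.GeneralLinearGroup k M

/-- The group generated by two scalar families. -/
def pairGrp (s t : Module.End k M) : Subgroup (LinearMap.GeneralLinearGroup k M) :=
  Subgroup.closure ({g | ∃ c : k, g = el (c • s)} ∪ {g | ∃ c : k, g = el (c • t)})

theorem pairGrp_swap (s t : End') : pairGrp s t = pairGrp t s := by rw [pairGrp, pairGrp, Set.union_comm]

theorem nilp_of_anti {s t : End'} (hs : s * s = 0) (ht : t * t = 0) {n : ℕ} (h : (s * t + t * s) ^ n = 0) :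
    IsNilpotent (s * t) := by
  have e1 : s * t * (t * s) = 0 := by rw [mul_assoc, ← mul_assoc t t, ht, zero_mul, mul_zero]
  have e2 : t * s * (s * t) = 0 := by rw [mul_assoc, ← mul_assoc s s, hs, zero_mul, mul_zero]
  have key : ∀ j : ℕ, (s * t + t * s) ^ (j + 1) = (s * t) ^ (j + 1) + (t * s) ^ (j + 1) := by
    intro j
    induction j with
    | zero => simp
    | succ j ih =>
      rw [pow_succ (s * t + t * s), ih, add_mul, mul_add, mul_add, pow_succ (s * t) (j + 1),
        pow_succ (t * s) (j + 1)]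
      rw [pow_succ (s * t) j, pow_succ (t * s) j, mul_assoc _ (s * t) (t * s), e1, mul_assoc _ (t * s) (s * t), e2,
        mul_zero, mul_zero, add_zero, zero_add]
  have h' : (s * t) ^ (n + 1) + (t * s) ^ (n + 1) = 0 := by rw [← key, pow_succ, h, zero_mul]
  refine ⟨n + 1 + 1, ?_⟩
  have h2 := congrArg (fun r => r * (s * t)) h'
  simp only [add_mul, zero_mul, ← pow_succ] at h2
  rw [pow_succ (t * s) n, mul_assoc _ (t * s) (s * t), e2, mul_zero, add_zero] at h2
  exact h2

/-- Words in two letters alternate. -/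
theorem unip_pair {s t : End'} (hs : s * s = 0) (ht : t * t = 0) (hn : IsNilpotent (s * t))
    {U : Subgroup GLM} (hU : U = pairGrp s t) : IsUnipotentOn U := by
  obtain ⟨m, hm⟩ := hn
  have hm' : (t * s) ^ (m + 1) = 0 := by
    have : ∀ j : ℕ, (t * s) ^ (j + 1) = t * (s * t) ^ j * s := by
      intro j
      induction j with
      | zero => simp
      | succ j ih => rw [pow_succ, ih, pow_succ]; simp only [mul_assoc]
    rw [this, hm, mul_zero, zero_mul]
  let P : Submodule k (Module.End k M) := Submodule.span k {s, t}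
  let w : ℕ → Module.End k M × Module.End k M := fun j => Nat.rec (1, 1) (fun _ x => (s * x.2, t * x.1)) j
  have w0 : w 0 = (1, 1) := rfl
  have wS : ∀ j, w (j + 1) = (s * (w j).2, t * (w j).1) := fun j => rfl
  have weven : ∀ j, w (2 * j) = ((s * t) ^ j, (t * s) ^ j) := by
    intro j
    induction j with
    | zero => simpa using w0
    | succ j ih =>
      rw [show 2 * (j + 1) = 2 * j + 1 + 1 by ring,
        show w (2 * j + 1 + 1) = (s * (t * (w (2 * j)).1), t * (s * (w (2 * j)).2)) from rfl, ih]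
      simp [pow_succ', mul_assoc]
  have hP : ∀ j, P ^ j ≤ Submodule.span k {(w j).1, (w j).2} := by
    intro j
    induction j with
    | zero =>
      rw [pow_zero, Submodule.one_eq_span, w0]
      exact Submodule.span_mono (by simp)
    | succ j ih =>
      rw [pow_succ', wS]
      refine le_trans (mul_le_mul' le_rfl ih) ?_
      rw [Submodule.span_mul_span, Submodule.span_le]
      rintro _ ⟨a, ha, b, hb, rfl⟩
      rcases ha with rfl | rfl <;> rcases hb with rfl | rfl
      · rcases Nat.eq_zero_or_pos j with h | h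
        · subst h; exact Submodule.subset_span (Or.inl (by simp [w0]))
        · obtain ⟨i, rfl⟩ : ∃ i, j = i + 1 := ⟨j - 1, by omega⟩
          simp [wS, ← mul_assoc, hs]
      · exact Submodule.subset_span (Or.inl rfl)
      · exact Submodule.subset_span (Or.inr rfl)
      · rcases Nat.eq_zero_or_pos j with h | h
        · subst h; exact Submodule.subset_span (Or.inr (by simp [w0]))
        · obtain ⟨i, rfl⟩ : ∃ i, j = i + 1 := ⟨j - 1, by omega⟩
          simp [wS, ← mul_assoc, ht]
  set L := 2 * (m + 1)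
  have hL : P ^ L = ⊥ := eq_bot_iff.mpr (le_trans (hP L) (Submodule.span_le.mpr (by
    rw [weven, hm', pow_succ, hm, zero_mul]
    simp)))
  let N : Submodule k (Module.End k M) := ⨆ i, P ^ (i + 1)
  have hN : ∀ j, N ^ j ≤ ⨆ i, P ^ (i + j) := by
    intro j
    induction j with
    | zero => rw [pow_zero]; exact le_iSup_of_le 0 (by simp)
    | succ j ih =>
      rw [pow_succ]
      refine le_trans (mul_le_mul' ih le_rfl) ?_
      rw [Submodule.iSup_mul]
      refine iSup_le fun i => ?_
      rw [Submodule.mul_iSup]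
      exact iSup_le fun l => le_iSup_of_le (i + l) (by rw [← pow_add]; exact le_of_eq (by ring_nf))
  have hmem : ∀ g ∈ U, dm g ∈ N := by
    have h2 : ∀ x y : Module.End k M, x ∈ N → y ∈ N → x + y + x * y ∈ N := by
      intro x y hx hy
      refine add_mem (add_mem hx hy) ?_
      have := hN 2 (by rw [pow_two]; exact Submodule.mul_mem_mul hx hy)
      exact (iSup_le fun i => le_iSup_of_le (i + 1) le_rfl : (⨆ i, P ^ (i + 2)) ≤ N) this
    intro g hg
    rw [hU] at hg
    induction hg using Subgroup.closure_induction'' with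
    | mem x hx =>
      rcases hx with ⟨c, rfl⟩ | ⟨c, rfl⟩
      · rw [dm_el (smul_sq hs c)]
        exact Submodule.mem_iSup_of_mem 0 (by simpa [P] using Submodule.smul_mem _ c (Submodule.subset_span (show s ∈ ({s, t} : Set (Module.End k M)) from Or.inl rfl)))
      · rw [dm_el (smul_sq ht c)]
        exact Submodule.mem_iSup_of_mem 0 (by simpa [P] using Submodule.smul_mem _ c (Submodule.subset_span (show t ∈ ({s, t} : Set (Module.End k M)) from Or.inr rfl)))
    | inv_mem x hx =>
      rcases hx with ⟨c, rfl⟩ | ⟨c, rfl⟩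
      · rw [← el_neg (smul_sq hs c), ← neg_smul, dm_el (smul_sq hs _)]
        exact Submodule.mem_iSup_of_mem 0 (by simpa [P] using Submodule.smul_mem _ (-c) (Submodule.subset_span (show s ∈ ({s, t} : Set (Module.End k M)) from Or.inl rfl)))
      · rw [← el_neg (smul_sq ht c), ← neg_smul, dm_el (smul_sq ht _)]
        exact Submodule.mem_iSup_of_mem 0 (by simpa [P] using Submodule.smul_mem _ (-c) (Submodule.subset_span (show t ∈ ({s, t} : Set (Module.End k M)) from Or.inr rfl)))
    | one => rw [dm_one]; exact zero_mem _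
    | mul x y _ _ ihx ihy => rw [dm_mul]; exact h2 _ _ ihx ihy
  refine isUnip_iff.mpr ⟨L, fun l hl hlen => ?_⟩
  have hprod : ∀ l : List GLM, (∀ g ∈ l, g ∈ U) → (l.map dm).prod ∈ N ^ l.length := by
    intro l
    induction l with
    | nil => intro _; rw [List.map_nil, List.prod_nil, List.length_nil, pow_zero]; exact Submodule.one_le.mp le_rfl
    | cons a l ih =>
      intro hl
      rw [List.map_cons, List.prod_cons, List.length_cons, pow_succ']
      exact Submodule.mul_mem_mul (hmem a (hl a (by simp))) (ih fun g hg => hl g (by simp [hg]))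
  have h1 := hN L (hlen ▸ hprod l hl)
  have hbot : (⨆ i, P ^ (i + L)) = ⊥ := by
    simp [pow_add, hL]
  rwa [hbot, Submodule.mem_bot] at h1

theorem map_range_of_comm {z f : End'} (hc : Commute f z) (n : ℕ) :
    ∀ x ∈ LinearMap.range (z ^ n), f x ∈ LinearMap.range (z ^ n) := by
  rintro _ ⟨w, rfl⟩
  exact ⟨f w, (DFunLike.congr_fun (hc.pow_right n).eq w).symm⟩

theorem map_ker_of_comm {z f : End'} (hc : Commute f z) (n : ℕ) :
    ∀ x ∈ LinearMap.ker (z ^ n), f x ∈ LinearMap.ker (z ^ n) := by
  intro x hx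
  rw [LinearMap.mem_ker] at hx ⊢
  rw [← Module.End.mul_apply, ← (hc.pow_right n).eq, Module.End.mul_apply, hx, map_zero]

/-- The iterated commutator kills a nilpotent first component. -/
theorem kill_fst {U L : Type*} [Group U] [Group L] [Group.IsNilpotent U] (S : Subgroup (U × L)) {h : U × L}
    (hh : h ∈ S) (f : k → L) {μ : k} (hμ : μ ≠ 1) (hadd : ∀ a b, f (a + b) = f a * f b)
    (hconj : ∀ c, h.2 * f c * h.2⁻¹ = f (μ * c)) (hbase : ∀ c, ∃ u, (u, f c) ∈ S) (c : k) : (1, f c) ∈ S := by
  obtain ⟨n, hn⟩ := Subgroup.nilpotent_iff_lowerCentralSeries.mp (inferInstance : Group.IsNilpotent U)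
  have main : ∀ r : ℕ, ∀ c, ∃ u ∈ (⊤ : Subgroup U).lowerCentralSeries r, (u, f c) ∈ S := by
    intro r
    induction r with
    | zero => exact fun c => let ⟨u, hu⟩ := hbase c; ⟨u, by simp, hu⟩
    | succ r ih =>
      intro c
      obtain ⟨u, hu, hS⟩ := ih (c / (μ - 1))
      refine ⟨⁅h.1, u⁆, ?_, ?_⟩
      · rw [← commutatorElement_inv]
        exact inv_mem (Subgroup.commutator_mem_commutator hu (Subgroup.mem_top _))
      · have hm := mul_mem (mul_mem (mul_mem hh hS) (inv_mem hh)) (inv_mem hS)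
        convert hm using 1
        refine Prod.ext ?_ ?_
        · simp [commutatorElement_def]
        · have hsplit : f (μ * (c / (μ - 1))) = f c * f (c / (μ - 1)) := by
            rw [← hadd]
            congr 1
            have h1 : (c / (μ - 1)) * (μ - 1) = c := div_mul_cancel₀ _ (sub_ne_zero.mpr hμ)
            linear_combination h1
          show f c = h.2 * f (c / (μ - 1)) * h.2⁻¹ * (f (c / (μ - 1)))⁻¹
          rw [hconj, hsplit, mul_inv_cancel_right]
  obtain ⟨u, hu, hS⟩ := main n c
  rw [hn, Subgroup.mem_bot] at hu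
  exact hu ▸ hS

end general

/-- A pair of minimal elements generating `SL(2)` over a monogenic field. -/
structure Opposed {k : Type u} [Field k] {M : Type v} [AddCommGroup M] [Module k M]
    (G : Subgroup (LinearMap.GeneralLinearGroup k M)) (s t : Module.End k M) where
  K : Type u
  fieldK : Field K
  algK : Algebra k K
  pb : PowerBasis k K
  Φ : Matrix.SpecialLinearGroup (Fin 2) K →* LinearMap.GeneralLinearGroup k M
  inj : Function.Injective Φ
  range_eq : Φ.range = pairGrp s t
  σ : K →ₗ[k] Module.End k M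
  τ : K →ₗ[k] Module.End k M
  Φ_upm : ∀ x, Φ (upm x) = el (σ x)
  Φ_lom : ∀ x, Φ (lom x) = el (τ x)
  σ_one : σ 1 = s
  τ_gen : τ pb.gen = t
  σ_mem : ∀ x, σ x ∈ Sc G ∧ LinearMap.ker s ≤ LinearMap.ker (σ x) ∧ LinearMap.range (σ x) ≤ LinearMap.range s
  τ_mem : ∀ x, τ x ∈ Sc G ∧ LinearMap.ker t ≤ LinearMap.ker (τ x) ∧ LinearMap.range (τ x) ≤ LinearMap.range t
  opp : Opp s t
  compl : IsCompl (LinearMap.range s ⊔ LinearMap.range t) (LinearMap.ker s ⊓ LinearMap.ker t)
  neg_left : ∀ v ∈ LinearMap.range s ⊔ LinearMap.range t, (Φ (-1) : Module.End k M) v = -v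
  neg_right : ∀ v ∈ LinearMap.ker s ⊓ LinearMap.ker t, (Φ (-1) : Module.End k M) v = v

theorem exists_sq_ne_one {k : Type*} [Field k] (h2 : (2 : k) ≠ 0) (h3 : Nat.card k ≠ 3) :
    ∃ l : k, l ≠ 0 ∧ l ^ 2 ≠ 1 := by
  by_contra h
  push Not at h
  have hall : ∀ l : k, l = 0 ∨ l = 1 ∨ l = -1 := fun l => by
    by_cases h0 : l = 0
    · exact Or.inl h0
    · exact Or.inr (sq_eq_one_iff.mp (h l h0))
  classical
  have hne : (1 : k) ≠ -1 := fun e => h2 (by linear_combination e)
  let _ : Fintype k := ⟨{0, 1, -1}, fun l => by rcases hall l with e | e | e <;> simp [e]⟩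
  apply h3
  rw [Nat.card_eq_fintype_card]
  show ({0, 1, -1} : Finset k).card = 3
  exact Finset.card_eq_three.mpr ⟨0, 1, -1, zero_ne_one, (neg_ne_zero.mpr one_ne_zero).symm, hne, rfl⟩

theorem opposed {k : Type u} [Field k] {M : Type v} [AddCommGroup M] [Module k M] [FiniteDimensional k M]
    {G : Subgroup (LinearMap.GeneralLinearGroup k M)} (h2 : (2 : k) ≠ 0) (h3 : Nat.card k ≠ 3)
    {s t : Module.End k M} (hs : Min G s) (ht : Min G t) (hn : ¬ IsNilpotent (s * t)) :
    Nonempty (Opposed G s t) := by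
  classical
  set z := s * t + t * s with hz
  obtain ⟨n, hc, hn1⟩ := ((LinearMap.eventually_isCompl_ker_pow_range_pow z).and
    (Filter.eventually_ge_atTop 1)).exists
  replace hc := hc.symm
  set q := LinearMap.range (z ^ n) with hq
  set p := LinearMap.ker (z ^ n) with hp
  have cs : Commute s z := by
    show s * z = z * s
    rw [hz, mul_add, add_mul, ← mul_assoc, hs.sq, zero_mul, zero_add, mul_assoc t s s, hs.sq, mul_zero, add_zero,
      mul_assoc]
  have ct : Commute t z := by
    show t * z = z * t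
    rw [hz, mul_add, add_mul, ← mul_assoc t t s, ht.sq, zero_mul, add_zero, mul_assoc s t t, ht.sq, mul_zero,
      zero_add, mul_assoc]
  have cz : Commute z z := Commute.refl z
  let S1 : Module.End k q := s.restrict (map_range_of_comm cs n)
  let T1 : Module.End k q := t.restrict (map_range_of_comm ct n)
  let Z1 : Module.End k q := z.restrict (map_range_of_comm cz n)
  have S1_apply : ∀ v : q, (S1 v : M) = s v := fun v => rfl
  have T1_apply : ∀ v : q, (T1 v : M) = t v := fun v => rfl
  have hST : S1 * T1 + T1 * S1 = Z1 := LinearMap.ext fun v => Subtype.ext (by rfl)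
  have hS1 : S1 * S1 = 0 := LinearMap.ext fun v => Subtype.ext (DFunLike.congr_fun hs.sq (v : M))
  have hT1 : T1 * T1 = 0 := LinearMap.ext fun v => Subtype.ext (DFunLike.congr_fun ht.sq (v : M))
  have hqp : ∀ v : M, v ∈ q → v ∈ p → v = 0 := fun v h1 h2' => by
    have : v ∈ q ⊓ p := ⟨h1, h2'⟩
    rwa [hc.inf_eq_bot, Submodule.mem_bot] at this
  have zker : LinearMap.ker z ≤ p := fun v hv => by
    obtain ⟨i, rfl⟩ : ∃ i, n = i + 1 := ⟨n - 1, by omega⟩
    rw [hp, LinearMap.mem_ker, pow_succ, Module.End.mul_apply, LinearMap.mem_ker.mp hv, map_zero]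
  have hZ1 : Function.Injective Z1 := by
    rw [← LinearMap.ker_eq_bot, Submodule.eq_bot_iff]
    intro v hv
    have h1 : z (v : M) = 0 := congrArg Subtype.val (LinearMap.mem_ker.mp hv)
    exact Subtype.ext (hqp _ v.2 (zker h1))
  have hnt : Nontrivial q := by
    rw [Submodule.nontrivial_iff_ne_bot]
    intro h
    exact hn (nilp_of_anti hs.sq ht.sq (LinearMap.range_eq_bot.mp h))
  have hint : IsIntegral k Z1 := Algebra.IsIntegral.isIntegral Z1
  let ι : AdjoinRoot (minpoly k Z1) →ₐ[k] Module.End k q :=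
    Ideal.Quotient.liftₐ (Ideal.span {minpoly k Z1}) (Polynomial.aeval Z1) (fun a ha => by
      obtain ⟨b, rfl⟩ := Ideal.mem_span_singleton.mp ha
      rw [map_mul, minpoly.aeval, zero_mul])
  let pb := AdjoinRoot.powerBasis (minpoly.ne_zero hint)
  have ιmk : ∀ P, ι (AdjoinRoot.mk (minpoly k Z1) P) = Polynomial.aeval Z1 P := fun P => rfl
  have ιinj : Function.Injective ι := by
    rw [injective_iff_map_eq_zero]
    intro x hx
    obtain ⟨P, rfl⟩ := AdjoinRoot.mk_surjective x
    rw [ιmk] at hx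
    exact AdjoinRoot.mk_eq_zero.mpr (minpoly.dvd k Z1 hx)
  have ιroot : ι pb.gen = Z1 := by
    show ι (AdjoinRoot.mk _ Polynomial.X) = Z1
    rw [ιmk, Polynomial.aeval_X]
  have := pb.finite
  have hgen : IsUnit pb.gen := by
    have hi : Function.Injective (LinearMap.mulLeft k pb.gen) := by
      intro x y h
      refine ιinj (LinearMap.ext fun v => hZ1 ?_)
      have h1 := congrArg ι h
      simp only [LinearMap.mulLeft_apply, map_mul, ιroot] at h1
      exact DFunLike.congr_fun h1 v
    obtain ⟨b, hb⟩ := LinearMap.injective_iff_surjective.mp hi 1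
    exact IsUnit.of_mul_eq_one b hb
  have comm : ∀ f : Module.End k q, Commute Z1 f → ∀ x, Commute (ι x) f := by
    intro f hf x
    obtain ⟨P, rfl⟩ := AdjoinRoot.mk_surjective x
    rw [ιmk]
    induction P using Polynomial.induction_on' with
    | add a b ha hb => rw [map_add]; exact ha.add_left hb
    | monomial i c =>
      rw [Polynomial.aeval_monomial, ← Algebra.smul_def]
      exact (hf.pow_left i).smul_left c
  let D : MData k (AdjoinRoot (minpoly k Z1)) (Module.End k q) :=
    { ι := ι, S := S1, T := T1, Z := hgen.unit, inj := ιinj, hS := hS1, hT := hT1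
      hST := by rw [hST, IsUnit.unit_spec, ιroot]
      cS := comm S1 (LinearMap.ext fun v => Subtype.ext (DFunLike.congr_fun cs.eq (v : M)).symm)
      cT := comm T1 (LinearMap.ext fun v => Subtype.ext (DFunLike.congr_fun ct.eq (v : M)).symm) }
  -- endomorphisms of `q`, extended by zero
  let lj : Module.End k q →ₗ[k] Module.End k M :=
    { toFun := fun X => q.subtype ∘ₗ X ∘ₗ q.projectionOnto p hc
      map_add' := fun X Y => LinearMap.ext fun v => by simp
      map_smul' := fun c X => LinearMap.ext fun v => by simp }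
  have lj_q : ∀ (X : Module.End k q) (v : q), lj X v = X v := fun X v => by
    show ((q.subtype ∘ₗ X ∘ₗ q.projectionOnto p hc) (v : M)) = _
    simp
  have lj_p : ∀ (X : Module.End k q) (v : M), v ∈ p → lj X v = 0 := fun X v hv => by
    have h0 : q.projectionOnto p hc v = 0 := by
      rw [show v = ((⟨v, hv⟩ : p) : M) from rfl, Submodule.projectionOnto_apply_right]
    show ((q.subtype ∘ₗ X ∘ₗ q.projectionOnto p hc) v) = _
    simp [h0]
  have lj_mem : ∀ (X : Module.End k q) (v : M), lj X v ∈ q := fun X v => (X _).2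
  have lj_sq : ∀ X : Module.End k q, X * X = 0 → lj X * lj X = 0 := fun X hX =>
    ext_compl hc (fun v => by
      rw [Module.End.mul_apply, lj_q, lj_q, ← Module.End.mul_apply, hX]; rfl)
      fun v hv => by rw [Module.End.mul_apply, lj_p X v hv, map_zero]; rfl
  let Φ : Matrix.SpecialLinearGroup (Fin 2) (AdjoinRoot (minpoly k Z1)) →* LinearMap.GeneralLinearGroup k M :=
    ((extEnd hc).comp D.mat).toHomUnits
  have Φ_q : ∀ g (v : q), (Φ g : Module.End k M) v = D.mat g v := fun g v => extEnd_left hc _ v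
  have Φ_p : ∀ g (v : M), v ∈ p → (Φ g : Module.End k M) v = v := fun g v hv => extEnd_right hc _ hv
  let σ : AdjoinRoot (minpoly k Z1) →ₗ[k] Module.End k M :=
    lj.comp ((LinearMap.mulRight k S1).comp ι.toLinearMap)
  let τ' : AdjoinRoot (minpoly k Z1) →ₗ[k] Module.End k M :=
    lj.comp ((LinearMap.mulRight k T1).comp ι.toLinearMap)
  have sq_of : ∀ {X Y : Module.End k q}, Commute X Y → Y * Y = 0 → X * Y * (X * Y) = 0 := by
    intro X Y hc' hY
    rw [← mul_assoc, mul_assoc X Y X, ← hc'.eq, ← mul_assoc, mul_assoc (X * X) Y Y, hY, mul_zero]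
  have σsq : ∀ x, σ x * σ x = 0 := fun x => lj_sq _ (sq_of (D.cS x) hS1)
  have τsq : ∀ x, τ' x * τ' x = 0 := fun x => lj_sq _ (sq_of (D.cT x) hT1)
  have Φu : ∀ x, Φ (upm x) = el (σ x) := fun x => Units.ext <| by
    rw [coe_el (σsq x)]
    refine ext_compl hc (fun v => ?_) fun v hv => ?_
    · rw [Φ_q, D.mat_upm, LinearMap.add_apply, Module.End.one_apply]
      show _ = (v : M) + lj _ v
      rw [lj_q]; rfl
    · rw [Φ_p _ v hv, LinearMap.add_apply, Module.End.one_apply]
      show _ = v + lj _ v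
      rw [lj_p _ v hv, add_zero]
  have Φl : ∀ x, Φ (lom (x * pb.gen)) = el (τ' x) := fun x => Units.ext <| by
    rw [coe_el (τsq x)]
    refine ext_compl hc (fun v => ?_) fun v hv => ?_
    · rw [Φ_q, show lom (x * pb.gen) = lom (x * (D.Z : AdjoinRoot (minpoly k Z1))) from rfl, D.mat_lom_Z,
        LinearMap.add_apply, Module.End.one_apply]
      show _ = (v : M) + lj _ v
      rw [lj_q]; rfl
    · rw [Φ_p _ v hv, LinearMap.add_apply, Module.End.one_apply]
      show _ = v + lj _ v
      rw [lj_p _ v hv, add_zero]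
  set s0 := s - lj S1 with hs0
  set t0 := t - lj T1 with ht0
  have s0q : ∀ v : q, s0 (v : M) = 0 := fun v => by rw [hs0, LinearMap.sub_apply, lj_q, S1_apply, sub_self]
  have t0q : ∀ v : q, t0 (v : M) = 0 := fun v => by rw [ht0, LinearMap.sub_apply, lj_q, T1_apply, sub_self]
  have s0p : ∀ v ∈ p, s0 v = s v := fun v hv => by rw [hs0, LinearMap.sub_apply, lj_p _ v hv, sub_zero]
  have t0p : ∀ v ∈ p, t0 v = t v := fun v hv => by rw [ht0, LinearMap.sub_apply, lj_p _ v hv, sub_zero]
  have sp := map_ker_of_comm cs n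
  have tp := map_ker_of_comm ct n
  have hs00 : s0 * s0 = 0 := ext_compl hc (fun v => by rw [Module.End.mul_apply, s0q, map_zero]; rfl) fun v hv => by
    rw [Module.End.mul_apply, s0p v hv, s0p _ (sp v hv)]; exact DFunLike.congr_fun hs.sq v
  have ht00 : t0 * t0 = 0 := ext_compl hc (fun v => by rw [Module.End.mul_apply, t0q, map_zero]; rfl) fun v hv => by
    rw [Module.End.mul_apply, t0p v hv, t0p _ (tp v hv)]; exact DFunLike.congr_fun ht.sq v
  have hn0 : IsNilpotent (s0 * t0) := by
    refine nilp_of_anti hs00 ht00 (n := n) (ext_compl hc (fun v => ?_) fun v hv => ?_)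
    · obtain ⟨i, hi⟩ : ∃ i, n = i + 1 := ⟨n - 1, by omega⟩
      rw [hi, pow_succ, Module.End.mul_apply, LinearMap.add_apply, Module.End.mul_apply, Module.End.mul_apply, s0q,
        t0q, map_zero, map_zero, add_zero, map_zero]
      rfl
    · have : ∀ j : ℕ, ((s0 * t0 + t0 * s0) ^ j) v = (z ^ j) v ∧ (z ^ j) v ∈ p := by
        intro j
        induction j with
        | zero => exact ⟨rfl, hv⟩
        | succ j ih =>
          refine ⟨?_, ?_⟩
          · rw [pow_succ', pow_succ', Module.End.mul_apply, Module.End.mul_apply, ih.1]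
            simp only [LinearMap.add_apply, Module.End.mul_apply, hz]
            rw [t0p _ ih.2, s0p _ (tp _ ih.2), s0p _ ih.2, t0p _ (sp _ ih.2)]
          · rw [pow_succ', Module.End.mul_apply]
            exact map_ker_of_comm cz n _ ih.2
      rw [(this n).1]
      exact hv
  set U0 := pairGrp s0 t0 with hU0
  have hcomm : ∀ (g : U0) h, Commute (g : LinearMap.GeneralLinearGroup k M) (Φ h) := by
    intro g h
    have hle : U0 ≤ Subgroup.centralizer (Set.range Φ) := by
      refine (Subgroup.closure_le _).mpr ?_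
      have key : ∀ f : Module.End k M, f * f = 0 → (∀ v : q, f (v : M) = 0) → (∀ v ∈ p, f v ∈ p) →
          el f ∈ Subgroup.centralizer (Set.range Φ) := by
        intro f hf hfq hfp
        rw [Subgroup.mem_centralizer_iff]
        rintro _ ⟨h, rfl⟩
        refine Units.ext (ext_compl hc (fun v => ?_) fun v hv => ?_) <;>
          simp only [Units.val_mul, Module.End.mul_apply, coe_el hf, LinearMap.add_apply, Module.End.one_apply]
        · rw [hfq v, add_zero, Φ_q h v, hfq, add_zero]
        · rw [map_add, Φ_p h v hv, Φ_p h _ (hfp v hv)]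
      rintro _ (⟨c, rfl⟩ | ⟨c, rfl⟩)
      · exact key _ (smul_sq hs00 c) (fun v => by rw [LinearMap.smul_apply, s0q, smul_zero])
          fun v hv => by rw [LinearMap.smul_apply, s0p v hv]; exact Submodule.smul_mem _ c (sp v hv)
      · exact key _ (smul_sq ht00 c) (fun v => by rw [LinearMap.smul_apply, t0q, smul_zero])
          fun v hv => by rw [LinearMap.smul_apply, t0p v hv]; exact Submodule.smul_mem _ c (tp v hv)
    exact ((Subgroup.mem_centralizer_iff.mp (hle g.2)) _ ⟨h, rfl⟩).symm
  let Θ := U0.subtype.noncommCoprod Φ hcomm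
  have Θapply : ∀ u g, Θ (u, g) = (u : LinearMap.GeneralLinearGroup k M) * Φ g := fun u g => rfl
  set H := pairGrp s t with hH
  have hHG : H ≤ G := by
    refine (Subgroup.closure_le _).mpr ?_
    rintro _ (⟨c, rfl⟩ | ⟨c, rfl⟩)
    exacts [hs.1.2 c, ht.1.2 c]
  let Hp := H.comap Θ
  have gs : ∀ c : k, (⟨el (c • s0), Subgroup.subset_closure (Or.inl ⟨c, rfl⟩)⟩, upm (algebraMap k _ c)) ∈ Hp ∧
      el (c • s) = el (c • s0) * Φ (upm (algebraMap k _ c)) := by
    intro c
    have hσ : σ (algebraMap k _ c) = c • lj S1 := by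
      rw [← lj.map_smul, Algebra.algebraMap_eq_smul_one, LinearMap.map_smul]
      show c • lj (ι 1 * S1) = lj (c • S1)
      rw [map_one, one_mul, map_smul]
    have he : el (c • s) = el (c • s0) * Φ (upm (algebraMap k _ c)) := by
      rw [Φu, hσ, el_add (smul_sq hs00 c) (smul_sq (lj_sq _ hS1) c)]
      · rw [← smul_add, hs0, sub_add_cancel]
      all_goals
        rw [smul_mul_smul_comm]
        convert smul_zero (c * c) using 2
        refine ext_compl hc (fun v => ?_) fun v hv => ?_
      · rw [Module.End.mul_apply, lj_q, s0q]; rfl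
      · rw [Module.End.mul_apply, lj_p _ v hv, map_zero]; rfl
      · rw [Module.End.mul_apply, s0q, map_zero]; rfl
      · rw [Module.End.mul_apply, s0p v hv, lj_p _ _ (sp v hv)]; rfl
    refine ⟨?_, he⟩
    rw [Subgroup.mem_comap, Θapply, ← he]
    exact Subgroup.subset_closure (Or.inl ⟨c, rfl⟩)
  have gt : ∀ c : k, (⟨el (c • t0), Subgroup.subset_closure (Or.inr ⟨c, rfl⟩)⟩, lom (algebraMap k _ c * pb.gen)) ∈ Hp ∧
      el (c • t) = el (c • t0) * Φ (lom (algebraMap k _ c * pb.gen)) := by
    intro c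
    have hσ : τ' (algebraMap k _ c) = c • lj T1 := by
      rw [← lj.map_smul, Algebra.algebraMap_eq_smul_one, LinearMap.map_smul]
      show c • lj (ι 1 * T1) = lj (c • T1)
      rw [map_one, one_mul, map_smul]
    have he : el (c • t) = el (c • t0) * Φ (lom (algebraMap k _ c * pb.gen)) := by
      rw [Φl, hσ, el_add (smul_sq ht00 c) (smul_sq (lj_sq _ hT1) c)]
      · rw [← smul_add, ht0, sub_add_cancel]
      all_goals
        rw [smul_mul_smul_comm]
        convert smul_zero (c * c) using 2
        refine ext_compl hc (fun v => ?_) fun v hv => ?_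
      · rw [Module.End.mul_apply, lj_q, t0q]; rfl
      · rw [Module.End.mul_apply, lj_p _ v hv, map_zero]; rfl
      · rw [Module.End.mul_apply, t0q, map_zero]; rfl
      · rw [Module.End.mul_apply, t0p v hv, lj_p _ _ (tp v hv)]; rfl
    refine ⟨?_, he⟩
    rw [Subgroup.mem_comap, Θapply, ← he]
    exact Subgroup.subset_closure (Or.inr ⟨c, rfl⟩)
  have snd_full : Hp.map (MonoidHom.snd _ _) ≥ gam k pb.gen := by
    refine (Subgroup.closure_le _).mpr ?_
    rintro _ (⟨c, rfl⟩ | ⟨c, rfl⟩)
    exacts [⟨_, (gs c).1, rfl⟩, ⟨_, (gt c).1, rfl⟩]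
  have fullA := full pb h2 h3 hgen
  obtain ⟨l, hl, hl1⟩ := exists_sq_ne_one h2 h3
  obtain ⟨u, hu⟩ : ∃ u : (AdjoinRoot (minpoly k Z1))ˣ, (u : AdjoinRoot (minpoly k Z1)) = algebraMap k _ l :=
    ⟨((isUnit_iff_ne_zero.mpr hl).map (algebraMap k _)).unit, rfl⟩
  have hu' : ((u⁻¹ : (AdjoinRoot (minpoly k Z1))ˣ) : AdjoinRoot (minpoly k Z1)) = algebraMap k _ l⁻¹ :=
    Units.inv_eq_of_mul_eq_one_right (by rw [hu, ← map_mul, mul_inv_cancel₀ hl, map_one])
  obtain ⟨⟨h0, h1⟩, hh, rfl : h1 = dia u⟩ :=
    Subgroup.mem_map.mp (snd_full (dia_mem (fun x => (fullA x).1) (fun x => (fullA x).2) u))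
  have := isNilpotent_of_unip (unip_pair hs00 ht00 hn0 hU0)
  have line_u : ∀ c : k, ((1 : U0), upm (algebraMap k _ c)) ∈ Hp := fun c =>
    kill_fst Hp hh (fun c => upm (algebraMap k _ c)) hl1 (fun a b => by simp [upm_add])
      (fun c => by rw [dia_conj, hu, ← map_pow, ← map_mul]) (fun c => ⟨_, (gs c).1⟩) c
  have line_l : ∀ c : k, ((1 : U0), lom (algebraMap k _ c * pb.gen)) ∈ Hp := fun c =>
    kill_fst (μ := (l⁻¹) ^ 2) Hp hh (fun c => lom (algebraMap k _ c * pb.gen))
      (by rw [inv_pow]; simpa using hl1) (fun a b => by simp [add_mul, lom_add])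
      (fun c => by
        refine sl_ext ?_ ?_ ?_ ?_ <;> simp [dia_coe, lom_coe, mul_entry, inv_entry, Matrix.adjugate_fin_two]
        rw [hu']
        rw [← inv_pow, pow_two, AdjoinRoot.algebraMap_eq]
        erw [map_mul]
        ring)
      (fun c => ⟨_, (gt c).1⟩) c
  have inH : ∀ g, ((1 : U0), g) ∈ Hp → Φ g ∈ H := fun g hg => by
    have : Θ (1, g) ∈ H := hg
    rwa [Θapply, Subgroup.coe_one, one_mul] at this
  have es : lj S1 ∈ Sc G := ⟨lj_sq _ hS1, fun c => by
    have := hHG (inH _ (line_u c))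
    rw [Φu] at this
    convert this using 2
    show _ = lj (ι (algebraMap k _ c) * S1)
    rw [AlgHom.commutes, ← Algebra.smul_def, map_smul]⟩
  have et : lj T1 ∈ Sc G := ⟨lj_sq _ hT1, fun c => by
    have := hHG (inH _ (line_l c))
    rw [Φl] at this
    convert this using 2
    show _ = lj (ι (algebraMap k _ c) * T1)
    rw [AlgHom.commutes, ← Algebra.smul_def, map_smul]⟩
  have hZne : Z1 ≠ 0 := fun h => by
    obtain ⟨v, hv⟩ := exists_ne (0 : q)
    exact hv (hZ1 (by rw [h]; rfl))
  have whole : ∀ (a : Module.End k M) (X : Module.End k q), Min G a → lj X ∈ Sc G → X ≠ 0 →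
      (∀ v : q, (X v : M) = a v) → (∀ v ∈ p, a v ∈ p) → a = lj X := by
    intro a X ha hX hX0 hXa hap
    have hle : LinearMap.range (lj X) ≤ LinearMap.range a := by
      rintro _ ⟨v, rfl⟩
      refine ⟨((q.projectionOnto p hc v : q) : M), ?_⟩
      rw [← hXa]; rfl
    have hne : lj X ≠ 0 := fun h => hX0 (LinearMap.ext fun v => Subtype.ext (by
      rw [← lj_q, h]; rfl))
    have heq := Submodule.eq_of_le_of_finrank_le hle (ha.2.2 _ hX hne)
    refine ext_compl hc (fun v => by rw [lj_q, hXa]) fun v hv => ?_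
    rw [lj_p _ v hv]
    refine hqp _ ?_ (hap v hv)
    obtain ⟨w, hw⟩ : a v ∈ LinearMap.range (lj X) := heq ▸ LinearMap.mem_range_self a v
    exact hw ▸ lj_mem _ _
  have hS0 : S1 ≠ 0 := fun h => hZne (by rw [← hST, h, zero_mul, mul_zero, add_zero])
  have hT0 : T1 ≠ 0 := fun h => hZne (by rw [← hST, h, zero_mul, mul_zero, add_zero])
  have hse : s = lj S1 := whole s S1 hs es hS0 S1_apply sp
  have hte : t = lj T1 := whole t T1 ht et hT0 T1_apply tp
  have hU0bot : ∀ x : U0, x = 1 := by
    have : U0 ≤ ⊥ := by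
      refine (Subgroup.closure_le _).mpr ?_
      rintro _ (⟨c, rfl⟩ | ⟨c, rfl⟩)
      · rw [hs0, ← hse, sub_self, smul_zero, el_zero]; exact one_mem _
      · rw [ht0, ← hte, sub_self, smul_zero, el_zero]; exact one_mem _
    exact fun x => Subtype.ext (Subgroup.mem_bot.mp (this x.2))
  have allH : ∀ x, Φ (upm x) ∈ H ∧ Φ (lom x) ∈ H := by
    intro x
    constructor
    · obtain ⟨⟨a, b⟩, hab, rfl : b = upm x⟩ := Subgroup.mem_map.mp (snd_full (fullA x).1)
      exact inH _ (hU0bot a ▸ hab)
    · obtain ⟨⟨a, b⟩, hab, rfl : b = lom x⟩ := Subgroup.mem_map.mp (snd_full (fullA x).2)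
      exact inH _ (hU0bot a ▸ hab)
  have σSc : ∀ x, σ x ∈ Sc G := fun x => ⟨σsq x, fun c => by
    rw [← map_smul, ← Φu]; exact hHG (allH _).1⟩
  have σfac : ∀ x, σ x = lj (ι x) * s ∧ σ x = s * lj (ι x) := by
    intro x
    constructor <;> rw [hse] <;> refine ext_compl hc (fun v => ?_) fun v hv => ?_
    · rw [Module.End.mul_apply, lj_q, lj_q]; show lj _ (v : M) = _; rw [lj_q]; rfl
    · rw [Module.End.mul_apply, lj_p _ v hv, map_zero]; exact lj_p _ v hv
    · rw [Module.End.mul_apply, lj_q, lj_q]; show lj _ (v : M) = _; rw [lj_q]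
      exact congrArg (fun f : Module.End k q => (f v : M)) (D.cS x).eq
    · rw [Module.End.mul_apply, lj_p _ v hv, map_zero]; exact lj_p _ v hv
  have τfac : ∀ x, τ' x = lj (ι x) * t ∧ τ' x = t * lj (ι x) := by
    intro x
    constructor <;> rw [hte] <;> refine ext_compl hc (fun v => ?_) fun v hv => ?_
    · rw [Module.End.mul_apply, lj_q, lj_q]; show lj _ (v : M) = _; rw [lj_q]; rfl
    · rw [Module.End.mul_apply, lj_p _ v hv, map_zero]; exact lj_p _ v hv
    · rw [Module.End.mul_apply, lj_q, lj_q]; show lj _ (v : M) = _; rw [lj_q]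
      exact congrArg (fun f : Module.End k q => (f v : M)) (D.cT x).eq
    · rw [Module.End.mul_apply, lj_p _ v hv, map_zero]; exact lj_p _ v hv
  have σle : ∀ x, LinearMap.ker s ≤ LinearMap.ker (σ x) ∧ LinearMap.range (σ x) ≤ LinearMap.range s := fun x =>
    ⟨fun v hv => by rw [LinearMap.mem_ker, (σfac x).1, Module.End.mul_apply, LinearMap.mem_ker.mp hv, map_zero],
      by rintro _ ⟨v, rfl⟩; rw [(σfac x).2]; exact LinearMap.mem_range_self _ _⟩
  have τle : ∀ x, LinearMap.ker t ≤ LinearMap.ker (τ' x) ∧ LinearMap.range (τ' x) ≤ LinearMap.range t := fun x =>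
    ⟨fun v hv => by rw [LinearMap.mem_ker, (τfac x).1, Module.End.mul_apply, LinearMap.mem_ker.mp hv, map_zero],
      by rintro _ ⟨v, rfl⟩; rw [(τfac x).2]; exact LinearMap.mem_range_self _ _⟩
  have σ0 : ∀ x, σ x = 0 → x = 0 := by
    intro x hx
    have h0 : ι x * S1 = 0 := LinearMap.ext fun v => Subtype.ext (by
      rw [← lj_q]; exact DFunLike.congr_fun hx (v : M))
    refine ιinj ?_
    rw [map_zero]
    refine LinearMap.ext fun v => hZ1 ?_
    show (Z1 * ι x) v = Z1 0
    rw [map_zero, show Z1 * ι x = (S1 * T1 + T1 * S1) * ι x from congrArg (· * ι x) hST.symm, add_mul, mul_assoc S1, ← (D.cT x).eq, mul_assoc T1, ← (D.cS x).eq, h0, mul_zero,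
      ← mul_assoc, ← (D.cS x).eq, h0, zero_mul, add_zero]
    rfl
  have hfield : IsField (AdjoinRoot (minpoly k Z1)) := by
    refine ⟨⟨0, 1, fun h => (zero_ne_one : (0 : Module.End k q) ≠ 1) (by simpa using congrArg ι h)⟩, mul_comm, fun {x} hx => ?_⟩
    have hinj : Function.Injective (LinearMap.mulLeft k x) := by
      rw [← LinearMap.ker_eq_bot, Submodule.eq_bot_iff]
      intro y hy
      rw [LinearMap.mem_ker, LinearMap.mulLeft_apply] at hy
      by_contra hy0
      have hcl : σ x ∈ cls G hs.sq := ⟨σSc x, σle x⟩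
      obtain ⟨-, hk, -⟩ := cls_spec hs hcl (fun h => hx (σ0 x h))
      apply hy0
      apply σ0
      refine LinearMap.ext fun v => ?_
      have h1 : lj (ι x) (σ y v) = 0 := by
        show lj (ι x) (lj (ι y * S1) v) = 0
        rcases Submodule.mem_sup.mp (hc.sup_eq_top ▸ Submodule.mem_top : v ∈ q ⊔ p) with ⟨a, ha, b, hb, rfl⟩
        rw [map_add, lj_p _ b hb, add_zero, lj_q _ ⟨a, ha⟩, lj_q, ← Module.End.mul_apply, ← mul_assoc, ← map_mul,
          hy, map_zero, zero_mul]
        rfl
      obtain ⟨w, hw⟩ := (σle y).2 (LinearMap.mem_range_self (σ y) v)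
      have h3 : w ∈ LinearMap.ker (σ x) := by
        rw [LinearMap.mem_ker, (σfac x).1, Module.End.mul_apply, hw, h1]
      rw [hk, LinearMap.mem_ker] at h3
      rw [← hw, h3]; rfl
    obtain ⟨b, hb⟩ := LinearMap.injective_iff_surjective.mp hinj 1
    exact ⟨b, hb⟩
  let τ : AdjoinRoot (minpoly k Z1) →ₗ[k] Module.End k M :=
    τ'.comp (LinearMap.mulRight k ((hgen.unit⁻¹ : (AdjoinRoot (minpoly k Z1))ˣ) : AdjoinRoot (minpoly k Z1)))
  have hrange : Φ.range = H := by
    refine le_antisymm ?_ ((Subgroup.closure_le _).mpr ?_)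
    · have : (⊤ : Subgroup (Matrix.SpecialLinearGroup (Fin 2) (AdjoinRoot (minpoly k Z1)))) ≤ H.comap Φ := by
        let _ := hfield.toField
        exact (eq_top_of_root (fun x => Subgroup.mem_comap.mpr (allH x).1)
          (fun x => Subgroup.mem_comap.mpr (allH x).2)).ge
      rintro _ ⟨g, rfl⟩
      exact this (Subgroup.mem_top g)
    · rintro _ (⟨c, rfl⟩ | ⟨c, rfl⟩)
      · rw [(gs c).2, show el (c • s0) = 1 from by rw [hs0, ← hse, sub_self, smul_zero, el_zero], one_mul]
        exact ⟨_, rfl⟩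
      · rw [(gt c).2, show el (c • t0) = 1 from by rw [ht0, ← hte, sub_self, smul_zero, el_zero], one_mul]
        exact ⟨_, rfl⟩
  have opp : Opp s t := by
    constructor <;> rw [Submodule.eq_bot_iff] <;> rintro _ ⟨⟨w, rfl⟩, hv⟩ <;> rw [SetLike.mem_coe, LinearMap.mem_ker] at hv
    · refine hqp _ (by rw [hse]; exact lj_mem _ _) (zker ?_)
      rw [LinearMap.mem_ker, hz, LinearMap.add_apply, Module.End.mul_apply, Module.End.mul_apply, hv,
        show s (s w) = 0 from DFunLike.congr_fun hs.sq w, map_zero, map_zero, add_zero]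
    · refine hqp _ (by rw [hte]; exact lj_mem _ _) (zker ?_)
      rw [LinearMap.mem_ker, hz, LinearMap.add_apply, Module.End.mul_apply, Module.End.mul_apply, hv,
        show t (t w) = 0 from DFunLike.congr_fun ht.sq w, map_zero, map_zero, add_zero]
  have hqeq : q = LinearMap.range s ⊔ LinearMap.range t := by
    refine le_antisymm ?_ (sup_le ?_ ?_)
    · obtain ⟨i, hi⟩ : ∃ i, n = i + 1 := ⟨n - 1, by omega⟩
      rintro _ ⟨w, rfl⟩
      rw [hi, pow_succ', Module.End.mul_apply, hz, LinearMap.add_apply]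
      exact add_mem (Submodule.mem_sup_left (LinearMap.mem_range_self _ _))
        (Submodule.mem_sup_right (LinearMap.mem_range_self _ _))
    · rintro _ ⟨w, rfl⟩; rw [hse]; exact lj_mem _ _
    · rintro _ ⟨w, rfl⟩; rw [hte]; exact lj_mem _ _
  have hpeq : p = LinearMap.ker s ⊓ LinearMap.ker t := by
    refine le_antisymm (fun v hv => ⟨?_, ?_⟩) (fun v hv => zker ?_)
    · rw [LinearMap.mem_ker, hz, LinearMap.add_apply, Module.End.mul_apply, Module.End.mul_apply,
        LinearMap.mem_ker.mp hv.1, LinearMap.mem_ker.mp hv.2, map_zero, map_zero, add_zero]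
    · show s v = 0
      rw [hse, lj_p _ v hv]
    · show t v = 0
      rw [hte, lj_p _ v hv]
  exact ⟨{
    K := AdjoinRoot (minpoly k Z1)
    fieldK := hfield.toField
    algK := inferInstance
    pb := pb
    Φ := Φ
    inj := fun g h e => D.mat_inj (LinearMap.ext fun v => Subtype.ext (by rw [← Φ_q, e, Φ_q]))
    range_eq := hrange
    σ := σ
    τ := τ
    Φ_upm := Φu
    Φ_lom := fun x => by
      show Φ (lom x) = el (τ' (x * _))
      rw [← Φl, mul_assoc, IsUnit.val_inv_mul, mul_one]
    σ_one := by show lj (ι 1 * S1) = s; rw [map_one, one_mul, ← hse]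
    τ_gen := by show τ' (pb.gen * _) = t; rw [IsUnit.mul_val_inv]; show lj (ι 1 * T1) = t; rw [map_one, one_mul, ← hte]
    σ_mem := fun x => ⟨σSc x, σle x⟩
    τ_mem := fun x => ⟨⟨τsq _, fun c => by
      rw [← map_smul]
      show el (τ' _) ∈ G
      rw [← Φl]; exact hHG (allH _).2⟩, τle _⟩
    opp := opp
    compl := by rw [← hqeq, ← hpeq]; exact hc
    neg_left := fun v hv => by
      rw [← hqeq] at hv
      rw [show v = ((⟨v, hv⟩ : q) : M) from rfl, Φ_q, D.mat_neg_one]
      rfl
    neg_right := fun v hv => Φ_p _ v (hpeq ▸ hv) }⟩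

end CfsgLib.QuadPair
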