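/-
Root subgroups of a quadratic pair: classes of equal action and pairs of them.
-/
import Mathlib
import Cfsg.Prelude.Def_RootSubgroups
import Cfsg.Agent.Lib.QuadPair.NonNilp

set_option autoImplicit false
set_option linter.unusedSectionVars false

open Cfsg CfsgLib.RootSub.Unip
open scoped commutatorElement

namespace CfsgLib.QuadPair

universe u v

variable {k : Type u} [Field k] {M : Type v} [AddCommGroup M] [Module k M]
variable {G : Subgroup (LinearMap.GeneralLinearGroup k M)}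

local notation "End'" => Module.End k M
local notation "GLM" => LinearMap.GeneralLinearGroup k M

/-- The root subgroup of `s`. -/
noncomputable def root (G : Subgroup (LinearMap.GeneralLinearGroup k M)) (s : Module.End k M) :
    Subgroup (LinearMap.GeneralLinearGroup k M) := sameActionSubgroup G (el s)

theorem root_dm {σ : GLM} (hσ : σ ∈ minimalQuadraticElements G) : root G (dm σ) = sameActionSubgroup G σ := by
  rw [root, el_dm (mem_minimal.mp hσ).sq]

theorem mem_roots {E : Subgroup GLM} :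
    E ∈ quadraticRootSubgroups G ↔ ∃ s, Min G s ∧ E = root G s := by
  constructor
  · rintro ⟨σ, hσ, rfl⟩
    exact ⟨dm σ, mem_minimal.mp hσ, (root_dm hσ).symm⟩
  · rintro ⟨s, hs, rfl⟩
    exact ⟨el s, min_el hs, rfl⟩

theorem el_inj {a b : End'} (ha : a * a = 0) (hb : b * b = 0) (h : el a = el b) : a = b := by
  rw [← dm_el ha, h, dm_el hb]

theorem el_zero_iff {a : End'} (ha : a * a = 0) : el a = 1 ↔ a = 0 :=
  ⟨fun h => el_inj ha (mul_zero 0) (h.trans el_zero.symm), fun h => h ▸ el_zero⟩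

theorem commute_el {a b : End'} (ha : a * a = 0) (hb : b * b = 0) (h : a * b = b * a) :
    el a * el b = el b * el a := by
  refine Units.ext ?_
  rw [Units.val_mul, Units.val_mul, coe_el ha, coe_el hb]
  simp only [mul_add, add_mul, one_mul, mul_one, h]
  abel

variable [FiniteDimensional k M]

theorem mem_root {s : End'} (hs : Min G s) {x : GLM} :
    x ∈ root G s ↔ ∃ a ∈ cls G hs.sq, x = el a := by
  rw [root, mem_grp (min_el hs)]
  have e := dm_el hs.sq
  constructor <;> rintro ⟨a, ha, rfl⟩ <;> refine ⟨a, ?_, rfl⟩ <;> rw [mem_cls] at ha ⊢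
  · rwa [e] at ha
  · rwa [e]

theorem el_mem_root {s a : End'} (hs : Min G s) (ha : a ∈ cls G hs.sq) : el a ∈ root G s :=
  (mem_root hs).mpr ⟨a, ha, rfl⟩

theorem root_le {s : End'} (hs : Min G s) : root G s ≤ G := by
  intro x hx
  obtain ⟨a, ha, rfl⟩ := (mem_root hs).mp hx
  exact el_mem ha.1

theorem root_ne_bot {s : End'} (hs : Min G s) : root G s ≠ ⊥ := fun h => hs.2.1 <| by
  have := el_mem_root hs (self_mem_cls hs)
  rw [h, Subgroup.mem_bot] at this
  exact (el_zero_iff hs.sq).mp this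

theorem root_eq_of_mem {s a : End'} (hs : Min G s) (ha : a ∈ cls G hs.sq) (h0 : a ≠ 0) :
    root G a = root G s := by
  ext x
  rw [mem_root (cls_spec hs ha h0).1, mem_root hs]
  simp only [cls_eq hs ha h0]

theorem root_eq_of_ker_range {s a : End'} (hs : Min G s) (ha : Min G a)
    (hk : LinearMap.ker a = LinearMap.ker s) (hr : LinearMap.range a = LinearMap.range s) :
    root G a = root G s :=
  root_eq_of_mem hs ⟨ha.1, hk.ge, hr.le⟩ ha.2.1

theorem mul_cls {s a b : End'} {hs : s * s = 0} (ha : a ∈ cls G hs) (hb : b ∈ cls G hs) : a * b = 0 :=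
  mul_eq_zero_of_le hs ha.2.1 hb.2.2

theorem root_comm {s : End'} (hs : Min G s) : IsMulCommutative ↥(root G s) := by
  refine ⟨⟨fun x y => ?_⟩⟩
  obtain ⟨a, ha, ha'⟩ := (mem_root hs).mp x.2
  obtain ⟨b, hb, hb'⟩ := (mem_root hs).mp y.2
  refine Subtype.ext ?_
  rw [Subgroup.coe_mul, Subgroup.coe_mul, ha', hb']
  exact commute_el ha.1.1 hb.1.1 ((mul_cls ha hb).trans (mul_cls hb ha).symm)

theorem root_nilpotent {s : End'} (hs : Min G s) : Group.IsNilpotent ↥(root G s) := by
  have := root_comm hs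
  let _ : CommGroup ↥(root G s) := { mul_comm := fun a b => this.is_comm.comm a b }
  infer_instance

theorem ker_cjE (g : GLM) (s : End') (v : M) :
    v ∈ LinearMap.ker (cjE g s) ↔ ((g⁻¹ : GLM) : End') v ∈ LinearMap.ker s := by
  have hinj : Function.Injective (g : End') := fun a b h => by
    have := congrArg ((g⁻¹ : GLM) : End') h
    simpa [← Module.End.mul_apply] using this
  rw [LinearMap.mem_ker, LinearMap.mem_ker, cjE, Module.End.mul_apply, Module.End.mul_apply]
  exact ⟨fun h => hinj (h.trans (map_zero _).symm), fun h => by rw [h, map_zero]⟩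

theorem cls_cjE {g : GLM} (hg : g ∈ G) {s a : End'} (hs : Min G s) :
    cjE g a ∈ cls G (hs.cjE hg).sq ↔ a ∈ cls G hs.sq := by
  have key : ∀ (g : GLM), g ∈ G → ∀ (s a : End'), s * s = 0 → a ∈ Sc G ∧ LinearMap.ker s ≤ LinearMap.ker a ∧
      LinearMap.range a ≤ LinearMap.range s → cjE g a ∈ Sc G ∧ LinearMap.ker (cjE g s) ≤ LinearMap.ker (cjE g a) ∧
        LinearMap.range (cjE g a) ≤ LinearMap.range (cjE g s) := by
    rintro g hg s a - ⟨h1, h2, h3⟩
    refine ⟨sc_cjE hg h1, fun v hv => ?_, ?_⟩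
    · rw [ker_cjE] at hv ⊢
      exact h2 hv
    · rw [range_cjE, range_cjE]
      exact Submodule.map_mono h3
  constructor
  · intro h
    have := key g⁻¹ (inv_mem hg) _ _ (hs.cjE hg).sq h
    rwa [cjE_inv_cjE, cjE_inv_cjE] at this
  · exact key g hg s a hs.sq

theorem conj_root {g : GLM} (hg : g ∈ G) {s : End'} (hs : Min G s) :
    conjBy (root G s) g = root G (cjE g s) := by
  refine le_antisymm ?_ fun x hx => ?_
  · rintro _ ⟨y, hy, rfl⟩
    obtain ⟨a, ha, rfl⟩ := (mem_root hs).mp hy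
    exact (mem_root (hs.cjE hg)).mpr ⟨cjE g a, (cls_cjE hg hs).mpr ha, (el_cjE g ha.1.1).symm⟩
  · obtain ⟨b, hb, rfl⟩ := (mem_root (hs.cjE hg)).mp hx
    have hb' : cjE g⁻¹ b ∈ cls G hs.sq := by
      rw [← cls_cjE hg hs, cjE_cjE, mul_inv_cancel, cjE_one]
      exact hb
    refine ⟨el (cjE g⁻¹ b), el_mem_root hs hb', ?_⟩
    show g * el (cjE g⁻¹ b) * g⁻¹ = el b
    rw [← el_cjE g hb'.1.1, cjE_cjE, mul_inv_cancel, cjE_one]

theorem finrank_cls_cjE {g : GLM} (hg : g ∈ G) {s : End'} (hs : Min G s) :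
    Module.finrank k (cls G (hs.cjE hg).sq) = Module.finrank k (cls G hs.sq) := by
  let L : Module.End k M →ₗ[k] Module.End k M :=
    { toFun := cjE g, map_add' := cjE_add g, map_smul' := cjE_smul g }
  have hinj : Function.Injective L := fun a b h => by
    have := congrArg (cjE g⁻¹) h
    simpa [L, cjE_inv_cjE] using this
  have e : cls G (hs.cjE hg).sq = (cls G hs.sq).map L := by
    ext b
    constructor
    · intro hb
      refine ⟨cjE g⁻¹ b, ?_, ?_⟩
      · rw [SetLike.mem_coe, ← cls_cjE hg hs, cjE_cjE, mul_inv_cancel, cjE_one]; exact hb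
      · show cjE g (cjE g⁻¹ b) = b
        rw [cjE_cjE, mul_inv_cancel, cjE_one]
    · rintro ⟨a, ha, rfl⟩
      exact (cls_cjE hg hs).mpr ha
  rw [e]
  exact (LinearEquiv.finrank_eq (Submodule.equivMapOfInjective L hinj _)).symm

/-! ### Opposite pairs -/

theorem nilp_iff (h2 : (2 : k) ≠ 0) (h3 : Nat.card k ≠ 3) {s t : End'} (hs : Min G s) (ht : Min G t) :
    IsNilpotent (s * t) ↔ ¬ Opp s t := by
  refine ⟨not_opp h2 hs ht, fun h => ?_⟩
  by_contra hn
  obtain ⟨O⟩ := opposed h2 h3 hs ht hn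
  exact h O.opp

theorem opp_cls {s t a b : End'} (hs : Min G s) (ht : Min G t) (ha : a ∈ cls G hs.sq) (ha0 : a ≠ 0)
    (hb : b ∈ cls G ht.sq) (hb0 : b ≠ 0) : Opp a b ↔ Opp s t := by
  obtain ⟨-, hak, har⟩ := cls_spec hs ha ha0
  obtain ⟨-, hbk, hbr⟩ := cls_spec ht hb hb0
  rw [Opp, Opp, hak, har, hbk, hbr]

theorem Opp.symm {s t : End'} (h : Opp s t) : Opp t s := ⟨h.2, h.1⟩

theorem Opp.inter {s t : End'} (ht : t * t = 0) (h : Opp s t) :
    LinearMap.range s ⊓ LinearMap.range t = ⊥ := by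
  rw [eq_bot_iff, ← h.1]
  refine inf_le_inf le_rfl ?_
  rintro _ ⟨v, rfl⟩
  exact DFunLike.congr_fun ht v

theorem eq_zero_of_fix {s t a d : End'} (hs : Min G s) (ht : Min G t) (ho : Opp s t) (ha : a ∈ cls G hs.sq)
    (ha0 : a ≠ 0) (hd : d ∈ cls G ht.sq)
    (hfix : conjBy (root G a) (el d) = root G a) : d = 0 := by
  by_contra hd0
  obtain ⟨hdm, hdk, hdr⟩ := cls_spec ht hd hd0
  obtain ⟨ham, hak, har⟩ := cls_spec hs ha ha0
  rw [conj_root (el_mem hd.1) ham] at hfix
  have hm : cjE (el d) a ∈ cls G ham.sq := by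
    have := el_mem_root (ham.cjE (el_mem hd.1)) (self_mem_cls (ham.cjE (el_mem hd.1)))
    rw [hfix] at this
    obtain ⟨b, hb, e⟩ := (mem_root ham).mp this
    rwa [el_inj (cjE_sq _ ham.sq) hb.1.1 e]
  have hr := hm.2.2
  rw [range_cjE] at hr
  have hker : LinearMap.range a ≤ LinearMap.ker t := by
    intro v hv
    have h1 : (el d : End') v ∈ LinearMap.range a := hr (Submodule.mem_map_of_mem hv)
    rw [coe_el hd.1.1, LinearMap.add_apply, Module.End.one_apply] at h1
    have h2 : d v ∈ LinearMap.range s ⊓ LinearMap.range t := by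
      refine ⟨?_, hdr ▸ LinearMap.mem_range_self d v⟩
      rw [SetLike.mem_coe, ← har]
      simpa using sub_mem h1 hv
    rw [ho.inter ht.sq, Submodule.mem_bot] at h2
    rw [← hdk]
    exact h2
  have : LinearMap.range s = ⊥ := by
    rw [eq_bot_iff, ← ho.1]
    exact le_inf le_rfl (har ▸ hker)
  exact hs.2.1 (LinearMap.range_eq_bot.mp this)

theorem root_ne {s t : End'} (hs : Min G s) (ht : Min G t) (ho : Opp s t) : root G s ≠ root G t := by
  intro e
  have h := el_mem_root ht (self_mem_cls ht)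
  rw [← e] at h
  obtain ⟨a, ha, ea⟩ := (mem_root hs).mp h
  have hta : t = a := el_inj ht.sq ha.1.1 ea
  subst hta
  have : LinearMap.range s ≤ LinearMap.ker t := by
    rintro _ ⟨v, rfl⟩
    exact ha.2.1 (DFunLike.congr_fun hs.sq v)
  exact hs.2.1 (LinearMap.range_eq_bot.mp (eq_bot_iff.mpr (ho.1 ▸ le_inf le_rfl this)))

/-- The conjugating element of a pair. -/
theorem pair_data (h2 : (2 : k) ≠ 0) (h3 : Nat.card k ≠ 3) {s t a : End'} (hs : Min G s) (ht : Min G t)
    (ho : Opp s t) (ha : a ∈ cls G hs.sq) (ha0 : a ≠ 0) :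
    ∃ b ∈ cls G ht.sq, b ≠ 0 ∧ el a * el (-b) ∈ G ∧ cjE (el a * el (-b)) a = -b ∧
      el (-b) * el a * el b = el (-a) * el (-b) * el a := by
  have ham := (cls_spec hs ha ha0).1
  have hn : ¬ IsNilpotent (a * t) := fun h =>
    not_opp h2 ham ht h ((opp_cls hs ht ha ha0 (self_mem_cls ht) ht.2.1).mpr ho)
  obtain ⟨O⟩ := opposed h2 h3 ham ht hn
  let _ := O.fieldK
  let _ := O.algK
  have hu : O.Φ (upm 1) = el a := by rw [O.Φ_upm, O.σ_one]
  have hu' : O.Φ (upm (-1)) = el (-a) := by rw [O.Φ_upm, map_neg, O.σ_one]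
  refine ⟨O.τ 1, O.τ_mem 1, fun h => ?_, ?_, ?_, ?_⟩
  · have h1 : lom (1 : O.K) = 1 := O.inj (by rw [O.Φ_lom, h, el_zero, map_one])
    simpa [lom_coe] using congrArg (fun g : Matrix.SpecialLinearGroup (Fin 2) O.K =>
      (g : Matrix (Fin 2) (Fin 2) O.K) 1 0) h1
  · exact mul_mem (el_mem ha.1) (el_mem (sc_neg (O.τ_mem 1).1))
  · refine el_inj (cjE_sq _ ham.sq) (neg_sq (O.τ_mem 1).1.1) ?_
    rw [el_cjE _ ham.sq, ← map_neg, ← O.Φ_lom]
    rw [← hu, ← map_mul, ← map_inv, ← map_mul, ← map_mul]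
    congr 1
    refine sl_ext ?_ ?_ ?_ ?_ <;> simp [mul_entry, inv_entry, Matrix.adjugate_fin_two, upm_coe, lom_coe]
  · rw [← map_neg, ← hu, ← hu', ← O.Φ_lom, ← O.Φ_lom, ← map_mul, ← map_mul, ← map_mul, ← map_mul]
    congr 1
    refine sl_ext ?_ ?_ ?_ ?_ <;> simp [mul_entry, upm_coe, lom_coe] <;> ring

theorem rankOne_cond (h2 : (2 : k) ≠ 0) (h3 : Nat.card k ≠ 3) {s t : End'} (hs : Min G s) (ht : Min G t)
    (ho : Opp s t) : RankOneCondition (root G s) (root G t) ∧
      ∀ x ∈ root G s, x ≠ 1 → ∀ y ∈ root G t, y ≠ 1 →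
        conjBy (root G s) y⁻¹ = conjBy (root G t) x⁻¹ → y⁻¹ * x * y = x⁻¹ * y⁻¹ * x := by
  have key : ∀ x ∈ root G s, x ≠ 1 → ∃ b ∈ cls G ht.sq, b ≠ 0 ∧
      conjBy (root G s) (el b)⁻¹ = conjBy (root G t) x⁻¹ ∧ (el b)⁻¹ * x * el b = x⁻¹ * (el b)⁻¹ * x := by
    intro x hx hx1
    obtain ⟨a, ha, rfl⟩ := (mem_root hs).mp hx
    have ha0 : a ≠ 0 := fun h => hx1 (h ▸ el_zero)
    obtain ⟨b, hb, hb0, hgG, hconj, hrel⟩ := pair_data h2 h3 hs ht ho ha ha0
    refine ⟨b, hb, hb0, ?_, ?_⟩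
    · have hg : conjBy (root G s) (el a * el (-b)) = root G t := by
        rw [← root_eq_of_mem hs ha ha0, conj_root hgG (cls_spec hs ha ha0).1, hconj]
        exact root_eq_of_mem ht (neg_mem hb) (neg_ne_zero.mpr hb0)
      rw [← hg, CfsgLib.RootSub.cj_cj, ← el_neg hb.1.1, inv_mul_cancel_left]
    · rw [← el_neg hb.1.1, ← el_neg ha.1.1]
      exact hrel
  refine ⟨fun x hx hx1 => ?_, fun x hx hx1 y hy hy1 hxy => ?_⟩
  · obtain ⟨b, hb, hb0, hc, -⟩ := key x hx hx1
    exact ⟨el b, el_mem_root ht hb, fun h => hb0 ((el_zero_iff hb.1.1).mp h), hc⟩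
  · obtain ⟨b, hb, hb0, hc, hrel⟩ := key x hx hx1
    obtain ⟨b', hb', rfl⟩ := (mem_root ht).mp hy
    have hfix : conjBy (root G s) (el b * (el b')⁻¹) = root G s := by
      rw [← CfsgLib.RootSub.cj_cj, hxy, ← hc, CfsgLib.RootSub.cj_cj, mul_inv_cancel, CfsgLib.RootSub.cj_one]
    have he : el b * (el b')⁻¹ = el (b - b') := by
      rw [← el_neg hb'.1.1, el_add hb.1.1 (neg_sq hb'.1.1) (by rw [mul_neg, mul_cls hb hb', neg_zero])
        (by rw [neg_mul, mul_cls hb' hb, neg_zero]), sub_eq_add_neg]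
    rw [he] at hfix
    have := eq_zero_of_fix hs ht ho (self_mem_cls hs) hs.2.1 (sub_mem hb hb') hfix
    rw [sub_eq_zero] at this
    exact this ▸ hrel

theorem special_pair (h2 : (2 : k) ≠ 0) (h3 : Nat.card k ≠ 3) {s t : End'} (hs : Min G s) (ht : Min G t)
    (ho : Opp s t) : IsSpecialRankOnePair (root G s) (root G t) :=
  ⟨⟨root_ne hs ht ho, root_nilpotent hs, root_nilpotent ht, (rankOne_cond h2 h3 hs ht ho).1,
    (rankOne_cond h2 h3 ht hs ho.symm).1⟩, (rankOne_cond h2 h3 hs ht ho).2⟩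

theorem sup_closure {s t : End'} (hs : Min G s) (ht : Min G t) :
    root G s ⊔ root G t =
      Subgroup.closure {x : GLM | ∃ a, (a ∈ cls G hs.sq ∨ a ∈ cls G ht.sq) ∧ x = el a} := by
  refine le_antisymm (sup_le ?_ ?_) ((Subgroup.closure_le _).mpr ?_)
  · intro x hx
    obtain ⟨a, ha, rfl⟩ := (mem_root hs).mp hx
    exact Subgroup.subset_closure ⟨a, Or.inl ha, rfl⟩
  · intro x hx
    obtain ⟨a, ha, rfl⟩ := (mem_root ht).mp hx
    exact Subgroup.subset_closure ⟨a, Or.inr ha, rfl⟩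
  · rintro _ ⟨a, ha | ha, rfl⟩
    · exact Subgroup.mem_sup_left (el_mem_root hs ha)
    · exact Subgroup.mem_sup_right (el_mem_root ht ha)

theorem range_dm_le {s t : End'} (hs : Min G s) (ht : Min G t) {x : GLM} (hx : x ∈ root G s ⊔ root G t) :
    LinearMap.range (dm x) ≤ LinearMap.range s ⊔ LinearMap.range t ∧
      LinearMap.ker s ⊓ LinearMap.ker t ≤ LinearMap.ker (dm x) := by
  rw [sup_closure hs ht] at hx
  induction hx using Subgroup.closure_induction with
  | mem y hy =>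
    obtain ⟨a, ha | ha, rfl⟩ := hy <;> rw [dm_el ha.1.1]
    · exact ⟨ha.2.2.trans le_sup_left, inf_le_left.trans ha.2.1⟩
    · exact ⟨ha.2.2.trans le_sup_right, inf_le_right.trans ha.2.1⟩
  | one => rw [dm_one]; simp
  | mul y z _ _ hy hz =>
    rw [dm_mul]
    constructor
    · rintro _ ⟨v, rfl⟩
      rw [LinearMap.add_apply, LinearMap.add_apply, Module.End.mul_apply]
      exact add_mem (add_mem (hy.1 (LinearMap.mem_range_self _ _)) (hz.1 (LinearMap.mem_range_self _ _)))
        (hy.1 (LinearMap.mem_range_self _ _))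
    · intro v hv
      rw [LinearMap.mem_ker, LinearMap.add_apply, LinearMap.add_apply, Module.End.mul_apply,
        LinearMap.mem_ker.mp (hy.2 hv), LinearMap.mem_ker.mp (hz.2 hv), map_zero, add_zero, add_zero]
  | inv y _ hy =>
    have e := dm_mul y y⁻¹
    rw [mul_inv_cancel, dm_one] at e
    have e' := dm_mul y⁻¹ y
    rw [inv_mul_cancel, dm_one] at e'
    constructor
    · rintro _ ⟨v, rfl⟩
      have h := DFunLike.congr_fun e v
      rw [LinearMap.add_apply, LinearMap.add_apply, LinearMap.zero_apply, Module.End.mul_apply] at h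
      have : dm y⁻¹ v = -(dm y v + dm y (dm y⁻¹ v)) := eq_neg_of_add_eq_zero_left (by rw [h]; abel)
      rw [this]
      exact neg_mem (add_mem (hy.1 (LinearMap.mem_range_self _ _)) (hy.1 (LinearMap.mem_range_self _ _)))
    · intro v hv
      have h := DFunLike.congr_fun e' v
      rw [LinearMap.add_apply, LinearMap.add_apply, LinearMap.zero_apply, Module.End.mul_apply,
        LinearMap.mem_ker.mp (hy.2 hv), map_zero, add_zero, add_zero] at h
      exact LinearMap.mem_ker.mpr h.symm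

theorem fixed_eq {s t : End'} (hs : Min G s) (ht : Min G t) :
    fixedSubmodule (root G s ⊔ root G t) = LinearMap.ker s ⊓ LinearMap.ker t := by
  have m1 : el s ∈ root G s ⊔ root G t := Subgroup.mem_sup_left (el_mem_root hs (self_mem_cls hs))
  have m2 : el t ∈ root G s ⊔ root G t := Subgroup.mem_sup_right (el_mem_root ht (self_mem_cls ht))
  refine le_antisymm (fun v hv => ?_) fun v hv => ?_
  · simp only [fixedSubmodule, Submodule.mem_iInf] at hv
    refine ⟨?_, ?_⟩
    · have := hv _ m1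
      change v ∈ LinearMap.ker (dm (el s)) at this
      rwa [dm_el hs.sq] at this
    · have := hv _ m2
      change v ∈ LinearMap.ker (dm (el t)) at this
      rwa [dm_el ht.sq] at this
  · simp only [fixedSubmodule, Submodule.mem_iInf]
    exact fun g hg => (range_dm_le hs ht hg).2 hv

theorem commutator_eq {s t : End'} (hs : Min G s) (ht : Min G t) :
    commutatorSubmodule (root G s ⊔ root G t) = LinearMap.range s ⊔ LinearMap.range t := by
  have m1 : el s ∈ root G s ⊔ root G t := Subgroup.mem_sup_left (el_mem_root hs (self_mem_cls hs))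
  have m2 : el t ∈ root G s ⊔ root G t := Subgroup.mem_sup_right (el_mem_root ht (self_mem_cls ht))
  refine le_antisymm (iSup₂_le fun g hg => (range_dm_le hs ht hg).1) (sup_le ?_ ?_)
  · refine le_trans ?_ (le_iSup₂ (el s) m1)
    show _ ≤ LinearMap.range (dm (el s))
    rw [dm_el hs.sq]
  · refine le_trans ?_ (le_iSup₂ (el t) m2)
    show _ ≤ LinearMap.range (dm (el t))
    rw [dm_el ht.sq]

/-! ### Unipotent pairs -/

theorem cls_triple (h2 : (2 : k) ≠ 0) (h3 : Nat.card k ≠ 3) {s t a b c : End'} (hs : Min G s) (ht : Min G t)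
    (ho : ¬ Opp s t) (ha : a ∈ cls G hs.sq ∨ a ∈ cls G ht.sq) (hb : b ∈ cls G hs.sq ∨ b ∈ cls G ht.sq)
    (hc : c ∈ cls G hs.sq ∨ c ∈ cls G ht.sq) : a * b * c = 0 := by
  have aba : ∀ {p q : End'} (hp : Min G p) (hq : Min G q), ¬ Opp p q → ∀ {x y z : End'},
      x ∈ cls G hp.sq → y ∈ cls G hq.sq → z ∈ cls G hp.sq → x * y * z = 0 := by
    intro p q hp hq hpq x y z hx hy hz
    by_cases hx0 : x = 0
    · simp [hx0]
    by_cases hy0 : y = 0
    · simp [hy0]
    obtain ⟨hxm, -, hxr⟩ := cls_spec hp hx hx0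
    have hym := (cls_spec hq hy hy0).1
    have hz' := sts_zero h2 hxm hym ((nilp_iff h2 h3 hxm hym).mpr fun h => hpq ((opp_cls hp hq hx hx0 hy hy0).mp h))
    refine LinearMap.ext fun v => ?_
    obtain ⟨w, hw⟩ : z v ∈ LinearMap.range x := hxr ▸ hz.2.2 (LinearMap.mem_range_self z v)
    rw [Module.End.mul_apply, Module.End.mul_apply, ← hw]
    exact DFunLike.congr_fun hz' w
  rcases ha with ha | ha <;> rcases hb with hb | hb
  · rw [mul_cls ha hb, zero_mul]
  · rcases hc with hc | hc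
    · exact aba hs ht ho ha hb hc
    · rw [mul_assoc, mul_cls hb hc, mul_zero]
  · rcases hc with hc | hc
    · rw [mul_assoc, mul_cls hb hc, mul_zero]
    · exact aba ht hs (fun h => ho h.symm) ha hb hc
  · rw [mul_cls ha hb, zero_mul]

/-- The span of the products of at most two members. -/
def nilAlg {s t : Module.End k M} (hs : Min G s) (ht : Min G t) : Submodule k (Module.End k M) :=
  (cls G hs.sq ⊔ cls G ht.sq) ⊔ (cls G hs.sq ⊔ cls G ht.sq) * (cls G hs.sq ⊔ cls G ht.sq)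

theorem cube_bot (h2 : (2 : k) ≠ 0) (h3 : Nat.card k ≠ 3) {s t : End'} (hs : Min G s) (ht : Min G t)
    (ho : ¬ Opp s t) :
    (cls G hs.sq ⊔ cls G ht.sq) * (cls G hs.sq ⊔ cls G ht.sq) * (cls G hs.sq ⊔ cls G ht.sq) = ⊥ := by
  simp only [Submodule.sup_mul, Submodule.mul_sup, sup_eq_bot_iff]
  have : ∀ P Q R : Submodule k End', (∀ a ∈ P, ∀ b ∈ Q, ∀ c ∈ R, a * b * c = 0) → P * Q * R = ⊥ := by
    intro P Q R h
    refine eq_bot_iff.mpr (Submodule.mul_le.mpr fun x hx c hc => ?_)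
    induction hx using Submodule.mul_induction_on' with
    | mem_mul_mem a ha b hb => exact h a ha b hb c hc
    | add a _ b _ iha ihb => rw [add_mul]; exact add_mem iha ihb
  refine ⟨⟨⟨?_, ?_⟩, ?_, ?_⟩, ⟨?_, ?_⟩, ?_, ?_⟩ <;>
    exact this _ _ _ fun a ha b hb c hc =>
      cls_triple h2 h3 hs ht ho (by tauto) (by tauto) (by tauto)

theorem dm_mem_nilAlg (h2 : (2 : k) ≠ 0) (h3 : Nat.card k ≠ 3) {s t : End'} (hs : Min G s) (ht : Min G t)
    (ho : ¬ Opp s t) {g : GLM} (hg : g ∈ root G s ⊔ root G t) : dm g ∈ nilAlg hs ht := by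
  set P := cls G hs.sq ⊔ cls G ht.sq with hP
  have h3' : P * P * P = ⊥ := cube_bot h2 h3 hs ht ho
  have hmul : nilAlg hs ht * nilAlg hs ht ≤ nilAlg hs ht := by
    simp only [nilAlg, ← hP, Submodule.sup_mul, Submodule.mul_sup, ← mul_assoc, h3', Submodule.bot_mul, bot_le,
      sup_le_iff, le_sup_right, and_true]
  have closed : ∀ x y : End', x ∈ nilAlg hs ht → y ∈ nilAlg hs ht → x + y + x * y ∈ nilAlg hs ht :=
    fun x y hx hy => add_mem (add_mem hx hy) (hmul (Submodule.mul_mem_mul hx hy))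
  have gen : ∀ a, (a ∈ cls G hs.sq ∨ a ∈ cls G ht.sq) → dm (el a) ∈ nilAlg hs ht := by
    rintro a (ha | ha) <;> rw [dm_el ha.1.1]
    · exact Submodule.mem_sup_left (Submodule.mem_sup_left ha)
    · exact Submodule.mem_sup_left (Submodule.mem_sup_right ha)
  rw [sup_closure hs ht] at hg
  induction hg using Subgroup.closure_induction'' with
  | mem y hy => obtain ⟨a, ha, rfl⟩ := hy; exact gen a ha
  | inv_mem y hy =>
    obtain ⟨a, ha, rfl⟩ := hy
    rcases ha with ha | ha <;> rw [← el_neg ha.1.1]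
    exacts [gen _ (Or.inl (neg_mem ha)), gen _ (Or.inr (neg_mem ha))]
  | one => rw [dm_one]; exact zero_mem _
  | mul y z _ _ hy hz => rw [dm_mul]; exact closed _ _ hy hz

theorem nilAlg_cube (h2 : (2 : k) ≠ 0) (h3 : Nat.card k ≠ 3) {s t : End'} (hs : Min G s) (ht : Min G t)
    (ho : ¬ Opp s t) : nilAlg hs ht * nilAlg hs ht * nilAlg hs ht = ⊥ := by
  have h := cube_bot h2 h3 hs ht ho
  simp only [nilAlg]
  set P := cls G hs.sq ⊔ cls G ht.sq
  simp [Submodule.sup_mul, Submodule.mul_sup, ← mul_assoc, h]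

theorem unip_of_not_opp (h2 : (2 : k) ≠ 0) (h3 : Nat.card k ≠ 3) {s t : End'} (hs : Min G s) (ht : Min G t)
    (ho : ¬ Opp s t) : IsUnipotentOn (root G s ⊔ root G t) := by
  refine isUnip_iff.mpr ⟨3, fun l hl hlen => ?_⟩
  obtain ⟨a, b, c, rfl⟩ := List.length_eq_three.mp hlen
  simp only [List.map_cons, List.map_nil, List.prod_cons, List.prod_nil, mul_one]
  have hmem := fun g hg => dm_mem_nilAlg h2 h3 hs ht ho (g := g) (hl g hg)
  have := Submodule.mul_mem_mul (Submodule.mul_mem_mul (hmem a (by simp)) (hmem b (by simp))) (hmem c (by simp))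
  rw [nilAlg_cube h2 h3 hs ht ho, Submodule.mem_bot, mul_assoc] at this
  exact this

theorem not_opp_of_unip (h2 : (2 : k) ≠ 0) (h3 : Nat.card k ≠ 3) {s t : End'} (hs : Min G s) (ht : Min G t)
    (hu : IsUnipotentOn (root G s ⊔ root G t)) : ¬ Opp s t := by
  rw [← nilp_iff h2 h3 hs ht]
  obtain ⟨n, hn⟩ := isUnip_iff.mp hu
  refine ⟨n + 1, ?_⟩
  let l : ℕ → List GLM := fun j => (List.replicate j [el s, el t]).flatten
  have hl : ∀ j, ∀ g ∈ l j, g ∈ root G s ⊔ root G t := by
    intro j g hg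
    simp only [l, List.mem_flatten, List.mem_replicate] at hg
    obtain ⟨_, ⟨-, rfl⟩, hg⟩ := hg
    rcases List.mem_cons.mp hg with rfl | hg
    · exact Subgroup.mem_sup_left (el_mem_root hs (self_mem_cls hs))
    · obtain rfl := List.mem_singleton.mp hg
      exact Subgroup.mem_sup_right (el_mem_root ht (self_mem_cls ht))
  have hprod : ∀ j, ((l j).map dm).prod = (s * t) ^ j ∧ (l j).length = 2 * j := by
    intro j
    induction j with
    | zero => simp [l]
    | succ j ih =>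
      have e : l (j + 1) = el s :: el t :: l j := by simp [l, List.replicate_succ]
      rw [e, List.map_cons, List.map_cons, List.prod_cons, List.prod_cons, ih.1, dm_el hs.sq, dm_el ht.sq,
        ← mul_assoc, ← pow_succ', List.length_cons, List.length_cons, ih.2]
      exact ⟨rfl, by ring⟩
  rw [← (hprod (n + 1)).1, ← List.take_append_drop n (l (n + 1)), List.map_append, List.prod_append,
    hn ((l (n + 1)).take n) (fun g hg => hl _ g (List.mem_of_mem_take hg)) (by simp [(hprod (n + 1)).2]; omega),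
    zero_mul]

end CfsgLib.QuadPair
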