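/-
The commutator of two root subgroups of a quadratic pair.
-/
import Mathlib
import Cfsg.Prelude.Def_RootSubgroups
import Cfsg.Agent.Lib.QuadPair.Classes

set_option autoImplicit false
set_option linter.unusedSectionVars false

open Cfsg CfsgLib.RootSub.Unip
open scoped commutatorElement

namespace CfsgLib.QuadPair

universe u v

variable {k : Type u} [Field k] {M : Type v} [AddCommGroup M] [Module k M] [FiniteDimensional k M]
variable {G : Subgroup (LinearMap.GeneralLinearGroup k M)}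

local notation "End'" => Module.End k M
local notation "GLM" => LinearMap.GeneralLinearGroup k M

theorem cjE_pow (g : GLM) (a : End') (n : ℕ) : cjE g a ^ (n + 1) = cjE g (a ^ (n + 1)) := by
  induction n with
  | zero => simp
  | succ n ih => rw [pow_succ, ih, ← cjE_mul, ← pow_succ]

theorem nilp_cjE {g : GLM} {a b : End'} (h : IsNilpotent (a * b)) : IsNilpotent (cjE g a * cjE g b) := by
  obtain ⟨n, hn⟩ := h
  exact ⟨n + 1, by rw [← cjE_mul, cjE_pow, pow_succ, hn, zero_mul, cjE_zero]⟩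

theorem fixed_vector [Nontrivial M] {U : Subgroup GLM} (hU : IsUnipotentOn U) :
    ∃ v : M, v ≠ 0 ∧ ∀ g ∈ U, dm g v = 0 := by
  classical
  have h := isUnip_iff.mp hU
  have hn := Nat.find_spec h
  set n := Nat.find h with hn'
  rcases Nat.eq_zero_or_pos n with h0 | h0
  · exfalso
    have h1 := hn [] (by simp) h0.symm
    obtain ⟨v, hv⟩ := exists_ne (0 : M)
    exact hv (by simpa using DFunLike.congr_fun h1 v)
  have hmin := Nat.find_min h (show n - 1 < n by omega)
  push Not at hmin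
  obtain ⟨l, hl, hlen, hl0⟩ := hmin
  obtain ⟨w, hw⟩ : ∃ w, (l.map dm).prod w ≠ 0 := by
    by_contra h'
    push Not at h'
    exact hl0 (LinearMap.ext h')
  refine ⟨_, hw, fun g hg => ?_⟩
  have := hn (g :: l) (by simp [hg]; exact hl) (by simp; omega)
  rw [List.map_cons, List.prod_cons] at this
  exact DFunLike.congr_fun this w

/-- Every minimal element has an opposite one. -/
theorem exists_opp (h2 : (2 : k) ≠ 0) (h3 : Nat.card k ≠ 3) (hG : IsQuadraticPair G) {s : End'} (hs : Min G s) :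
    ∃ x, Min G x ∧ Opp s x := by
  by_contra hcon
  push Not at hcon
  obtain ⟨⟨⟨m0, hm0⟩, hirr⟩, -⟩ := hG
  have : Nontrivial M := ⟨⟨m0, 0, hm0⟩⟩
  let W : Set (Subgroup GLM) := {A | ∃ g ∈ G, A = root G (cjE g s)}
  have hU : IsUnipotentOn (⨆ A ∈ W, A) := by
    refine unip_family (G := G) ?_ ?_ ?_
    · rintro A ⟨g, hg, rfl⟩
      exact root_le (hs.cjE hg)
    · rintro A ⟨g, hg, rfl⟩ B ⟨h, hh, rfl⟩
      refine unip_of_not_opp h2 h3 (hs.cjE hg) (hs.cjE hh) ((nilp_iff h2 h3 (hs.cjE hg) (hs.cjE hh)).mp ?_)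
      have h1 := nilp_cjE (g := g) ((nilp_iff h2 h3 hs (hs.cjE (mul_mem (inv_mem hg) hh))).mpr
        (hcon _ (hs.cjE (mul_mem (inv_mem hg) hh))))
      rwa [cjE_cjE, mul_inv_cancel_left] at h1
    · rintro A ⟨g, hg, rfl⟩ h hh
      exact ⟨h * g, mul_mem hh hg, by rw [conj_root hh (hs.cjE hg), cjE_cjE]⟩
  obtain ⟨v, hv0, hv⟩ := fixed_vector hU
  let V : Submodule k M := ⨅ g ∈ (⨆ A ∈ W, A : Subgroup GLM), LinearMap.ker (dm g)
  have memV : ∀ {w : M}, w ∈ V ↔ ∀ g ∈ (⨆ A ∈ W, A : Subgroup GLM), dm g w = 0 := by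
    intro w; simp only [V, Submodule.mem_iInf, LinearMap.mem_ker]
  have hinv : ∀ h ∈ G, ∀ w ∈ V, (h : End') w ∈ V := by
    intro h hh w hw
    refine memV.mpr fun g hg => ?_
    have hle : (⨆ A ∈ W, A : Subgroup GLM) ≤ (⨆ A ∈ W, A : Subgroup GLM).comap (MulAut.conj h⁻¹).toMonoidHom := by
      refine iSup₂_le fun A hA x hx => Subgroup.mem_comap.mpr ?_
      obtain ⟨g, hg, rfl⟩ := hA
      have hm : root G (cjE (h⁻¹ * g) s) ∈ W := ⟨_, mul_mem (inv_mem hh) hg, rfl⟩
      refine Subgroup.mem_iSup_of_mem _ (Subgroup.mem_iSup_of_mem hm ?_)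
      rw [← cjE_cjE, ← conj_root (inv_mem hh) (hs.cjE hg)]
      exact ⟨x, hx, rfl⟩
    have h1 := memV.mp hw _ (hle hg)
    have e : dm g * (h : End') = (h : End') * dm (h⁻¹ * g * h) := by
      simp only [dm, Units.val_mul, sub_mul, mul_sub, one_mul, mul_one, ← mul_assoc, Units.mul_inv, one_mul]
    have h2' := DFunLike.congr_fun e w
    rw [Module.End.mul_apply, Module.End.mul_apply] at h2'
    rw [h2']
    simp only [MulEquiv.toMonoidHom_eq_coe, MonoidHom.coe_coe, MulAut.conj_apply, inv_inv] at h1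
    rw [h1, map_zero]
  rcases hirr V hinv with h | h
  · exact hv0 ((Submodule.eq_bot_iff V).mp h v (memV.mpr hv))
  · apply hs.2.1
    refine LinearMap.ext fun w => ?_
    have hm : el s ∈ (⨆ A ∈ W, A : Subgroup GLM) := Subgroup.mem_iSup_of_mem _ (Subgroup.mem_iSup_of_mem
      (show root G s ∈ W from ⟨1, one_mem G, by rw [cjE_one]⟩) (el_mem_root hs (self_mem_cls hs)))
    have := memV.mp (h ▸ Submodule.mem_top : w ∈ V) _ hm
    rwa [dm_el hs.sq] at this

/-- Opposite root subgroups are conjugate. -/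
theorem conj_of_opp (h2 : (2 : k) ≠ 0) (h3 : Nat.card k ≠ 3) {s t : End'} (hs : Min G s) (ht : Min G t)
    (ho : Opp s t) : ∃ g ∈ G, conjBy (root G s) g = root G t ∧
      Module.finrank k (cls G hs.sq) = Module.finrank k (cls G ht.sq) := by
  obtain ⟨b, hb, hb0, hg, hconj, -⟩ := pair_data h2 h3 hs ht ho (self_mem_cls hs) hs.2.1
  have hnb := neg_mem hb
  have hnb0 : -b ≠ 0 := neg_ne_zero.mpr hb0
  refine ⟨_, hg, ?_, ?_⟩
  · rw [conj_root hg hs, hconj, root_eq_of_mem ht hnb hnb0]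
  · have h := finrank_cls_cjE hg hs
    rw [← h]
    have e : cls G (hs.cjE hg).sq = cls G ht.sq := by
      rw [← cls_eq ht hnb hnb0]
      ext u
      rw [mem_cls, mem_cls, hconj]
    rw [e]

theorem sq_ne_of_opp (h2 : (2 : k) ≠ 0) (h3 : Nat.card k ≠ 3) {s x : End'} (hs : Min G s) (hx : Min G x)
    (ho : Opp s x) : x * s * x ≠ 0 := by
  intro h
  refine (nilp_iff h2 h3 hs hx).mp ⟨2, ?_⟩ ho
  rw [pow_two, mul_assoc, ← mul_assoc x s x, h, mul_zero]

/-- A class is conjugate to the class of a non-zero commutator. -/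
theorem finrank_br (h2 : (2 : k) ≠ 0) (h3 : Nat.card k ≠ 3) (hG : IsQuadraticPair G) {s t : End'} (hs : Min G s)
    (ht : Min G t) (hn : IsNilpotent (s * t)) (h0 : s * t - t * s ≠ 0) :
    Module.finrank k (cls G hs.sq) = Module.finrank k (cls G (br_spec h2 hs ht hn h0).2.sq) := by
  set hD := (br_spec h2 hs ht hn h0).2
  obtain ⟨x, hx, ho⟩ := exists_opp h2 h3 hG hD
  obtain ⟨-, -, -, e1⟩ := conj_of_opp h2 h3 hD hx ho
  rw [e1]
  by_cases hsx : Opp s x
  · obtain ⟨-, -, -, e2⟩ := conj_of_opp h2 h3 hs hx hsx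
    exact e2
  have hgt := el_mem ht.1
  have hs' := hs.cjE hgt
  rw [← finrank_cls_cjE hgt hs]
  obtain ⟨-, -, -, e2⟩ := conj_of_opp h2 h3 hs' hx (by
    by_contra hno
    have hz := sts_zero h2 hx hs' ((nilp_iff h2 h3 hx hs').mpr fun h => hno h.symm)
    have hsz := sts_zero h2 hx hs ((nilp_iff h2 h3 hx hs).mpr fun h => hsx h.symm)
    apply sq_ne_of_opp h2 h3 hD hx ho
    rw [cjE_el ht.sq] at hz
    have htst : t * s * t = 0 := sts_zero h2 ht hs (nilp_swap hn)
    rw [htst, sub_zero, mul_add, add_mul, hsz, zero_add] at hz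
    have : x * (s * t - t * s) * x = -(x * (t * s - s * t) * x) := by noncomm_ring
    rw [this, hz, neg_zero])
  exact e2

/-- The commutator map from one class onto the class of a commutator. -/
theorem br_surj (h2 : (2 : k) ≠ 0) (h3 : Nat.card k ≠ 3) (hG : IsQuadraticPair G) {s t a : End'} (hs : Min G s)
    (ht : Min G t) (hn : IsNilpotent (s * t)) (h0 : s * t - t * s ≠ 0) (ha : a ∈ cls G hs.sq) (ha0 : a ≠ 0) {d : End'}
    (hd : d ∈ cls G (br_spec h2 hs ht hn h0).2.sq) : ∃ b ∈ cls G ht.sq, a * b - b * a = d := by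
  have hno : ¬ Opp s t := (nilp_iff h2 h3 hs ht).mp hn
  have hmem : ∀ b ∈ cls G ht.sq, a * b - b * a ∈ cls G (br_spec h2 hs ht hn h0).2.sq ∧ (b ≠ 0 → a * b - b * a ≠ 0) := by
    intro b hb
    by_cases hb0 : b = 0
    · subst hb0
      exact ⟨by simp, fun h => absurd rfl h⟩
    · obtain ⟨ham, -, -⟩ := cls_spec hs ha ha0
      obtain ⟨hbm, -, -⟩ := cls_spec ht hb hb0
      have := br_cls h2 hs ht hn h0 ha hb
        ((nilp_iff h2 h3 ham hbm).mpr fun h => hno ((opp_cls hs ht ha ha0 hb hb0).mp h)) ha0 hb0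
      exact ⟨this.2, fun _ => this.1⟩
  let L : cls G ht.sq →ₗ[k] cls G (br_spec h2 hs ht hn h0).2.sq :=
    { toFun := fun b => ⟨a * b - b * a, (hmem b b.2).1⟩
      map_add' := fun b c => Subtype.ext (by
        show a * ((b : End') + c) - ((b : End') + c) * a = (a * b - b * a) + (a * c - c * a)
        rw [mul_add, add_mul]; abel)
      map_smul' := fun r b => Subtype.ext (by
        show a * (r • (b : End')) - (r • (b : End')) * a = r • (a * b - b * a)
        rw [mul_smul_comm, smul_mul_assoc, smul_sub]) }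
  have hinj : Function.Injective L := by
    rw [← LinearMap.ker_eq_bot, Submodule.eq_bot_iff]
    intro b hb
    by_contra hb0
    exact (hmem b b.2).2 (fun h => hb0 (Subtype.ext h)) (congrArg Subtype.val (LinearMap.mem_ker.mp hb))
  have hdim : Module.finrank k (cls G ht.sq) = Module.finrank k (cls G (br_spec h2 hs ht hn h0).2.sq) := by
    have h0' : t * s - s * t ≠ 0 := fun h => h0 (by rw [← neg_sub, h, neg_zero])
    rw [finrank_br h2 h3 hG ht hs (nilp_swap hn) h0']
    have hm := (br_spec h2 hs ht hn h0).2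
    have e : cls G (br_spec h2 ht hs (nilp_swap hn) h0').2.sq = cls G hm.sq := by
      ext u
      rw [mem_cls, mem_cls, ← neg_sub (s * t), LinearMap.range_neg,
        show LinearMap.ker (-(s * t - t * s)) = LinearMap.ker (s * t - t * s) from
          SetLike.ext fun v => by simp [LinearMap.mem_ker]; rw [neg_eq_zero.symm, neg_sub]]
    rw [e]
  obtain ⟨b, hb⟩ := (LinearMap.injective_iff_surjective_of_finrank_eq_finrank hdim).mp hinj ⟨d, hd⟩
  exact ⟨b, b.2, congrArg Subtype.val hb⟩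

theorem comm_el (h2 : (2 : k) ≠ 0) (h3 : Nat.card k ≠ 3) {s t a b : End'} (hs : Min G s) (ht : Min G t)
    (hno : ¬ Opp s t) (ha : a ∈ cls G hs.sq) (hb : b ∈ cls G ht.sq) :
    el a * el b * (el a)⁻¹ * (el b)⁻¹ = el (a * b - b * a) := by
  rw [← el_neg ha.1.1, ← el_neg hb.1.1]
  exact (el_comm_mul ha.1.1 hb.1.1 (cls_triple h2 h3 hs ht hno (Or.inl ha) (Or.inr hb) (Or.inl ha))
    (cls_triple h2 h3 hs ht hno (Or.inr hb) (Or.inl ha) (Or.inr hb))).1

theorem bot_or_all (h2 : (2 : k) ≠ 0) (h3 : Nat.card k ≠ 3) {s t a b : End'} (hs : Min G s) (ht : Min G t)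
    (hno : ¬ Opp s t) (ha : a ∈ cls G hs.sq) (ha0 : a ≠ 0) (hb : b ∈ cls G ht.sq) (hb0 : b ≠ 0)
    (h : a * b = b * a) : ⁅root G s, root G t⁆ = ⊥ := by
  have hn := (nilp_iff h2 h3 hs ht).mpr hno
  have hD : s * t - t * s = 0 := by
    by_contra h0
    obtain ⟨ham, -, -⟩ := cls_spec hs ha ha0
    obtain ⟨hbm, -, -⟩ := cls_spec ht hb hb0
    exact (br_cls h2 hs ht hn h0 ha hb
      ((nilp_iff h2 h3 ham hbm).mpr fun h' => hno ((opp_cls hs ht ha ha0 hb hb0).mp h')) ha0 hb0).1
      (sub_eq_zero.mpr h)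
  rw [Subgroup.commutator_eq_bot_iff_le_centralizer]
  intro x hx
  rw [Subgroup.mem_centralizer_iff]
  intro y hy
  obtain ⟨c, hc, rfl⟩ := (mem_root hs).mp hx
  obtain ⟨e, he, rfl⟩ := (mem_root ht).mp hy
  refine commute_el he.1.1 hc.1.1 ?_
  by_contra hne
  have hc0 : c ≠ 0 := fun h' => hne (by simp [h'])
  have he0 : e ≠ 0 := fun h' => hne (by simp [h'])
  obtain ⟨hcm, -, -⟩ := cls_spec hs hc hc0
  obtain ⟨hem, -, -⟩ := cls_spec ht he he0
  have hn' := (nilp_iff h2 h3 hcm hem).mpr fun h' => hno ((opp_cls hs ht hc hc0 he he0).mp h')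
  have hne' : c * e - e * c ≠ 0 := fun h' => hne (sub_eq_zero.mp h').symm
  have hs' : s ∈ cls G hcm.sq := by rw [cls_eq hs hc hc0]; exact self_mem_cls hs
  have ht' : t ∈ cls G hem.sq := by rw [cls_eq ht he he0]; exact self_mem_cls ht
  exact (br_cls h2 hcm hem hn' hne' hs' ht' hn hs.2.1 ht.2.1).1 hD

theorem commutator_dm (g h : GLM) :
    dm (g * h * g⁻¹ * h⁻¹) = (dm g * dm h - dm h * dm g) * (1 + dm (g⁻¹ * h⁻¹)) := by
  have e1 : (dm g * dm h - dm h * dm g) = dm (g * h) - dm (h * g) := by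
    rw [dm_mul, dm_mul]; abel
  rw [e1]
  simp only [dm, Units.val_mul, sub_sub_sub_cancel_right, add_sub_cancel, sub_mul]
  have c1 : (h : End') * g * ((g⁻¹ : GLM) * (h⁻¹ : GLM)) = 1 := by
    rw [← Units.val_mul, ← Units.val_mul, ← Units.val_mul, show h * g * (g⁻¹ * h⁻¹) = 1 by group, Units.val_one]
  rw [c1]
  noncomm_ring

theorem commute_dm {g h : GLM} (e : dm g * dm h = dm h * dm g) : g * h = h * g := by
  refine Units.ext ?_
  rw [Units.val_mul, Units.val_mul, show (g : End') = dm g + 1 by simp [dm], show (h : End') = dm h + 1 by simp [dm]]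
  simp only [mul_add, add_mul, one_mul, mul_one, e]
  abel

/-- Conclusions for a unipotent pair. -/
theorem unip_pair_spec (h2 : (2 : k) ≠ 0) (h3 : Nat.card k ≠ 3) (hG : IsQuadraticPair G) {s t : End'} (hs : Min G s)
    (ht : Min G t) (hno : ¬ Opp s t) :
    ⁅root G s, root G t⁆ = ⊥ ∨
    (⁅root G s, root G t⁆ ∈ quadraticRootSubgroups G ∧
      (∀ e ∈ root G s, e ≠ 1 → Subgroup.closure ((fun f : GLM => e * f * e⁻¹ * f⁻¹) '' (root G t : Set GLM)) =
        ⁅root G s, root G t⁆) ∧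
      (∀ f ∈ root G t, f ≠ 1 → Subgroup.closure ((fun e : GLM => e * f * e⁻¹ * f⁻¹) '' (root G s : Set GLM)) =
        ⁅root G s, root G t⁆) ∧
      ⁅root G s ⊔ root G t, root G s ⊔ root G t⁆ ≠ ⊥ ∧
      ⁅⁅root G s ⊔ root G t, root G s ⊔ root G t⁆, root G s ⊔ root G t⁆ = ⊥ ∧
      ((root G s ⊔ root G t : Subgroup GLM) : Set GLM) ⊆ quadraticUnipotentCore G ⁅root G s, root G t⁆) := by
  have hn := (nilp_iff h2 h3 hs ht).mpr hno
  by_cases h0 : s * t - t * s = 0
  · exact Or.inl (bot_or_all h2 h3 hs ht hno (self_mem_cls hs) hs.2.1 (self_mem_cls ht) ht.2.1 (sub_eq_zero.mp h0))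
  obtain ⟨S, hDm⟩ := br_spec h2 hs ht hn h0
  set D := s * t - t * s with hD
  have brmem : ∀ a ∈ cls G hs.sq, ∀ b ∈ cls G ht.sq, a * b - b * a ∈ cls G hDm.sq := by
    intro a ha b hb
    by_cases ha0 : a = 0
    · simp [ha0]
    by_cases hb0 : b = 0
    · simp [hb0]
    exact (br_cls h2 hs ht hn h0 ha hb ((nilp_iff h2 h3 (cls_spec hs ha ha0).1 (cls_spec ht hb hb0).1).mpr
      fun h => hno ((opp_cls hs ht ha ha0 hb hb0).mp h)) ha0 hb0).2
  have hX : ⁅root G s, root G t⁆ = root G D := by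
    refine le_antisymm (Subgroup.commutator_le.mpr ?_) ?_
    · intro x hx y hy
      obtain ⟨a, ha, rfl⟩ := (mem_root hs).mp hx
      obtain ⟨b, hb, rfl⟩ := (mem_root ht).mp hy
      rw [commutatorElement_def, comm_el h2 h3 hs ht hno ha hb]
      exact el_mem_root hDm (brmem a ha b hb)
    · intro x hx
      obtain ⟨d, hd, rfl⟩ := (mem_root hDm).mp hx
      obtain ⟨b, hb, rfl⟩ := br_surj h2 h3 hG hs ht hn h0 (self_mem_cls hs) hs.2.1 hd
      rw [← comm_el h2 h3 hs ht hno (self_mem_cls hs) hb, ← commutatorElement_def]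
      exact Subgroup.commutator_mem_commutator (el_mem_root hs (self_mem_cls hs)) (el_mem_root ht hb)
  have hN3 := nilAlg_cube h2 h3 hs ht hno
  have hN : ∀ g ∈ root G s ⊔ root G t, dm g ∈ nilAlg hs ht := fun g hg => dm_mem_nilAlg h2 h3 hs ht hno hg
  have hs2 : ∀ a, (a ∈ cls G hs.sq ∨ a ∈ cls G ht.sq) → a ∈ nilAlg hs ht := by
    rintro a (ha | ha)
    · exact Submodule.mem_sup_left (Submodule.mem_sup_left ha)
    · exact Submodule.mem_sup_left (Submodule.mem_sup_right ha)
  have triple : ∀ {x y z : End'}, x ∈ nilAlg hs ht → y ∈ nilAlg hs ht → z ∈ nilAlg hs ht → x * y * z = 0 := by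
    intro x y z hx hy hz
    have := Submodule.mul_mem_mul (Submodule.mul_mem_mul hx hy) hz
    rwa [hN3, Submodule.mem_bot] at this
  have ann : ∀ d ∈ cls G hDm.sq, ∀ x ∈ nilAlg hs ht, d * x = 0 ∧ x * d = 0 := by
    intro d hd x hx
    obtain ⟨b, hb, rfl⟩ := br_surj h2 h3 hG hs ht hn h0 (self_mem_cls hs) hs.2.1 hd
    have m1 := hs2 _ (Or.inl (self_mem_cls hs))
    have m2 := hs2 _ (Or.inr hb)
    constructor
    · rw [sub_mul, triple m1 m2 hx, triple m2 m1 hx, sub_zero]
    · rw [mul_sub, ← mul_assoc, ← mul_assoc, triple hx m1 m2, triple hx m2 m1, sub_zero]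
  refine Or.inr ⟨?_, ?_, ?_, ?_, ?_, ?_⟩
  · rw [hX]; exact mem_roots.mpr ⟨D, hDm, rfl⟩
  · intro e he he1
    obtain ⟨a, ha, rfl⟩ := (mem_root hs).mp he
    have ha0 : a ≠ 0 := fun h => he1 (h ▸ el_zero)
    refine le_antisymm ((Subgroup.closure_le _).mpr ?_) ?_
    · rintro _ ⟨f, hf, rfl⟩
      exact Subgroup.commutator_mem_commutator he hf
    · intro x hx
      rw [hX] at hx
      obtain ⟨d, hd, rfl⟩ := (mem_root hDm).mp hx
      obtain ⟨b, hb, rfl⟩ := br_surj h2 h3 hG hs ht hn h0 ha ha0 hd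
      exact Subgroup.subset_closure ⟨el b, el_mem_root ht hb, comm_el h2 h3 hs ht hno ha hb⟩
  · intro f hf hf1
    obtain ⟨b, hb, rfl⟩ := (mem_root ht).mp hf
    have hb0 : b ≠ 0 := fun h => hf1 (h ▸ el_zero)
    refine le_antisymm ((Subgroup.closure_le _).mpr ?_) ?_
    · rintro _ ⟨e, he, rfl⟩
      exact Subgroup.commutator_mem_commutator he hf
    · intro x hx
      rw [hX] at hx
      obtain ⟨d, hd, rfl⟩ := (mem_root hDm).mp hx
      have h0' : t * s - s * t ≠ 0 := fun h => h0 (by rw [hD, ← neg_sub, h, neg_zero])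
      have hd' : -d ∈ cls G (br_spec h2 ht hs (nilp_swap hn) h0').2.sq := by
        have hne : t * s - s * t ∈ cls G hDm.sq := by
          rw [show t * s - s * t = -D by rw [hD]; abel]; exact neg_mem (self_mem_cls hDm)
        rw [show cls G (br_spec h2 ht hs (nilp_swap hn) h0').2.sq = cls G hDm.sq from cls_eq hDm hne h0']
        exact neg_mem hd
      obtain ⟨a, ha, e⟩ := br_surj h2 h3 hG ht hs (nilp_swap hn) h0' hb hb0 hd'
      refine Subgroup.subset_closure ⟨el a, el_mem_root hs ha, ?_⟩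
      show el a * el b * (el a)⁻¹ * (el b)⁻¹ = el d
      rw [comm_el h2 h3 hs ht hno ha hb, ← neg_sub, e, neg_neg]
  · intro hbot
    have h1 : el D ∈ ⁅root G s ⊔ root G t, root G s ⊔ root G t⁆ :=
      Subgroup.commutator_mono le_sup_left le_sup_right (hX ▸ el_mem_root hDm (self_mem_cls hDm))
    rw [hbot, Subgroup.mem_bot] at h1
    exact h0 ((el_zero_iff hDm.sq).mp h1)
  · rw [Subgroup.commutator_eq_bot_iff_le_centralizer, Subgroup.commutator_le]
    intro g hg h hh
    rw [Subgroup.mem_centralizer_iff]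
    intro x hx
    refine (commute_dm ?_).symm
    rw [commutatorElement_def, commutator_dm]
    have mg := hN g hg
    have mh := hN h hh
    have mx := hN x hx
    have mw := hN _ (mul_mem (inv_mem hg) (inv_mem hh))
    have l : (dm g * dm h - dm h * dm g) * (1 + dm (g⁻¹ * h⁻¹)) = dm g * dm h - dm h * dm g := by
      rw [mul_add, mul_one, sub_mul, triple mg mh mw, triple mh mg mw, sub_zero, add_zero]
    rw [l, sub_mul, mul_sub, triple mg mh mx, triple mh mg mx, ← mul_assoc, ← mul_assoc, triple mx mg mh,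
      triple mx mh mg]
  · intro g hg
    rw [hX]
    have hfix : fixedSubmodule (root G D) = LinearMap.ker D := by
      refine le_antisymm (fun v hv => ?_) fun v hv => ?_
      · simp only [fixedSubmodule, Submodule.mem_iInf] at hv
        have := hv _ (el_mem_root hDm (self_mem_cls hDm))
        change v ∈ LinearMap.ker (dm (el D)) at this
        rwa [dm_el hDm.sq] at this
      · simp only [fixedSubmodule, Submodule.mem_iInf]
        intro x hx
        obtain ⟨d, hd, rfl⟩ := (mem_root hDm).mp hx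
        show v ∈ LinearMap.ker (dm (el d))
        rw [dm_el hd.1.1]
        exact hd.2.1 hv
    have hcom : commutatorSubmodule (root G D) = LinearMap.range D := by
      refine le_antisymm (iSup₂_le fun x hx => ?_) ?_
      · obtain ⟨d, hd, rfl⟩ := (mem_root hDm).mp hx
        show LinearMap.range (dm (el d)) ≤ _
        rw [dm_el hd.1.1]
        exact hd.2.2
      · refine le_trans ?_ (le_iSup₂ (el D) (el_mem_root hDm (self_mem_cls hDm)))
        show _ ≤ LinearMap.range (dm (el D))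
        rw [dm_el hDm.sq]
    have hgn := hN g hg
    refine ⟨(sup_le (root_le hs) (root_le ht)) hg, ?_, ?_, ?_, ?_⟩
    · have hc : ∀ x ∈ root G D, g * x = x * g := by
        intro x hx
        obtain ⟨d, hd, rfl⟩ := (mem_root hDm).mp hx
        refine commute_dm ?_
        rw [dm_el hd.1.1, (ann d hd _ hgn).1, (ann d hd _ hgn).2]
      rw [Subgroup.mem_normalizer_iff]
      intro x
      constructor
      · intro hx
        rw [hc x hx, mul_inv_cancel_right]
        exact hx
      · intro hx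
        have h1 := hc _ hx
        have e : x = g * x * g⁻¹ := mul_left_cancel (h1.trans (inv_mul_cancel_right (g * x) g)).symm
        rw [e]
        exact hx
    · intro m
      rw [hfix, LinearMap.mem_ker]
      exact DFunLike.congr_fun (ann D (self_mem_cls hDm) _ hgn).1 m
    · intro m hm
      rw [hfix] at hm
      rw [hcom]
      let V : Submodule k End' :=
        { carrier := {y | ∀ v ∈ LinearMap.ker D, y v ∈ LinearMap.range D}
          zero_mem' := fun v _ => by simp
          add_mem' := fun {a b} ha hb v hv => by rw [LinearMap.add_apply]; exact add_mem (ha v hv) (hb v hv)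
          smul_mem' := fun c a ha v hv => by rw [LinearMap.smul_apply]; exact Submodule.smul_mem _ c (ha v hv) }
      have hP : cls G hs.sq ⊔ cls G ht.sq ≤ V := by
        refine sup_le (fun a ha v hv => ?_) fun b hb v hv => ?_
        · rw [S.ker_br] at hv
          obtain ⟨r, hr, c, hc, rfl⟩ := Submodule.mem_sup.mp hv.2
          rw [map_add, LinearMap.mem_ker.mp (ha.2.1 hc), add_zero, S.range_br]
          refine Submodule.mem_sup_left ⟨ha.2.2 (LinearMap.mem_range_self _ _), ?_⟩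
          obtain ⟨w, rfl⟩ := hr
          exact DFunLike.congr_fun
            (cls_triple h2 h3 hs ht hno (Or.inr (self_mem_cls ht)) (Or.inl ha) (Or.inr (self_mem_cls ht))) w
        · rw [S.ker_br] at hv
          obtain ⟨r, hr, c, hc, rfl⟩ := Submodule.mem_sup.mp hv.1
          rw [map_add, LinearMap.mem_ker.mp (hb.2.1 hc), add_zero, S.range_br]
          refine Submodule.mem_sup_right ⟨hb.2.2 (LinearMap.mem_range_self _ _), ?_⟩
          obtain ⟨w, rfl⟩ := hr
          exact DFunLike.congr_fun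
            (cls_triple h2 h3 hs ht hno (Or.inl (self_mem_cls hs)) (Or.inr hb) (Or.inl (self_mem_cls hs))) w
      have hV : nilAlg hs ht ≤ V := by
        refine sup_le hP (Submodule.mul_le.mpr fun a ha b hb v hv => ?_)
        obtain ⟨w, hw⟩ := hP hb v hv
        have h3' := (ann D (self_mem_cls hDm) a (Submodule.mem_sup_left ha)).2
        rw [Module.End.mul_apply, ← hw, ← Module.End.mul_apply, h3']
        exact zero_mem _
      exact hV hgn m hm
    · intro m hm
      rw [hcom] at hm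
      obtain ⟨w, rfl⟩ := hm
      have := DFunLike.congr_fun (ann D (self_mem_cls hDm) _ hgn).2 w
      rw [Module.End.mul_apply, LinearMap.zero_apply, dm, LinearMap.sub_apply, Module.End.one_apply, sub_eq_zero] at this
      exact this

theorem not_opp_of_class_two (h2 : (2 : k) ≠ 0) (h3 : Nat.card k ≠ 3) {s t : End'} (hs : Min G s) (ht : Min G t)
    (hc : ⁅⁅root G s ⊔ root G t, root G s ⊔ root G t⁆, root G s ⊔ root G t⁆ = ⊥) : ¬ Opp s t := by
  intro ho
  obtain ⟨O⟩ := opposed h2 h3 hs ht fun h => (nilp_iff h2 h3 hs ht).mp h ho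
  let _ := O.fieldK
  let _ := O.algK
  have m1 : O.Φ (upm 1) ∈ root G s ⊔ root G t := by
    rw [O.Φ_upm]; exact Subgroup.mem_sup_left (el_mem_root hs (O.σ_mem 1))
  have m2 : O.Φ (lom 1) ∈ root G s ⊔ root G t := by
    rw [O.Φ_lom]; exact Subgroup.mem_sup_right (el_mem_root ht (O.τ_mem 1))
  have h := Subgroup.commutator_mem_commutator (Subgroup.commutator_mem_commutator m1 m2) m1
  rw [hc, Subgroup.mem_bot, ← map_commutatorElement, ← map_commutatorElement, ← map_one O.Φ] at h
  have := congrArg (fun g : Matrix.SpecialLinearGroup (Fin 2) O.K => (g : Matrix (Fin 2) (Fin 2) O.K) 1 0) (O.inj h)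
  simp [commutatorElement_def, mul_entry, inv_entry, Matrix.adjugate_fin_two, upm_coe, lom_coe] at this

theorem commute_criterion (h2 : (2 : k) ≠ 0) (h3 : Nat.card k ≠ 3) {s t : End'} (hs : Min G s) (ht : Min G t)
    (h : (∃ e ∈ root G s, e ≠ 1 ∧ ∃ f ∈ root G t, f ≠ 1 ∧ e * f = f * e) ∨
      root G s ⊓ Subgroup.normalizer (root G t : Set GLM) ≠ ⊥) : ⁅root G s, root G t⁆ = ⊥ := by
  rcases h with ⟨e, he, he1, f, hf, hf1, hef⟩ | h
  · obtain ⟨a, ha, rfl⟩ := (mem_root hs).mp he
    obtain ⟨b, hb, rfl⟩ := (mem_root ht).mp hf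
    have ha0 : a ≠ 0 := fun h => he1 (h ▸ el_zero)
    have hb0 : b ≠ 0 := fun h => hf1 (h ▸ el_zero)
    have hab : a * b = b * a := by
      have := congrArg (fun g : GLM => (g : End')) hef
      simp only [Units.val_mul, coe_el ha.1.1, coe_el hb.1.1, mul_add, add_mul, one_mul, mul_one] at this
      linear_combination (norm := abel) this
    refine bot_or_all h2 h3 hs ht (fun ho => ?_) ha ha0 hb hb0 hab
    refine (nilp_iff h2 h3 (cls_spec hs ha ha0).1 (cls_spec ht hb hb0).1).mp ⟨2, ?_⟩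
      ((opp_cls hs ht ha ha0 hb hb0).mpr ho)
    rw [pow_two, mul_assoc, ← mul_assoc b a b, ← hab, mul_assoc a b b, hb.1.1, mul_zero, mul_zero]
  · obtain ⟨e, he, he1⟩ := Subgroup.bot_or_exists_ne_one _ |>.resolve_left h
    obtain ⟨a, ha, rfl⟩ := (mem_root hs).mp he.1
    have ha0 : a ≠ 0 := fun h => he1 (h ▸ el_zero)
    have hfix : conjBy (root G t) (el a) = root G t := CfsgLib.RootSub.cj_eq_self.mpr he.2
    by_cases ho : Opp s t
    · exact absurd (eq_zero_of_fix ht hs ho.symm (self_mem_cls ht) ht.2.1 ha hfix) ha0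
    have hn := (nilp_iff h2 h3 hs ht).mpr ho
    by_contra hne
    obtain ⟨ham, hak, har⟩ := cls_spec hs ha ha0
    have hno' : ¬ Opp a t := fun h' => ho ((opp_cls hs ht ha ha0 (self_mem_cls ht) ht.2.1).mp h')
    have hn' := (nilp_iff h2 h3 ham ht).mpr hno'
    have h0 : a * t - t * a ≠ 0 := fun h' =>
      hne (bot_or_all h2 h3 hs ht ho ha ha0 (self_mem_cls ht) ht.2.1 (sub_eq_zero.mp h'))
    obtain ⟨S, hDm⟩ := br_spec h2 ham ht hn' h0
    have hmem : el (a * t - t * a) ∈ root G t := by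
      rw [← comm_el h2 h3 hs ht ho ha (self_mem_cls ht)]
      exact mul_mem ((Subgroup.mem_normalizer_iff.mp he.2 (el t)).mp (el_mem_root ht (self_mem_cls ht)))
        (inv_mem (el_mem_root ht (self_mem_cls ht)))
    obtain ⟨b, hb, e⟩ := (mem_root ht).mp hmem
    have hbD : b = a * t - t * a := (el_inj hDm.sq hb.1.1 e).symm
    obtain ⟨-, hbk, hbr⟩ := cls_spec ht hb (hbD ▸ h0)
    rw [hbD, S.range_br] at hbr
    rw [hbD, S.ker_br] at hbk
    have z1 : LinearMap.range a ⊓ LinearMap.ker t = ⊥ := by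
      rw [eq_bot_iff, ← S.inter]
      exact le_inf inf_le_left (le_sup_left.trans hbr.le)
    have e1 : LinearMap.range a ⊔ LinearMap.ker t = ⊤ := by
      rw [← S.ker_st, LinearMap.ker_eq_top]
      exact LinearMap.range_eq_bot.mp (S.range_st.trans z1)
    rw [z1, bot_sup_eq] at hbr
    have hle : LinearMap.range t ≤ LinearMap.ker a := hbr.ge.trans inf_le_right
    rw [e1, top_inf_eq, sup_eq_right.mpr hle] at hbk
    refine ham.2.1 (LinearMap.range_eq_bot.mp (le_antisymm ?_ bot_le))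
    rw [← z1]
    refine le_inf le_rfl ?_
    rw [← hbk]
    rintro _ ⟨v, rfl⟩
    exact DFunLike.congr_fun ham.sq v

end CfsgLib.QuadPair
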