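/-
The root subgroups of a quadratic pair: rank one pairs, components, quasisimplicity.
-/
import Mathlib
import Cfsg.Prelude.Def_RootSubgroups
import Cfsg.Prelude.Def_CaseTheorems
import Cfsg.Agent.Lib.QuadPair.Comm
import Cfsg.Agent.Lib.RootSub.MapHom
import Cfsg.Agent.Lib.RootSub.Perfect

set_option autoImplicit false
set_option linter.unusedSectionVars false

open Cfsg CfsgLib.RootSub.Unip CfsgLib.RootSub
open scoped commutatorElement

namespace CfsgLib.QuadPair

universe u v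

section unipotent

variable {k : Type u} [Field k] {M : Type v} [AddCommGroup M] [Module k M] [FiniteDimensional k M]

local notation "GLM" => LinearMap.GeneralLinearGroup k M

theorem unip_cj {L : Subgroup GLM} (hL : IsUnipotentOn L) (g : GLM) : IsUnipotentOn (conjBy L g) := by
  obtain ⟨n, hn⟩ := isUnip_iff.mp hL
  refine isUnip_iff.mpr ⟨n, fun l hl hlen => ?_⟩
  have h := hn (l.map fun x => g⁻¹ * x * g) (fun x hx => by
    obtain ⟨y, hy, rfl⟩ := List.mem_map.mp hx
    exact mem_cj.mp (hl y hy)) (by simp [hlen])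
  have e : ∀ l : List GLM, (l.map dm).prod * (g : Module.End k M) =
      (g : Module.End k M) * ((l.map fun x => g⁻¹ * x * g).map dm).prod := by
    intro l
    induction l with
    | nil => simp
    | cons a l ih =>
      have ea : dm a * (g : Module.End k M) = (g : Module.End k M) * dm (g⁻¹ * a * g) := by
        simp only [dm, Units.val_mul, sub_mul, mul_sub, one_mul, mul_one, ← mul_assoc, Units.mul_inv, one_mul]
      rw [List.map_cons, List.prod_cons, List.map_cons, List.map_cons, List.prod_cons, mul_assoc (dm a), ih,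
        ← mul_assoc (dm a), ea, mul_assoc (g : Module.End k M)]
  have h' := e l
  rw [h, mul_zero] at h'
  have := congrArg (fun r => r * ((g⁻¹ : GLM) : Module.End k M)) h'
  simpa [mul_assoc] using this

/-- The unipotent normal closure one step up. -/
theorem unip_up {L N P : Subgroup GLM} (hLN : L ≤ N) (hNP : N ≤ P) (hL : IsUnipotentOn L)
    (hn : N ≤ Subgroup.normalizer (L : Set GLM)) (hp : P ≤ Subgroup.normalizer (N : Set GLM)) :
    ∃ L' : Subgroup GLM, L ≤ L' ∧ L' ≤ N ∧ IsUnipotentOn L' ∧ P ≤ Subgroup.normalizer (L' : Set GLM) := by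
  let W : Set (Subgroup GLM) := {A | ∃ p ∈ P, A = conjBy L p}
  have hWN : ∀ A ∈ W, A ≤ N := by
    rintro A ⟨p, hp', rfl⟩
    exact (cj_mono hLN p).trans (cj_eq_self.mpr (hp hp')).le
  refine ⟨⨆ A ∈ W, A, ?_, iSup₂_le hWN, unip_family (G := P) (fun A hA => (hWN A hA).trans hNP) ?_ ?_, ?_⟩
  · exact le_iSup₂_of_le L ⟨1, one_mem P, (cj_one L).symm⟩ le_rfl
  · intro A hA B hB
    obtain ⟨p, hp', rfl⟩ := hA
    obtain ⟨q, hq', rfl⟩ := hB
    refine unip_sup (unip_cj hL p) (unip_cj hL q) fun x hx => ?_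
    have hxN : p⁻¹ * x * p ∈ N := by
      have h1 : x ∈ conjBy N p := (cj_eq_self.mpr (hp hp')).ge (hWN _ ⟨q, hq', rfl⟩ hx)
      exact mem_cj.mp h1
    refine cj_eq_self.mp ?_
    have h2 := congrArg (fun X => conjBy X p) (cj_eq_self.mpr (hn hxN))
    simp only [cj_cj] at h2
    rw [cj_cj]
    convert h2 using 2
    group
  · rintro A ⟨p, hp', rfl⟩ g hg
    exact ⟨g * p, mul_mem hg hp', cj_cj _ _ _⟩
  · intro g hg
    refine cj_eq_self.mp ?_
    have key : ∀ g ∈ P, conjBy (⨆ A ∈ W, A) g ≤ ⨆ A ∈ W, A := by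
      intro g hg
      rw [conjBy, Subgroup.map_iSup]
      refine iSup_le fun C => ?_
      rw [Subgroup.map_iSup]
      refine iSup_le fun hC => ?_
      obtain ⟨p, hp', rfl⟩ := hC
      exact le_iSup₂_of_le (conjBy L (g * p)) ⟨g * p, mul_mem hg hp', rfl⟩ (cj_cj L p g).le
    refine le_antisymm (key g hg) ?_
    have := cj_mono (key g⁻¹ (inv_mem hg)) g
    rwa [cj_cj, mul_inv_cancel, cj_one] at this

/-- An irreducible group has no non-trivial normal unipotent subgroup. -/
theorem unip_normal_bot {G L : Subgroup GLM} (hirr : IsIrreducibleFor G) (hL : IsUnipotentOn L)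
    (hn : G ≤ Subgroup.normalizer (L : Set GLM)) : L = ⊥ := by
  obtain ⟨⟨m0, hm0⟩, hirr⟩ := hirr
  have : Nontrivial M := ⟨⟨m0, 0, hm0⟩⟩
  obtain ⟨v, hv0, hv⟩ := fixed_vector hL
  let V : Submodule k M := ⨅ g ∈ L, LinearMap.ker (dm g)
  have memV : ∀ {w : M}, w ∈ V ↔ ∀ g ∈ L, dm g w = 0 := by
    intro w; simp only [V, Submodule.mem_iInf, LinearMap.mem_ker]
  have hinv : ∀ h ∈ G, ∀ w ∈ V, (h : Module.End k M) w ∈ V := by
    intro h hh w hw
    refine memV.mpr fun g hg => ?_
    have e : dm g * (h : Module.End k M) = (h : Module.End k M) * dm (h⁻¹ * g * h) := by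
      simp only [dm, Units.val_mul, sub_mul, mul_sub, one_mul, mul_one, ← mul_assoc, Units.mul_inv, one_mul]
    have h2' := DFunLike.congr_fun e w
    rw [Module.End.mul_apply, Module.End.mul_apply] at h2'
    rw [h2', memV.mp hw _ (((Subgroup.mem_normalizer_iff''.mp (hn hh)) g).mp hg), map_zero]
  rcases hirr V hinv with h | h
  · exact absurd ((Submodule.eq_bot_iff V).mp h v (memV.mpr hv)) hv0
  · refine (Subgroup.eq_bot_iff_forall _).mpr fun g hg => Units.ext ?_
    have : dm g = 0 := LinearMap.ext fun w => memV.mp (h ▸ Submodule.mem_top : w ∈ V) g hg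
    rwa [dm, sub_eq_zero] at this

end unipotent

variable {k : Type u} [Field k] {M : Type v} [AddCommGroup M] [Module k M] [FiniteDimensional k M]
variable {G : Subgroup (LinearMap.GeneralLinearGroup k M)}

local notation "End'" => Module.End k M
local notation "GLM" => LinearMap.GeneralLinearGroup k M

theorem pair_iff_opp (h2 : (2 : k) ≠ 0) (h3 : Nat.card k ≠ 3) (hG : IsQuadraticPair G) {s t : End'}
    (hs : Min G s) (ht : Min G t) : IsRankOnePair (root G s) (root G t) ↔ Opp s t := by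
  refine ⟨fun hp => ?_, fun ho => (special_pair h2 h3 hs ht ho).1⟩
  by_contra hno
  have hes := el_mem_root hs (self_mem_cls hs)
  have hes1 : el s ≠ 1 := fun h => hs.2.1 ((el_zero_iff hs.sq).mp h)
  have hn := (nilp_iff h2 h3 hs ht).mpr hno
  by_cases h0 : s * t - t * s = 0
  · have hc := bot_or_all h2 h3 hs ht hno (self_mem_cls hs) hs.2.1 (self_mem_cls ht) ht.2.1 (sub_eq_zero.mp h0)
    exact hes1 (eq_one_of_normalizes hp hes
      (Subgroup.centralizer_le_normalizer _ (Subgroup.commutator_eq_bot_iff_le_centralizer.mp hc hes)))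
  obtain ⟨y, hy, hy1, e⟩ := hp.cond_left (el s) hes hes1
  obtain ⟨b, hb, rfl⟩ := (mem_root ht).mp hy
  have hb0 : b ≠ 0 := fun h => hy1 (h ▸ el_zero)
  have h1 : (el b)⁻¹ * el s * el b ∈ conjBy (root G t) (el s)⁻¹ := by
    rw [← e]
    exact mem_cj.mpr (by simpa [mul_assoc] using hes)
  rw [mem_cj, inv_inv] at h1
  obtain ⟨c, hc, hce⟩ := (mem_root ht).mp h1
  have hN3 := nilAlg_cube h2 h3 hs ht hno
  have mN : ∀ a, (a ∈ cls G hs.sq ∨ a ∈ cls G ht.sq) → a ∈ nilAlg hs ht := by
    rintro a (ha | ha)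
    · exact Submodule.mem_sup_left (Submodule.mem_sup_left ha)
    · exact Submodule.mem_sup_left (Submodule.mem_sup_right ha)
  have z : ∀ {x y z : End'}, (x ∈ cls G hs.sq ∨ x ∈ cls G ht.sq) → (y ∈ cls G hs.sq ∨ y ∈ cls G ht.sq) →
      (z ∈ cls G hs.sq ∨ z ∈ cls G ht.sq) → x * y * z = 0 := fun hx hy hz => cls_triple h2 h3 hs ht hno hx hy hz
  have hS := Or.inl (b := s ∈ cls G ht.sq) (self_mem_cls hs)
  have hB : b ∈ cls G hs.sq ∨ b ∈ cls G ht.sq := Or.inr hb
  have hE := congrArg (fun g : GLM => (g : End')) hce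
  simp only [Units.val_mul, coe_el hb.1.1, coe_el hc.1.1, coe_el_inv hb.1.1, coe_el_inv hs.sq, coe_el hs.sq] at hE
  have hC : c = s + (s * b - b * s) := by
    have e2 : (1 + s) * ((1 - b) * (1 + s) * (1 + b)) * (1 - s) =
        1 + (s + (s * b - b * s)) - b * b - s * s - s * b * s - b * s * b := by
      have q1 := z hS hB hS
      have q2 := z hB hS hB
      have q3 : s * b * s * b = 0 := by rw [q1, zero_mul]
      have q4 : b * s * b * s = 0 := by rw [q2, zero_mul]
      noncomm_ring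
      simp only [← mul_assoc, hs.sq, hb.1.1, q1, q2, q3, q4, zero_mul, mul_zero, smul_zero, add_zero, zero_add]
    rw [e2, hb.1.1, hs.sq, z hS hB hS, z hB hS hB, sub_zero, sub_zero, sub_zero, sub_zero] at hE
    exact (add_left_cancel hE).symm
  have hcs : c * s - s * c = 0 := by
    rw [hC]
    have := z hS hB hS
    simp only [mul_add, add_mul, mul_sub, sub_mul, ← mul_assoc, hs.sq, zero_mul, this]
    have h4 : s * b * s = 0 := this
    have h5 : b * s * s = 0 := by rw [mul_assoc, hs.sq, mul_zero]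
    simp [h4, h5]
  have hc0 : c = 0 := by
    by_contra hc0
    have hn' := (nilp_iff h2 h3 hs (cls_spec ht hc hc0).1).mpr fun h =>
      hno ((opp_cls hs ht (self_mem_cls hs) hs.2.1 hc hc0).mp h)
    exact (br_cls h2 hs ht hn h0 (self_mem_cls hs) hc hn' hs.2.1 hc0).1 (by rw [← neg_sub, hcs, neg_zero])
  rw [hc0, el_zero] at hce
  have : el s = 1 := by
    have := congrArg (fun g => el b * ((el s)⁻¹ * g * el s) * (el b)⁻¹) hce
    simpa [mul_assoc] using this
  exact hes1 this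

/-- Rank one adjacency of root subgroups. -/
def RAdj (G : Subgroup (LinearMap.GeneralLinearGroup k M)) :=
  FAdj (quadraticRootSubgroups G)

theorem radj_of_opp (h2 : (2 : k) ≠ 0) (h3 : Nat.card k ≠ 3) {s t : End'} (hs : Min G s) (ht : Min G t)
    (ho : Opp s t) : RAdj G (root G s) (root G t) :=
  ⟨mem_roots.mpr ⟨s, hs, rfl⟩, mem_roots.mpr ⟨t, ht, rfl⟩, (special_pair h2 h3 hs ht ho).1⟩

theorem radj_symm {A B : Subgroup GLM} (h : RAdj G A B) : RAdj G B A := ⟨h.2.1, h.1, pair_symm h.2.2⟩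

theorem conn_symm {A B : Subgroup GLM} (h : Relation.ReflTransGen (RAdj G) A B) :
    Relation.ReflTransGen (RAdj G) B A := by
  induction h with
  | refl => exact .refl
  | tail _ hbc ih => exact Relation.ReflTransGen.head (radj_symm hbc) ih

theorem roots_cj {g : GLM} (hg : g ∈ G) {A : Subgroup GLM} (hA : A ∈ quadraticRootSubgroups G) :
    conjBy A g ∈ quadraticRootSubgroups G := by
  obtain ⟨s, hs, rfl⟩ := mem_roots.mp hA
  exact mem_roots.mpr ⟨_, hs.cjE hg, conj_root hg hs⟩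

theorem conn_cj {g : GLM} (hg : g ∈ G) {A B : Subgroup GLM} (h : Relation.ReflTransGen (RAdj G) A B) :
    Relation.ReflTransGen (RAdj G) (conjBy A g) (conjBy B g) := by
  induction h with
  | refl => exact .refl
  | tail _ hbc ih => exact ih.tail ⟨roots_cj hg hbc.1, roots_cj hg hbc.2.1, pair_cj hbc.2.2 g⟩

theorem conn_conj_left (h2 : (2 : k) ≠ 0) (h3 : Nat.card k ≠ 3) (hG : IsQuadraticPair G) {s t : End'}
    (hs : Min G s) (ht : Min G t) (hn : IsNilpotent (s * t)) (h0 : s * t - t * s ≠ 0) :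
    Relation.ReflTransGen (RAdj G) (root G s) (root G (s * t - t * s)) := by
  obtain ⟨-, hD⟩ := br_spec h2 hs ht hn h0
  set D := s * t - t * s with hDdef
  obtain ⟨x, hx, ho⟩ := exists_opp h2 h3 hG hD
  have last := radj_of_opp h2 h3 hx hD ho.symm
  by_cases hsx : Opp s x
  · exact (Relation.ReflTransGen.single (radj_of_opp h2 h3 hs hx hsx)).tail last
  obtain ⟨y, hy, hsy⟩ := exists_opp h2 h3 hG hs
  have hxsx : x * s * x = 0 := sts_zero h2 hx hs ((nilp_iff h2 h3 hx hs).mpr fun h => hsx h.symm)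
  have hysy : y * s * y ≠ 0 := sq_ne_of_opp h2 h3 hs hy hsy
  have hDx : x * D * x ≠ 0 := sq_ne_of_opp h2 h3 hD hx ho
  obtain ⟨c, hc, hyc⟩ : ∃ c : k, c ≠ 0 ∧ y * (s - c • D) * y ≠ 0 := by
    by_contra hcon
    push Not at hcon
    have e : ∀ c : k, y * (s - c • D) * y = y * s * y - c • (y * D * y) := fun c => by
      rw [mul_sub, sub_mul, mul_smul_comm, smul_mul_assoc]
    have h1 := hcon 1 one_ne_zero
    have hm := hcon (-1) (neg_ne_zero.mpr one_ne_zero)
    rw [e] at h1 hm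
    rw [one_smul, sub_eq_zero] at h1
    rw [neg_one_smul, sub_neg_eq_add, ← h1, ← two_smul k] at hm
    exact hysy ((smul_eq_zero.mp hm).resolve_left h2)
  have hg := el_mem (sc_smul ht.1 c)
  have hs' := hs.cjE hg
  have htst : t * s * t = 0 := sts_zero h2 ht hs (nilp_swap hn)
  have e : cjE (el (c • t)) s = s - c • D := by
    rw [cjE_el (smul_sq ht.sq c)]
    simp only [smul_mul_assoc, mul_smul_comm, smul_smul, htst, smul_zero, sub_zero, hDdef, smul_sub]
    abel
  have o1 : Opp (cjE (el (c • t)) s) x := by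
    by_contra hno
    have hz := sts_zero h2 hx hs' ((nilp_iff h2 h3 hx hs').mpr fun h => hno h.symm)
    rw [e, mul_sub, sub_mul, hxsx, zero_sub, mul_smul_comm, smul_mul_assoc, neg_eq_zero] at hz
    exact hDx ((smul_eq_zero.mp hz).resolve_left hc)
  have o2 : Opp y (cjE (el (c • t)) s) := by
    by_contra hno
    have hz := sts_zero h2 hy hs' ((nilp_iff h2 h3 hy hs').mpr hno)
    rw [e] at hz
    exact hyc hz
  exact (((Relation.ReflTransGen.single (radj_of_opp h2 h3 hs hy hsy)).tail (radj_of_opp h2 h3 hy hs' o2)).tail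
    (radj_of_opp h2 h3 hs' hx o1)).tail last

/-- The possibilities for two root subgroups. -/
theorem trichotomy (h2 : (2 : k) ≠ 0) (h3 : Nat.card k ≠ 3) (hG : IsQuadraticPair G) {A B : Subgroup GLM}
    (hA : A ∈ quadraticRootSubgroups G) (hB : B ∈ quadraticRootSubgroups G) :
    IsRankOnePair A B ∨ ⁅A, B⁆ = ⊥ ∨ (RootCommutatorCase (quadraticRootSubgroups G) A B ∧
      Relation.ReflTransGen (RAdj G) A ⁅A, B⁆ ∧ Relation.ReflTransGen (RAdj G) A B) := by
  obtain ⟨s, hs, rfl⟩ := mem_roots.mp hA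
  obtain ⟨t, ht, rfl⟩ := mem_roots.mp hB
  by_cases ho : Opp s t
  · exact Or.inl ((pair_iff_opp h2 h3 hG hs ht).mpr ho)
  refine Or.inr ?_
  by_cases hbot : ⁅root G s, root G t⁆ = ⊥
  · exact Or.inl hbot
  refine Or.inr ?_
  obtain h | ⟨hD, he, hf, -, hcl, -⟩ := unip_pair_spec h2 h3 hG hs ht ho
  · exact absurd h hbot
  have hn := (nilp_iff h2 h3 hs ht).mpr ho
  have h0 : s * t - t * s ≠ 0 := fun h =>
    hbot (bot_or_all h2 h3 hs ht ho (self_mem_cls hs) hs.2.1 (self_mem_cls ht) ht.2.1 (sub_eq_zero.mp h))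
  have h0' : t * s - s * t ≠ 0 := fun h => h0 (by rw [← neg_sub, h, neg_zero])
  obtain ⟨-, hDm⟩ := br_spec h2 hs ht hn h0
  have hroot : root G (t * s - s * t) = root G (s * t - t * s) :=
    root_eq_of_mem hDm (by rw [← neg_sub (s * t)]; exact neg_mem (self_mem_cls hDm)) h0'
  have hX : ⁅root G s, root G t⁆ = root G (s * t - t * s) := by
    obtain ⟨d, hd, hde⟩ := mem_roots.mp hD
    rw [hde]
    have hm : el (s * t - t * s) ∈ root G d := by
      rw [← hde, ← comm_el h2 h3 hs ht ho (self_mem_cls hs) (self_mem_cls ht)]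
      exact Subgroup.commutator_mem_commutator (el_mem_root hs (self_mem_cls hs)) (el_mem_root ht (self_mem_cls ht))
    obtain ⟨a, ha, hae⟩ := (mem_root hd).mp hm
    rw [el_inj hDm.sq ha.1.1 hae] at h0 ⊢
    exact (root_eq_of_mem hd ha h0).symm
  have cs := conn_conj_left h2 h3 hG hs ht hn h0
  have ct := conn_conj_left h2 h3 hG ht hs (nilp_swap hn) h0'
  rw [hroot] at ct
  refine ⟨⟨hD, fun c hc x hx => ?_, he, hf⟩, hX.symm ▸ cs, cs.trans (conn_symm ct)⟩
  have h1 := Subgroup.commutator_eq_bot_iff_le_centralizer.mp hcl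
    (Subgroup.commutator_mono le_sup_left le_sup_right hc)
  exact (Subgroup.mem_centralizer_iff.mp h1 x hx).symm

theorem exists_partner_root (h2 : (2 : k) ≠ 0) (h3 : Nat.card k ≠ 3) (hG : IsQuadraticPair G) {A : Subgroup GLM}
    (hA : A ∈ quadraticRootSubgroups G) : ∃ B, RAdj G A B := by
  obtain ⟨s, hs, rfl⟩ := mem_roots.mp hA
  obtain ⟨x, hx, ho⟩ := exists_opp h2 h3 hG hs
  exact ⟨_, radj_of_opp h2 h3 hs hx ho⟩

theorem conj_of_adj (h2 : (2 : k) ≠ 0) (h3 : Nat.card k ≠ 3) (hG : IsQuadraticPair G) {A B : Subgroup GLM}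
    (h : RAdj G A B) : ∃ g ∈ A ⊔ B, conjBy A g = B := by
  obtain ⟨hA, hB, hp⟩ := h
  obtain ⟨x, hx, hx1⟩ := exists_ne_one hp
  obtain ⟨y, hy, -, e⟩ := hp.cond_left x hx hx1
  refine ⟨x * y⁻¹, mul_mem (Subgroup.mem_sup_left hx) (Subgroup.mem_sup_right (inv_mem hy)), ?_⟩
  rw [← cj_cj, e, cj_cj, mul_inv_cancel, cj_one]

theorem el_mem_commutator (h2 : (2 : k) ≠ 0) (h3 : Nat.card k ≠ 3) {s t a : End'} (hs : Min G s) (ht : Min G t)
    (ho : Opp s t) (ha : a ∈ cls G hs.sq) : el a ∈ ⁅root G s ⊔ root G t, root G s ⊔ root G t⁆ := by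
  by_cases ha0 : a = 0
  · rw [ha0, el_zero]; exact one_mem _
  obtain ⟨ham, -, -⟩ := cls_spec hs ha ha0
  obtain ⟨O⟩ := opposed h2 h3 ham ht fun h =>
    (nilp_iff h2 h3 ham ht).mp h ((opp_cls hs ht ha ha0 (self_mem_cls ht) ht.2.1).mpr ho)
  let _ := O.fieldK
  let _ := O.algK
  have hle : O.Φ.range ≤ root G s ⊔ root G t := by
    rw [O.range_eq]
    refine (Subgroup.closure_le _).mpr ?_
    rintro _ (⟨c, rfl⟩ | ⟨c, rfl⟩)
    · exact Subgroup.mem_sup_left (el_mem_root hs (Submodule.smul_mem _ c ha))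
    · exact Subgroup.mem_sup_right (el_mem_root ht (Submodule.smul_mem _ c (self_mem_cls ht)))
  obtain ⟨l, hl, hl1⟩ := exists_sq_ne_one h2 h3
  let L : O.K := algebraMap k O.K l
  have hL : L ≠ 0 := by simpa [L] using hl
  have hL1 : L ^ 2 - 1 ≠ 0 := by
    rw [sub_ne_zero, ← map_pow, ← map_one (algebraMap k O.K)]
    exact fun h => hl1 ((algebraMap k O.K).injective h)
  have e : ⁅dia (Units.mk0 L hL), upm (1 / (L ^ 2 - 1))⁆ = upm 1 := by
    rw [commutatorElement_def, dia_conj, ← upm_neg, ← upm_add]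
    congr 1
    rw [Units.val_mk0]
    field_simp
    ring
  have h := Subgroup.commutator_mem_commutator (hle ⟨dia (Units.mk0 L hL), rfl⟩) (hle ⟨upm (1 / (L ^ 2 - 1)), rfl⟩)
  rwa [← map_commutatorElement, e, O.Φ_upm, O.σ_one] at h

/-- The images of `SL(2)`. -/
theorem psl_pair {k : Type u} [Field k] {M : Type u} [AddCommGroup M] [Module k M] [FiniteDimensional k M]
    {G : Subgroup (LinearMap.GeneralLinearGroup k M)} (h2 : (2 : k) ≠ 0) (h3 : Nat.card k ≠ 3)
    (hG : IsQuadraticPair G) {A B : Subgroup (LinearMap.GeneralLinearGroup k M)}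
    (hA : A ∈ quadraticRootSubgroups G) (hB : B ∈ quadraticRootSubgroups G) (hp : IsRankOnePair A B) :
    ∃ A₀ B₀ : Subgroup (LinearMap.GeneralLinearGroup k M), A₀ ≤ A ∧ B₀ ≤ B ∧
      ∃ (k₁ : Type u) (_ : Field k₁), 3 < ENat.card k₁ ∧ IsPSL2PairOver k₁ A₀ B₀ := by
  obtain ⟨s, hs, rfl⟩ := mem_roots.mp hA
  obtain ⟨t, ht, rfl⟩ := mem_roots.mp hB
  have ho := (pair_iff_opp h2 h3 hG hs ht).mp hp
  obtain ⟨O⟩ := opposed h2 h3 hs ht fun h => (nilp_iff h2 h3 hs ht).mp h ho
  let _ := O.fieldK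
  let _ := O.algK
  refine ⟨(upperUnipotentSL2 O.K).map O.Φ, (lowerUnipotentSL2 O.K).map O.Φ, ?_, ?_, O.K, O.fieldK, ?_, O.Φ, ?_, ?_,
    rfl, rfl⟩
  · rw [upperUnipotentSL2, MonoidHom.map_closure, Subgroup.closure_le]
    rintro _ ⟨g, ⟨h10, h00, h11⟩, rfl⟩
    have e : g = upm ((g : Matrix (Fin 2) (Fin 2) O.K) 0 1) :=
      sl_ext (by simp [upm_coe, h00]) (by simp [upm_coe]) (by simp [upm_coe, h10]) (by simp [upm_coe, h11])
    rw [e, O.Φ_upm]
    exact el_mem_root hs (O.σ_mem _)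
  · rw [lowerUnipotentSL2, MonoidHom.map_closure, Subgroup.closure_le]
    rintro _ ⟨g, ⟨h01, h00, h11⟩, rfl⟩
    have e : g = lom ((g : Matrix (Fin 2) (Fin 2) O.K) 1 0) :=
      sl_ext (by simp [lom_coe, h00]) (by simp [lom_coe, h01]) (by simp [lom_coe]) (by simp [lom_coe, h11])
    rw [e, O.Φ_lom]
    exact el_mem_root ht (O.τ_mem _)
  · rcases finite_or_infinite O.K with hf | hi
    · have : Finite k := Finite.of_injective _ (algebraMap k O.K).injective
      have hcard : 3 < Nat.card k := by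
        obtain ⟨l, hl, hl1⟩ := exists_sq_ne_one h2 h3
        classical
        let _ := Fintype.ofFinite k
        have hne : (1 : k) ≠ -1 := fun e => h2 (by linear_combination e)
        have hcd : ({0, 1, -1, l} : Finset k).card = 4 := by
          have : l ≠ 1 := fun e => hl1 (by rw [e, one_pow])
          have : l ≠ -1 := fun e => hl1 (by rw [e, neg_one_sq])
          simp [hne, hl.symm, this.symm, Ne.symm ‹l ≠ 1›]
        have := Finset.card_le_univ ({0, 1, -1, l} : Finset k)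
        rw [Nat.card_eq_fintype_card]
        omega
      have := lt_of_lt_of_le hcard (Nat.card_le_card_of_injective _ (algebraMap k O.K).injective)
      rw [ENat.card_eq_coe_natCard]
      exact_mod_cast this
    · rw [ENat.card_eq_top_of_infinite]; exact ENat.coe_lt_top 3
  · have htop : upperUnipotentSL2 O.K ⊔ lowerUnipotentSL2 O.K = ⊤ :=
      eq_top_of_root
        (fun x => Subgroup.mem_sup_left (Subgroup.subset_closure ⟨by simp [upm_coe], by simp [upm_coe], by simp [upm_coe]⟩))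
        (fun x => Subgroup.mem_sup_right (Subgroup.subset_closure ⟨by simp [lom_coe], by simp [lom_coe], by simp [lom_coe]⟩))
    rw [MonoidHom.range_eq_map, ← htop, Subgroup.map_sup]
  · rw [(MonoidHom.ker_eq_bot_iff _).mpr O.inj]; exact bot_le

end CfsgLib.QuadPair
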