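/-
Components of the graph of rank one pairs of root subgroups of a quadratic pair.
-/
import Mathlib
import Cfsg.Prelude.Def_RootSubgroups
import Cfsg.Prelude.Def_CaseTheorems
import Cfsg.Agent.Lib.QuadPair.Roots

set_option autoImplicit false
set_option linter.unusedSectionVars false

open Cfsg CfsgLib.RootSub.Unip CfsgLib.RootSub
open scoped commutatorElement

namespace CfsgLib.QuadPair

universe u v

variable {k : Type u} [Field k] {M : Type v} [AddCommGroup M] [Module k M] [FiniteDimensional k M]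
variable {G : Subgroup (LinearMap.GeneralLinearGroup k M)}

local notation "End'" => Module.End k M
local notation "GLM" => LinearMap.GeneralLinearGroup k M

/-- The component of a root subgroup. -/
def part (G : Subgroup (LinearMap.GeneralLinearGroup k M)) (A : Subgroup (LinearMap.GeneralLinearGroup k M)) :
    Set (Subgroup (LinearMap.GeneralLinearGroup k M)) :=
  componentOf (RAdj G) (quadraticRootSubgroups G) A

/-- The group generated by a set of subgroups. -/
def gen (P : Set (Subgroup (LinearMap.GeneralLinearGroup k M))) : Subgroup (LinearMap.GeneralLinearGroup k M) :=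
  ⨆ A ∈ P, A

theorem le_gen {P : Set (Subgroup GLM)} {A : Subgroup GLM} (h : A ∈ P) : A ≤ gen P := le_iSup₂_of_le A h le_rfl

theorem root_sub (G : Subgroup GLM) {A : Subgroup GLM} (hA : A ∈ quadraticRootSubgroups G) : A ≤ G := by
  obtain ⟨s, hs, rfl⟩ := mem_roots.mp hA
  exact root_le hs

theorem part_sub {A B : Subgroup GLM} (h : B ∈ part G A) : B ∈ quadraticRootSubgroups G := h.1

theorem self_part {A : Subgroup GLM} (hA : A ∈ quadraticRootSubgroups G) : A ∈ part G A := ⟨hA, .refl⟩

theorem part_eq {A B : Subgroup GLM} (h : B ∈ part G A) : part G B = part G A := by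
  ext C
  exact ⟨fun hC => ⟨hC.1, h.2.trans hC.2⟩, fun hC => ⟨hC.1, (conn_symm h.2).trans hC.2⟩⟩

theorem gen_part_le (A : Subgroup GLM) : gen (part G A) ≤ G := iSup₂_le fun _ hB => root_sub G hB.1

theorem gen_all_le (G : Subgroup GLM) : gen (quadraticRootSubgroups G) ≤ G := iSup₂_le fun _ hB => root_sub G hB

theorem commute_outside (h2 : (2 : k) ≠ 0) (h3 : Nat.card k ≠ 3) (hG : IsQuadraticPair G) {A B : Subgroup GLM}
    (hA : A ∈ quadraticRootSubgroups G) (hB : B ∈ quadraticRootSubgroups G) (h : B ∉ part G A) : ⁅A, B⁆ = ⊥ := by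
  rcases trichotomy h2 h3 hG hA hB with hp | hc | ⟨-, -, hconn⟩
  · exact absurd ⟨hB, Relation.ReflTransGen.single ⟨hA, hB, hp⟩⟩ h
  · exact hc
  · exact absurd ⟨hB, hconn⟩ h

theorem cj_gen (P : Set (Subgroup GLM)) (g : GLM) : conjBy (gen P) g = gen ((fun A => conjBy A g) '' P) := by
  rw [gen, gen, iSup_image, conjBy, Subgroup.map_iSup]
  exact iSup_congr fun A => Subgroup.map_iSup _ _

theorem part_cj {A : Subgroup GLM} {g : GLM} (hg : g ∈ G) :
    (fun B => conjBy B g) '' part G A = part G (conjBy A g) := by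
  ext C
  constructor
  · rintro ⟨B, hB, rfl⟩
    exact ⟨roots_cj hg hB.1, conn_cj hg hB.2⟩
  · intro hC
    refine ⟨conjBy C g⁻¹, ⟨roots_cj (inv_mem hg) hC.1, ?_⟩, by simp only [cj_cj, mul_inv_cancel, cj_one]⟩
    have := conn_cj (inv_mem hg) hC.2
    rwa [cj_cj, inv_mul_cancel, cj_one] at this

/-- Conjugation by a root element preserves every component. -/
theorem part_fixed (h2 : (2 : k) ≠ 0) (h3 : Nat.card k ≠ 3) (hG : IsQuadraticPair G) {A B : Subgroup GLM}
    (hA : A ∈ quadraticRootSubgroups G) (hB : B ∈ quadraticRootSubgroups G) {g : GLM} (hg : g ∈ B) :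
    part G (conjBy A g) = part G A := by
  by_cases h : B ∈ part G A
  · refine part_eq ⟨roots_cj (root_sub G hB hg) hA, ?_⟩
    have h1 := conn_cj (root_sub G hB hg) (conn_symm h.2)
    rw [cj_of_mem hg] at h1
    exact h.2.trans h1
  · have hc := commute_outside h2 h3 hG hA hB h
    rw [Subgroup.commutator_comm] at hc
    rw [cj_eq_self.mpr (Subgroup.centralizer_le_normalizer _
      (Subgroup.commutator_eq_bot_iff_le_centralizer.mp hc hg))]

theorem gen_normal (h2 : (2 : k) ≠ 0) (h3 : Nat.card k ≠ 3) (hG : IsQuadraticPair G) {A : Subgroup GLM}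
    (hA : A ∈ quadraticRootSubgroups G) :
    gen (quadraticRootSubgroups G) ≤ Subgroup.normalizer ((gen (part G A) : Subgroup GLM) : Set GLM) := by
  refine iSup₂_le fun B hB g hg => cj_eq_self.mp ?_
  rw [cj_gen, part_cj (root_sub G hB hg), part_fixed h2 h3 hG hA hB hg]

theorem gen_all_normal (G : Subgroup GLM) :
    G ≤ Subgroup.normalizer ((gen (quadraticRootSubgroups G) : Subgroup GLM) : Set GLM) := by
  intro g hg
  refine cj_eq_self.mp ?_
  rw [cj_gen]
  congr 1
  ext C
  constructor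
  · rintro ⟨B, hB, rfl⟩; exact roots_cj hg hB
  · intro hC
    exact ⟨conjBy C g⁻¹, roots_cj (inv_mem hg) hC, by simp only [cj_cj, mul_inv_cancel, cj_one]⟩

theorem gen_commute (h2 : (2 : k) ≠ 0) (h3 : Nat.card k ≠ 3) (hG : IsQuadraticPair G) {A B : Subgroup GLM}
    (h : part G A ≠ part G B) : ⁅gen (part G A), gen (part G B)⁆ = ⊥ := by
  rw [Subgroup.commutator_eq_bot_iff_le_centralizer]
  refine iSup₂_le fun C hC => ?_
  rw [Subgroup.le_centralizer_iff]
  refine iSup₂_le fun D hD => ?_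
  rw [← Subgroup.commutator_eq_bot_iff_le_centralizer]
  refine commute_outside h2 h3 hG hD.1 hC.1 fun hCD => h ?_
  rw [← part_eq hC, part_eq hCD, part_eq hD]

theorem parts_finite (h2 : (2 : k) ≠ 0) (h3 : Nat.card k ≠ 3) (hG : IsQuadraticPair G) :
    Finite {C : Set (Subgroup GLM) // ∃ A ∈ quadraticRootSubgroups G, C = part G A} := by
  classical
  have hch : ∀ C : {C : Set (Subgroup GLM) // ∃ A ∈ quadraticRootSubgroups G, C = part G A},
      ∃ s x : End', Min G s ∧ Min G x ∧ Opp s x ∧ root G s ∈ C.1 ∧ C.1 = part G (root G s) := by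
    rintro ⟨C, A, hA, rfl⟩
    obtain ⟨s, hs, rfl⟩ := mem_roots.mp hA
    obtain ⟨x, hx, ho⟩ := exists_opp h2 h3 hG hs
    exact ⟨s, x, hs, hx, ho, self_part hA, rfl⟩
  choose s x hs hx ho hmem hpart using hch
  have hxC : ∀ C, root G (x C) ∈ C.1 := fun C => by
    rw [hpart C]
    exact ⟨mem_roots.mpr ⟨_, hx C, rfl⟩, Relation.ReflTransGen.single (radj_of_opp h2 h3 (hs C) (hx C) (ho C))⟩
  have hli : LinearIndependent k s := by
    rw [linearIndependent_iff']
    intro T g hsum i hi
    have hcomm : ∀ j, j ≠ i → s j * x i = x i * s j := by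
      intro j hj
      have hne : part G (root G (s j)) ≠ part G (root G (x i)) := by
        rw [← hpart j, part_eq (A := root G (s i)) (by rw [← hpart i]; exact hxC i), ← hpart i]
        exact fun e => hj (Subtype.ext e)
      have hc := gen_commute h2 h3 hG hne
      have h1 := Subgroup.commutator_eq_bot_iff_le_centralizer.mp hc
        (le_gen (self_part (mem_roots.mpr ⟨_, hs j, rfl⟩)) (el_mem_root (hs j) (self_mem_cls (hs j))))
      have h4 := Subgroup.mem_centralizer_iff.mp h1 _
        (le_gen (self_part (mem_roots.mpr ⟨_, hx i, rfl⟩)) (el_mem_root (hx i) (self_mem_cls (hx i))))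
      have h5 := congrArg (fun g : GLM => (g : End')) h4
      simp only [Units.val_mul, coe_el (hs j).sq, coe_el (hx i).sq, mul_add, add_mul, one_mul, mul_one] at h5
      linear_combination (norm := abel) -h5
    have e : (∑ j ∈ T, g j • s j) * x i - x i * (∑ j ∈ T, g j • s j) = g i • (s i * x i - x i * s i) := by
      rw [Finset.sum_mul, Finset.mul_sum, ← Finset.sum_sub_distrib, Finset.sum_eq_single i]
      · rw [smul_mul_assoc, mul_smul_comm, smul_sub]
      · intro j _ hj
        rw [smul_mul_assoc, mul_smul_comm, hcomm j hj, sub_self]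
      · exact fun h => absurd hi h
    rw [hsum, zero_mul, mul_zero, sub_zero] at e
    refine (smul_eq_zero.mp e.symm).resolve_right fun h0 => ?_
    refine (nilp_iff h2 h3 (hs i) (hx i)).mp ⟨2, ?_⟩ (ho i)
    rw [pow_two, mul_assoc, ← mul_assoc (x i) (s i) (x i), ← sub_eq_zero.mp h0, mul_assoc (s i) (x i) (x i),
      (hx i).sq, mul_zero, mul_zero]
  exact hli.finite

theorem le_commutator (h2 : (2 : k) ≠ 0) (h3 : Nat.card k ≠ 3) (hG : IsQuadraticPair G) {A B : Subgroup GLM}
    (hB : B ∈ part G A) : B ≤ ⁅gen (part G A), gen (part G A)⁆ := by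
  obtain ⟨s, hs, rfl⟩ := mem_roots.mp hB.1
  obtain ⟨x, hx, ho⟩ := exists_opp h2 h3 hG hs
  have hxm : root G x ∈ part G A := ⟨mem_roots.mpr ⟨x, hx, rfl⟩, hB.2.tail (radj_of_opp h2 h3 hs hx ho)⟩
  intro y hy
  obtain ⟨a, ha, rfl⟩ := (mem_root hs).mp hy
  exact Subgroup.commutator_mono (sup_le (le_gen hB) (le_gen hxm)) (sup_le (le_gen hB) (le_gen hxm))
    (el_mem_commutator h2 h3 hs hx ho ha)

theorem conj_in_part (h2 : (2 : k) ≠ 0) (h3 : Nat.card k ≠ 3) (hG : IsQuadraticPair G) {A B : Subgroup GLM}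
    (hA : A ∈ quadraticRootSubgroups G) (hB : B ∈ part G A) : ∃ g ∈ gen (part G A), conjBy A g = B := by
  obtain ⟨hBr, hAB⟩ := hB
  induction hAB with
  | refl => exact ⟨1, one_mem _, cj_one A⟩
  | tail hAC hCB ih =>
    obtain ⟨g, hg, e⟩ := ih hCB.1
    obtain ⟨g', hg', e'⟩ := conj_of_adj h2 h3 hG hCB
    refine ⟨g' * g, mul_mem ?_ hg, by rw [← cj_cj, e, e']⟩
    exact (sup_le (le_gen (P := part G A) ⟨hCB.1, hAC⟩) (le_gen (P := part G A) ⟨hCB.2.1, hAC.tail hCB⟩)) hg'

/-- The normal subgroups of a component. -/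
theorem normal_dichotomy (h2 : (2 : k) ≠ 0) (h3 : Nat.card k ≠ 3) (hG : IsQuadraticPair G) {A₀ : Subgroup GLM}
    (hA₀ : A₀ ∈ quadraticRootSubgroups G) {N : Subgroup GLM} (hN : N ≤ gen (part G A₀))
    (hn : gen (part G A₀) ≤ Subgroup.normalizer (N : Set GLM)) :
    N = gen (part G A₀) ∨ ⁅N, gen (part G A₀)⁆ = ⊥ := by
  set U := gen (part G A₀) with hU
  by_cases hall : ∀ n ∈ N, ∀ A ∈ part G A₀, ⁅A, conjBy A n⁆ = ⊥
  · right
    rw [Subgroup.commutator_comm, Subgroup.commutator_eq_bot_iff_le_centralizer]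
    refine iSup₂_le fun A hA => ?_
    let W : Set (Subgroup GLM) := {B | ∃ n ∈ N, B = conjBy A n}
    have hWm : ∀ B ∈ W, B ∈ part G A₀ := by
      rintro B ⟨n, hn', rfl⟩
      have hnG : n ∈ G := gen_part_le A₀ (hN hn')
      have h1 : conjBy A n ∈ quadraticRootSubgroups G := roots_cj hnG hA.1
      by_contra hnot
      have h4 : part G A₀ ≠ part G (conjBy A n) := fun e => hnot (e ▸ self_part h1)
      have hc := gen_commute h2 h3 hG h4
      have hAn : conjBy A n ≤ U := (cj_mono (le_gen hA) n).trans (cj_of_mem (hN hn')).le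
      obtain ⟨t, ht, hte⟩ := mem_roots.mp h1
      obtain ⟨x, hx, ho⟩ := exists_opp h2 h3 hG ht
      have hxm : root G x ∈ part G (conjBy A n) := by
        rw [hte]
        exact ⟨mem_roots.mpr ⟨x, hx, rfl⟩, Relation.ReflTransGen.single (radj_of_opp h2 h3 ht hx ho)⟩
      have h5 : root G t ≤ Subgroup.centralizer (root G x : Set GLM) :=
        (hte ▸ hAn).trans ((Subgroup.commutator_eq_bot_iff_le_centralizer.mp hc).trans
          (Subgroup.centralizer_le (le_gen hxm)))
      exact ht.2.1 ((el_zero_iff ht.sq).mp (eq_one_of_normalizes (special_pair h2 h3 ht hx ho).1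
        (el_mem_root ht (self_mem_cls ht)) (Subgroup.centralizer_le_normalizer _ (h5 (el_mem_root ht (self_mem_cls ht))))))
    have hcommW : ∀ B ∈ W, ∀ C ∈ W, ⁅B, C⁆ = ⊥ := by
      rintro B ⟨m, hm, rfl⟩ C ⟨n, hn', rfl⟩
      have h1 := congrArg (fun X => conjBy X m) (hall (m⁻¹ * n) (mul_mem (inv_mem hm) hn') A hA)
      simp only [conjBy, Subgroup.map_commutator, Subgroup.map_bot] at h1
      change ⁅conjBy A m, conjBy (conjBy A (m⁻¹ * n)) m⁆ = ⊥ at h1
      rwa [cj_cj, mul_inv_cancel_left] at h1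
    let B := ⨆ C ∈ W, C
    have hBc : ∀ C ∈ W, B ≤ Subgroup.centralizer (C : Set GLM) := fun C hC =>
      iSup₂_le fun D hD => Subgroup.commutator_eq_bot_iff_le_centralizer.mp (hcommW D hD C hC)
    have hBu : IsUnipotentOn B := by
      refine unip_family (G := B) (fun C hC => le_iSup₂_of_le C hC le_rfl) ?_ ?_
      · intro C hC D hD
        obtain ⟨c, hc, rfl⟩ := mem_roots.mp (hWm C hC).1
        obtain ⟨d, hd, rfl⟩ := mem_roots.mp (hWm D hD).1
        refine unip_of_not_opp h2 h3 hc hd fun ho => ?_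
        exact hc.2.1 ((el_zero_iff hc.sq).mp (eq_one_of_normalizes (special_pair h2 h3 hc hd ho).1
          (el_mem_root hc (self_mem_cls hc)) (Subgroup.centralizer_le_normalizer _
            (Subgroup.commutator_eq_bot_iff_le_centralizer.mp (hcommW _ hC _ hD)
              (el_mem_root hc (self_mem_cls hc))))))
      · intro C hC g hg
        rw [cj_eq_self.mpr (Subgroup.centralizer_le_normalizer _ (hBc C hC hg))]
        exact hC
    have hNB : N ≤ Subgroup.normalizer ((B : Subgroup GLM) : Set GLM) := by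
      intro g hg
      refine cj_eq_self.mp ?_
      have key : ∀ g ∈ N, conjBy B g ≤ B := by
        intro g hg
        rw [conjBy, Subgroup.map_iSup]
        refine iSup_le fun C => ?_
        rw [Subgroup.map_iSup]
        refine iSup_le fun hC => ?_
        obtain ⟨n, hn', rfl⟩ := hC
        exact le_iSup₂_of_le (conjBy A (g * n)) ⟨g * n, mul_mem hg hn', rfl⟩ (cj_cj A n g).le
      refine le_antisymm (key g hg) ?_
      have := cj_mono (key g⁻¹ (inv_mem hg)) g
      rwa [cj_cj, mul_inv_cancel, cj_one] at this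
    have hLn : N ≤ Subgroup.normalizer ((N ⊓ B : Subgroup GLM) : Set GLM) := fun g hg => cj_eq_self.mp <| by
      rw [conjBy, Subgroup.map_inf _ _ _ (MulAut.conj g).injective]
      show conjBy N g ⊓ conjBy B g = N ⊓ B
      rw [cj_of_mem hg, cj_eq_self.mpr (hNB hg)]
    obtain ⟨L1, hL1, hL1U, hu1, hn1⟩ := unip_up inf_le_left hN (unip_mono inf_le_right hBu) hLn hn
    have hAall : U ≤ gen (quadraticRootSubgroups G) := iSup₂_le fun C hC => le_gen hC.1
    obtain ⟨L2, hL2, hL2U, hu2, hn2⟩ := unip_up (hL1U.trans hN) hAall hu1 hn1 (gen_normal h2 h3 hG hA₀)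
    obtain ⟨L3, hL3, -, hu3, hn3⟩ := unip_up (hL2U.trans hAall) (gen_all_le G) hu2 hn2 (gen_all_normal G)
    have hL0 : L3 = ⊥ := unip_normal_bot hG.1 hu3 hn3
    intro y hy
    rw [Subgroup.mem_centralizer_iff]
    intro n hn'
    have hy' : y ∈ B := Subgroup.mem_iSup_of_mem A (Subgroup.mem_iSup_of_mem ⟨1, one_mem N, (cj_one A).symm⟩ hy)
    have hm : n * y * n⁻¹ * y⁻¹ ∈ N ⊓ B := by
      refine Subgroup.mem_inf.mpr ⟨?_, mul_mem ((Subgroup.mem_normalizer_iff.mp (hNB hn') y).mp hy') (inv_mem hy')⟩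
      rw [mul_assoc, mul_assoc, ← mul_assoc y]
      exact mul_mem hn' ((Subgroup.mem_normalizer_iff.mp (hn (le_gen hA hy)) n⁻¹).mp (inv_mem hn'))
    have h1 := hL3 (hL2 (hL1 hm))
    rw [hL0, Subgroup.mem_bot, mul_inv_eq_one, mul_inv_eq_iff_eq_mul] at h1
    exact h1
  · left
    push Not at hall
    obtain ⟨n, hn', A, hA, hne⟩ := hall
    have hAn : conjBy A n ∈ quadraticRootSubgroups G := roots_cj (gen_part_le A₀ (hN hn')) hA.1
    obtain ⟨C, hC, hCN⟩ : ∃ C ∈ part G A₀, C ≤ N := by
      rcases trichotomy h2 h3 hG hA.1 hAn with hp | hc | ⟨hcase, hconn, -⟩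
      · refine ⟨A, hA, ?_⟩
        obtain ⟨s, hs, hse⟩ := mem_roots.mp hA.1
        obtain ⟨t, ht, hte⟩ := mem_roots.mp hAn
        rw [hte, hse] at hp
        have ho := (pair_iff_opp h2 h3 hG hs ht).mp hp
        have hnormal : (N.subgroupOf U).Normal := (Subgroup.normal_subgroupOf_iff_le_normalizer hN).mpr hn
        let π := QuotientGroup.mk' (N.subgroupOf U)
        have hsU : root G s ≤ U := hse ▸ le_gen hA
        have htU : root G t ≤ U := hte ▸ (cj_mono (le_gen hA) n).trans (cj_of_mem (hN hn')).le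
        have himg : ((root G s).subgroupOf U ⊔ (root G t).subgroupOf U).map π ≤ ((root G s).subgroupOf U).map π := by
          rw [Subgroup.map_sup]
          refine sup_le le_rfl ?_
          rintro _ ⟨⟨y, hyU⟩, hy, rfl⟩
          have hy' : y ∈ conjBy A n := hte ▸ hy
          rw [mem_cj, hse] at hy'
          refine ⟨⟨n⁻¹ * y * n, hsU hy'⟩, hy', ?_⟩
          show (QuotientGroup.mk (⟨n⁻¹ * y * n, hsU hy'⟩ : U) : U ⧸ N.subgroupOf U) = QuotientGroup.mk ⟨y, hyU⟩
          refine (QuotientGroup.eq).mpr (Subgroup.mem_subgroupOf.mpr ?_)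
          show (n⁻¹ * y * n)⁻¹ * y ∈ N
          rw [show (n⁻¹ * y * n)⁻¹ * y = n⁻¹ * (y⁻¹ * n * y) by group]
          refine mul_mem (inv_mem hn') ?_
          exact (Subgroup.mem_normalizer_iff''.mp (hn hyU) n).mp hn'
        intro x hx
        have hxc : x ∈ ⁅root G s ⊔ root G t, root G s ⊔ root G t⁆ := by
          rw [hse] at hx
          obtain ⟨a, ha, rfl⟩ := (mem_root hs).mp hx
          exact el_mem_commutator h2 h3 hs ht ho ha
        have hle : ⁅root G s ⊔ root G t, root G s ⊔ root G t⁆ ≤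
            (⁅(root G s).subgroupOf U ⊔ (root G t).subgroupOf U, (root G s).subgroupOf U ⊔ (root G t).subgroupOf U⁆).map U.subtype := by
          rw [Subgroup.map_commutator, Subgroup.map_sup, Subgroup.map_subgroupOf_eq_of_le hsU,
            Subgroup.map_subgroupOf_eq_of_le htU]
        obtain ⟨y, hy, rfl⟩ := hle hxc
        have h1 : π y ∈ ⁅((root G s).subgroupOf U).map π, ((root G s).subgroupOf U).map π⁆ :=
          Subgroup.commutator_mono himg himg (by
            rw [← Subgroup.map_commutator]; exact Subgroup.mem_map_of_mem π hy)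
        have h0 : ⁅((root G s).subgroupOf U).map π, ((root G s).subgroupOf U).map π⁆ = ⊥ := by
          rw [← Subgroup.map_commutator, Subgroup.map_eq_bot_iff]
          refine le_trans ?_ bot_le
          rw [le_bot_iff, Subgroup.commutator_eq_bot_iff_le_centralizer]
          intro a ha
          rw [Subgroup.mem_centralizer_iff]
          intro b hb
          refine Subtype.ext ?_
          show b.1 * a.1 = a.1 * b.1
          exact congrArg Subtype.val ((root_comm hs).is_comm.comm (⟨b.1, hb⟩ : root G s) ⟨a.1, ha⟩)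
        rw [h0, Subgroup.mem_bot] at h1
        exact Subgroup.mem_subgroupOf.mp ((QuotientGroup.eq_one_iff y).mp h1)
      · exact absurd hc hne
      · refine ⟨⁅A, conjBy A n⁆, ⟨hcase.1, hA.2.trans hconn⟩, Subgroup.commutator_le.mpr fun a ha b hb => ?_⟩
        have hb' := mem_cj.mp hb
        obtain ⟨a', ha', rfl⟩ : ∃ a' ∈ A, n * a' * n⁻¹ = b := ⟨_, hb', by group⟩
        have hc : a * a' = a' * a := by
          obtain ⟨s, hs, rfl⟩ := mem_roots.mp hA.1
          exact congrArg Subtype.val ((root_comm hs).is_comm.comm ⟨a, ha⟩ ⟨a', ha'⟩)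
        have hmem : n * a' * n⁻¹ * a'⁻¹ ∈ N := by
          rw [mul_assoc, mul_assoc, ← mul_assoc a']
          exact mul_mem hn' ((Subgroup.mem_normalizer_iff.mp (hn (le_gen hA ha')) n⁻¹).mp (inv_mem hn'))
        have e : ⁅a, n * a' * n⁻¹⁆ =
            a * (n * a' * n⁻¹ * a'⁻¹) * a⁻¹ * (n * a' * n⁻¹ * a'⁻¹)⁻¹ := by
          rw [commutatorElement_def]
          have h1 : a' * a⁻¹ = a⁻¹ * a' := by
            rw [eq_inv_mul_iff_mul_eq, ← mul_assoc, hc, mul_inv_cancel_right]
          calc a * (n * a' * n⁻¹) * a⁻¹ * (n * a' * n⁻¹)⁻¹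
              = a * (n * a' * n⁻¹ * a'⁻¹) * (a' * a⁻¹) * a'⁻¹ * (n * a' * n⁻¹ * a'⁻¹)⁻¹ := by group
            _ = _ := by rw [h1]; group
        rw [e]
        exact mul_mem ((Subgroup.mem_normalizer_iff.mp (hn (le_gen hA ha)) _).mp hmem) (inv_mem hmem)
    refine le_antisymm hN (iSup₂_le fun B hB => ?_)
    have hpc := part_eq hC
    obtain ⟨g, hg, rfl⟩ := conj_in_part h2 h3 hG hC.1 (hpc.symm ▸ hB)
    rw [hpc] at hg
    exact (cj_mono hCN g).trans (cj_eq_self.mpr (hn hg)).le

theorem gen_quasisimple (h2 : (2 : k) ≠ 0) (h3 : Nat.card k ≠ 3) (hG : IsQuadraticPair G) {A₀ : Subgroup GLM}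
    (hA₀ : A₀ ∈ quadraticRootSubgroups G) : IsQuasisimple ↥(gen (part G A₀)) := by
  set U := gen (part G A₀) with hU
  have hperf : commutator ↥U = ⊤ := by
    refine Subgroup.map_injective U.subtype_injective ?_
    rw [commutator_def, Subgroup.map_commutator, ← MonoidHom.range_eq_map, U.range_subtype]
    exact le_antisymm U.commutator_le_self (iSup₂_le fun B hB => le_commutator h2 h3 hG hB)
  have hnc : ¬ Subgroup.center ↥U = ⊤ := by
    intro h
    have h1 : commutator ↥U = ⊥ := by
      rw [commutator_def, Subgroup.commutator_eq_bot_iff_le_centralizer]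
      intro x _
      rw [Subgroup.mem_centralizer_iff]
      exact fun y _ => Subgroup.mem_center_iff.mp (h ▸ Subgroup.mem_top x) y
    rw [hperf] at h1
    obtain ⟨s, hs, rfl⟩ := mem_roots.mp hA₀
    have hm : (⟨el s, le_gen (self_part hA₀) (el_mem_root hs (self_mem_cls hs))⟩ : U) ∈ (⊥ : Subgroup U) :=
      h1 ▸ Subgroup.mem_top _
    exact hs.2.1 ((el_zero_iff hs.sq).mp (congrArg Subtype.val (Subgroup.mem_bot.mp hm)))
  have hdich : ∀ N : Subgroup ↥U, N.Normal → N ≤ Subgroup.center ↥U ∨ N = ⊤ := by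
    intro N hN
    have hn : U ≤ Subgroup.normalizer ((N.map U.subtype : Subgroup GLM) : Set GLM) := by
      intro g hg
      refine cj_eq_self.mp ?_
      have hcj : conjBy N (⟨g, hg⟩ : U) = N :=
        cj_eq_self.mpr ((Subgroup.normalizer_eq_top_iff.mpr hN) ▸ Subgroup.mem_top _)
      have h1 := map_cj U.subtype N (⟨g, hg⟩ : U)
      rw [hcj] at h1
      exact h1.symm
    rcases normal_dichotomy h2 h3 hG hA₀ (Subgroup.map_subtype_le N) hn with h | h
    · refine Or.inr (Subgroup.map_injective U.subtype_injective ?_)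
      rw [h, ← MonoidHom.range_eq_map, U.range_subtype]
    · refine Or.inl fun x hx => Subgroup.mem_center_iff.mpr fun y => ?_
      have h1 := Subgroup.commutator_eq_bot_iff_le_centralizer.mp h (Subgroup.mem_map_of_mem U.subtype hx)
      exact Subtype.ext (Subgroup.mem_centralizer_iff.mp h1 y y.2)
  have hq := quasisimple_of_normal_dichotomy (⊤ : Subgroup ↥U) rfl hperf hnc hdich
  obtain ⟨hp, hsimple⟩ := hq
  let e : (⊤ : Subgroup ↥U) ≃* ↥U := Subgroup.topEquiv
  refine ⟨Group.isPerfect_def.mpr hperf, ?_⟩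
  have hmap : (Subgroup.center ↥(⊤ : Subgroup ↥U)).map e.toMonoidHom = Subgroup.center ↥U := by
    ext x
    constructor
    · rintro ⟨y, hy, rfl⟩
      exact Subgroup.mem_center_iff.mpr fun z =>
        congrArg e (Subgroup.mem_center_iff.mp hy (e.symm z))
    · intro hx
      exact ⟨e.symm x, Subgroup.mem_center_iff.mpr fun z =>
        Subtype.ext (Subgroup.mem_center_iff.mp hx z), rfl⟩
  exact (QuotientGroup.congr _ _ e hmap).symm.isSimpleGroup

/-- Sets of root subgroups closed under the three cases are root subgroup sets of the group they generate. -/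
theorem root_set (h2 : (2 : k) ≠ 0) (h3 : Nat.card k ≠ 3) (hG : IsQuadraticPair G) {P : Set (Subgroup GLM)}
    (hP : P ⊆ quadraticRootSubgroups G) (hconj : ∀ A ∈ P, ∀ g ∈ gen P, conjBy A g ∈ P)
    (hclosed : ∀ A ∈ P, ∀ B, B ∈ quadraticRootSubgroups G → Relation.ReflTransGen (RAdj G) A B → B ∈ P) :
    IsRootSubgroupSet ((fun A : Subgroup GLM => A.subgroupOf (gen P)) '' P) := by
  have hmap : ∀ A ∈ P, (A.subgroupOf (gen P)).map (gen P).subtype = A := fun A hA =>
    Subgroup.map_subgroupOf_eq_of_le (le_gen hA)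
  have hinj := (gen P).subtype_injective
  have himg : (fun X : Subgroup (gen P) => X.map (gen P).subtype) '' ((fun A : Subgroup GLM => A.subgroupOf (gen P)) '' P) = P := by
    rw [Set.image_image]
    exact (Set.image_congr fun A hA => hmap A hA).trans (Set.image_id' P)
  refine ⟨?_, ?_, ?_, ?_, ?_⟩
  · rintro _ ⟨A, hA, rfl⟩
    obtain ⟨s, hs, rfl⟩ := mem_roots.mp (hP hA)
    refine ⟨⟨fun x y => Subtype.ext (Subtype.ext ?_)⟩⟩
    show x.1.1 * y.1.1 = y.1.1 * x.1.1
    exact congrArg Subtype.val ((root_comm hs).is_comm.comm (⟨x.1.1, x.2⟩ : root G s) ⟨y.1.1, y.2⟩)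
  · rintro _ ⟨A, hA, rfl⟩ h
    obtain ⟨s, hs, rfl⟩ := mem_roots.mp (hP hA)
    apply root_ne_bot hs
    rw [← hmap _ hA]
    show Subgroup.map _ ((root G s).subgroupOf (gen P)) = ⊥
    rw [show (root G s).subgroupOf (gen P) = ⊥ from h, Subgroup.map_bot]
  · refine Subgroup.map_injective hinj ?_
    rw [iSup_image, Subgroup.map_iSup, ← MonoidHom.range_eq_map, Subgroup.range_subtype]
    refine (iSup_congr fun A => ?_).trans rfl
    rw [Subgroup.map_iSup]
    exact iSup_congr fun hA => hmap A hA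
  · rintro _ ⟨A, hA, rfl⟩ g
    refine ⟨conjBy A g, hconj A hA g g.2, Subgroup.map_injective hinj ?_⟩
    rw [hmap _ (hconj A hA g g.2), map_cj, hmap A hA]
    rfl
  · rintro _ ⟨A, hA, rfl⟩ _ ⟨B, hB, rfl⟩
    rcases trichotomy h2 h3 hG (hP hA) (hP hB) with hp | hc | ⟨hk, hconn, -⟩
    · refine Or.inr (Or.inl ((pair_map_iff _ hinj).mp ?_))
      rwa [hmap A hA, hmap B hB]
    · refine Or.inl (Subgroup.map_injective hinj ?_)
      rw [Subgroup.map_commutator, hmap A hA, hmap B hB, Subgroup.map_bot, hc]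
    · refine Or.inr (Or.inr ((case_map_iff _ hinj).mp ?_))
      rw [himg, hmap A hA, hmap B hB]
      exact ⟨hclosed A hA _ hk.1 hconn, hk.2⟩

end CfsgLib.QuadPair
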