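/-
Quadratic elements that are not of least rank.
-/
import Mathlib
import Cfsg.Prelude.Def_RootSubgroups
import Cfsg.Agent.Lib.QuadPair.Parts

set_option autoImplicit false
set_option linter.unusedSectionVars false

open Cfsg CfsgLib.RootSub.Unip CfsgLib.RootSub
open scoped commutatorElement

namespace CfsgLib.QuadPair

universe u v

theorem split_pair {k : Type u} [Field k] {M : Type v} [AddCommGroup M] [Module k M] [FiniteDimensional k M]
    {G : Subgroup (LinearMap.GeneralLinearGroup k M)} (h2 : (2 : k) ≠ 0) (h3 : Nat.card k ≠ 3)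
    {s t : Module.End k M} (hs : Min G s) (ht : t ∈ Sc G) (hn : ¬ IsNilpotent (s * t)) :
    ∃ m, Min G m ∧ t - m ∈ Sc G ∧ rk (t - m) < rk t ∧ (t - m) * m = 0 ∧ m * (t - m) = 0 := by
  classical
  set z := s * t + t * s with hz
  obtain ⟨n, hc, hn1⟩ := ((LinearMap.eventually_isCompl_ker_pow_range_pow z).and
    (Filter.eventually_ge_atTop 1)).exists
  replace hc := hc.symm
  set q := LinearMap.range (z ^ n) with hq
  set p := LinearMap.ker (z ^ n) with hp
  have cs : Commute s z := by
    show s * z = z * s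
    rw [hz, mul_add, add_mul, ← mul_assoc, hs.sq, zero_mul, zero_add, mul_assoc t s s, hs.sq, mul_zero, add_zero,
      mul_assoc]
  have ct : Commute t z := by
    show t * z = z * t
    rw [hz, mul_add, add_mul, ← mul_assoc t t s, ht.1, zero_mul, add_zero, mul_assoc s t t, ht.1, mul_zero,
      zero_add, mul_assoc]
  have cz : Commute z z := Commute.refl z
  let S1 : Module.End k q := s.restrict (map_range_of_comm cs n)
  let T1 : Module.End k q := t.restrict (map_range_of_comm ct n)
  let Z1 : Module.End k q := z.restrict (map_range_of_comm cz n)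
  have S1_apply : ∀ v : q, (S1 v : M) = s v := fun v => rfl
  have T1_apply : ∀ v : q, (T1 v : M) = t v := fun v => rfl
  have hST : S1 * T1 + T1 * S1 = Z1 := LinearMap.ext fun v => Subtype.ext (by rfl)
  have hS1 : S1 * S1 = 0 := LinearMap.ext fun v => Subtype.ext (DFunLike.congr_fun hs.sq (v : M))
  have hT1 : T1 * T1 = 0 := LinearMap.ext fun v => Subtype.ext (DFunLike.congr_fun ht.1 (v : M))
  have hqp : ∀ v : M, v ∈ q → v ∈ p → v = 0 := fun v h1 h2' => by
    have : v ∈ q ⊓ p := ⟨h1, h2'⟩
    rwa [hc.inf_eq_bot, Submodule.mem_bot] at this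
  have zker : LinearMap.ker z ≤ p := fun v hv => by
    obtain ⟨i, rfl⟩ : ∃ i, n = i + 1 := ⟨n - 1, by omega⟩
    rw [hp, LinearMap.mem_ker, pow_succ, Module.End.mul_apply, LinearMap.mem_ker.mp hv, map_zero]
  have hZ1 : Function.Injective Z1 := by
    rw [← LinearMap.ker_eq_bot, Submodule.eq_bot_iff]
    intro v hv
    have h1 : z (v : M) = 0 := congrArg Subtype.val (LinearMap.mem_ker.mp hv)
    exact Subtype.ext (hqp _ v.2 (zker h1))
  have hnt : Nontrivial q := by
    rw [Submodule.nontrivial_iff_ne_bot]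
    intro h
    exact hn (nilp_of_anti hs.sq ht.1 (LinearMap.range_eq_bot.mp h))
  have hint : IsIntegral k Z1 := Algebra.IsIntegral.isIntegral Z1
  let ι : AdjoinRoot (minpoly k Z1) →ₐ[k] Module.End k q :=
    Ideal.Quotient.liftₐ (Ideal.span {minpoly k Z1}) (Polynomial.aeval Z1) (fun a ha => by
      obtain ⟨b, rfl⟩ := Ideal.mem_span_singleton.mp ha
      rw [map_mul, minpoly.aeval, zero_mul])
  let pb := AdjoinRoot.powerBasis (minpoly.ne_zero hint)
  have ιmk : ∀ P, ι (AdjoinRoot.mk (minpoly k Z1) P) = Polynomial.aeval Z1 P := fun P => rfl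
  have ιinj : Function.Injective ι := by
    rw [injective_iff_map_eq_zero]
    intro x hx
    obtain ⟨P, rfl⟩ := AdjoinRoot.mk_surjective x
    rw [ιmk] at hx
    exact AdjoinRoot.mk_eq_zero.mpr (minpoly.dvd k Z1 hx)
  have ιroot : ι pb.gen = Z1 := by
    show ι (AdjoinRoot.mk _ Polynomial.X) = Z1
    rw [ιmk, Polynomial.aeval_X]
  have := pb.finite
  have hgen : IsUnit pb.gen := by
    have hi : Function.Injective (LinearMap.mulLeft k pb.gen) := by
      intro x y h
      refine ιinj (LinearMap.ext fun v => hZ1 ?_)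
      have h1 := congrArg ι h
      simp only [LinearMap.mulLeft_apply, map_mul, ιroot] at h1
      exact DFunLike.congr_fun h1 v
    obtain ⟨b, hb⟩ := LinearMap.injective_iff_surjective.mp hi 1
    exact IsUnit.of_mul_eq_one b hb
  have comm : ∀ f : Module.End k q, Commute Z1 f → ∀ x, Commute (ι x) f := by
    intro f hf x
    obtain ⟨P, rfl⟩ := AdjoinRoot.mk_surjective x
    rw [ιmk]
    induction P using Polynomial.induction_on' with
    | add a b ha hb => rw [map_add]; exact ha.add_left hb
    | monomial i c =>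
      rw [Polynomial.aeval_monomial, ← Algebra.smul_def]
      exact (hf.pow_left i).smul_left c
  let D : MData k (AdjoinRoot (minpoly k Z1)) (Module.End k q) :=
    { ι := ι, S := S1, T := T1, Z := hgen.unit, inj := ιinj, hS := hS1, hT := hT1
      hST := by rw [hST, IsUnit.unit_spec, ιroot]
      cS := comm S1 (LinearMap.ext fun v => Subtype.ext (DFunLike.congr_fun cs.eq (v : M)).symm)
      cT := comm T1 (LinearMap.ext fun v => Subtype.ext (DFunLike.congr_fun ct.eq (v : M)).symm) }
  -- endomorphisms of `q`, extended by zero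
  let lj : Module.End k q →ₗ[k] Module.End k M :=
    { toFun := fun X => q.subtype ∘ₗ X ∘ₗ q.projectionOnto p hc
      map_add' := fun X Y => LinearMap.ext fun v => by simp
      map_smul' := fun c X => LinearMap.ext fun v => by simp }
  have lj_q : ∀ (X : Module.End k q) (v : q), lj X v = X v := fun X v => by
    show ((q.subtype ∘ₗ X ∘ₗ q.projectionOnto p hc) (v : M)) = _
    simp
  have lj_p : ∀ (X : Module.End k q) (v : M), v ∈ p → lj X v = 0 := fun X v hv => by
    have h0 : q.projectionOnto p hc v = 0 := by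
      rw [show v = ((⟨v, hv⟩ : p) : M) from rfl, Submodule.projectionOnto_apply_right]
    show ((q.subtype ∘ₗ X ∘ₗ q.projectionOnto p hc) v) = _
    simp [h0]
  have lj_mem : ∀ (X : Module.End k q) (v : M), lj X v ∈ q := fun X v => (X _).2
  have lj_sq : ∀ X : Module.End k q, X * X = 0 → lj X * lj X = 0 := fun X hX =>
    ext_compl hc (fun v => by
      rw [Module.End.mul_apply, lj_q, lj_q, ← Module.End.mul_apply, hX]; rfl)
      fun v hv => by rw [Module.End.mul_apply, lj_p X v hv, map_zero]; rfl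
  let Φ : Matrix.SpecialLinearGroup (Fin 2) (AdjoinRoot (minpoly k Z1)) →* LinearMap.GeneralLinearGroup k M :=
    ((extEnd hc).comp D.mat).toHomUnits
  have Φ_q : ∀ g (v : q), (Φ g : Module.End k M) v = D.mat g v := fun g v => extEnd_left hc _ v
  have Φ_p : ∀ g (v : M), v ∈ p → (Φ g : Module.End k M) v = v := fun g v hv => extEnd_right hc _ hv
  let σ : AdjoinRoot (minpoly k Z1) →ₗ[k] Module.End k M :=
    lj.comp ((LinearMap.mulRight k S1).comp ι.toLinearMap)
  let τ' : AdjoinRoot (minpoly k Z1) →ₗ[k] Module.End k M :=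
    lj.comp ((LinearMap.mulRight k T1).comp ι.toLinearMap)
  have sq_of : ∀ {X Y : Module.End k q}, Commute X Y → Y * Y = 0 → X * Y * (X * Y) = 0 := by
    intro X Y hc' hY
    rw [← mul_assoc, mul_assoc X Y X, ← hc'.eq, ← mul_assoc, mul_assoc (X * X) Y Y, hY, mul_zero]
  have σsq : ∀ x, σ x * σ x = 0 := fun x => lj_sq _ (sq_of (D.cS x) hS1)
  have τsq : ∀ x, τ' x * τ' x = 0 := fun x => lj_sq _ (sq_of (D.cT x) hT1)
  have Φu : ∀ x, Φ (upm x) = el (σ x) := fun x => Units.ext <| by
    rw [coe_el (σsq x)]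
    refine ext_compl hc (fun v => ?_) fun v hv => ?_
    · rw [Φ_q, D.mat_upm, LinearMap.add_apply, Module.End.one_apply]
      show _ = (v : M) + lj _ v
      rw [lj_q]; rfl
    · rw [Φ_p _ v hv, LinearMap.add_apply, Module.End.one_apply]
      show _ = v + lj _ v
      rw [lj_p _ v hv, add_zero]
  have Φl : ∀ x, Φ (lom (x * pb.gen)) = el (τ' x) := fun x => Units.ext <| by
    rw [coe_el (τsq x)]
    refine ext_compl hc (fun v => ?_) fun v hv => ?_
    · rw [Φ_q, show lom (x * pb.gen) = lom (x * (D.Z : AdjoinRoot (minpoly k Z1))) from rfl, D.mat_lom_Z,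
        LinearMap.add_apply, Module.End.one_apply]
      show _ = (v : M) + lj _ v
      rw [lj_q]; rfl
    · rw [Φ_p _ v hv, LinearMap.add_apply, Module.End.one_apply]
      show _ = v + lj _ v
      rw [lj_p _ v hv, add_zero]
  set s0 := s - lj S1 with hs0
  set t0 := t - lj T1 with ht0
  have s0q : ∀ v : q, s0 (v : M) = 0 := fun v => by rw [hs0, LinearMap.sub_apply, lj_q, S1_apply, sub_self]
  have t0q : ∀ v : q, t0 (v : M) = 0 := fun v => by rw [ht0, LinearMap.sub_apply, lj_q, T1_apply, sub_self]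
  have s0p : ∀ v ∈ p, s0 v = s v := fun v hv => by rw [hs0, LinearMap.sub_apply, lj_p _ v hv, sub_zero]
  have t0p : ∀ v ∈ p, t0 v = t v := fun v hv => by rw [ht0, LinearMap.sub_apply, lj_p _ v hv, sub_zero]
  have sp := map_ker_of_comm cs n
  have tp := map_ker_of_comm ct n
  have hs00 : s0 * s0 = 0 := ext_compl hc (fun v => by rw [Module.End.mul_apply, s0q, map_zero]; rfl) fun v hv => by
    rw [Module.End.mul_apply, s0p v hv, s0p _ (sp v hv)]; exact DFunLike.congr_fun hs.sq v
  have ht00 : t0 * t0 = 0 := ext_compl hc (fun v => by rw [Module.End.mul_apply, t0q, map_zero]; rfl) fun v hv => by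
    rw [Module.End.mul_apply, t0p v hv, t0p _ (tp v hv)]; exact DFunLike.congr_fun ht.1 v
  have hn0 : IsNilpotent (s0 * t0) := by
    refine nilp_of_anti hs00 ht00 (n := n) (ext_compl hc (fun v => ?_) fun v hv => ?_)
    · obtain ⟨i, hi⟩ : ∃ i, n = i + 1 := ⟨n - 1, by omega⟩
      rw [hi, pow_succ, Module.End.mul_apply, LinearMap.add_apply, Module.End.mul_apply, Module.End.mul_apply, s0q,
        t0q, map_zero, map_zero, add_zero, map_zero]
      rfl
    · have : ∀ j : ℕ, ((s0 * t0 + t0 * s0) ^ j) v = (z ^ j) v ∧ (z ^ j) v ∈ p := by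
        intro j
        induction j with
        | zero => exact ⟨rfl, hv⟩
        | succ j ih =>
          refine ⟨?_, ?_⟩
          · rw [pow_succ', pow_succ', Module.End.mul_apply, Module.End.mul_apply, ih.1]
            simp only [LinearMap.add_apply, Module.End.mul_apply, hz]
            rw [t0p _ ih.2, s0p _ (tp _ ih.2), s0p _ ih.2, t0p _ (sp _ ih.2)]
          · rw [pow_succ', Module.End.mul_apply]
            exact map_ker_of_comm cz n _ ih.2
      rw [(this n).1]
      exact hv
  set U0 := pairGrp s0 t0 with hU0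
  have hcomm : ∀ (g : U0) h, Commute (g : LinearMap.GeneralLinearGroup k M) (Φ h) := by
    intro g h
    have hle : U0 ≤ Subgroup.centralizer (Set.range Φ) := by
      refine (Subgroup.closure_le _).mpr ?_
      have key : ∀ f : Module.End k M, f * f = 0 → (∀ v : q, f (v : M) = 0) → (∀ v ∈ p, f v ∈ p) →
          el f ∈ Subgroup.centralizer (Set.range Φ) := by
        intro f hf hfq hfp
        rw [Subgroup.mem_centralizer_iff]
        rintro _ ⟨h, rfl⟩
        refine Units.ext (ext_compl hc (fun v => ?_) fun v hv => ?_) <;>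
          simp only [Units.val_mul, Module.End.mul_apply, coe_el hf, LinearMap.add_apply, Module.End.one_apply]
        · rw [hfq v, add_zero, Φ_q h v, hfq, add_zero]
        · rw [map_add, Φ_p h v hv, Φ_p h _ (hfp v hv)]
      rintro _ (⟨c, rfl⟩ | ⟨c, rfl⟩)
      · exact key _ (smul_sq hs00 c) (fun v => by rw [LinearMap.smul_apply, s0q, smul_zero])
          fun v hv => by rw [LinearMap.smul_apply, s0p v hv]; exact Submodule.smul_mem _ c (sp v hv)
      · exact key _ (smul_sq ht00 c) (fun v => by rw [LinearMap.smul_apply, t0q, smul_zero])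
          fun v hv => by rw [LinearMap.smul_apply, t0p v hv]; exact Submodule.smul_mem _ c (tp v hv)
    exact ((Subgroup.mem_centralizer_iff.mp (hle g.2)) _ ⟨h, rfl⟩).symm
  let Θ := U0.subtype.noncommCoprod Φ hcomm
  have Θapply : ∀ u g, Θ (u, g) = (u : LinearMap.GeneralLinearGroup k M) * Φ g := fun u g => rfl
  set H := pairGrp s t with hH
  have hHG : H ≤ G := by
    refine (Subgroup.closure_le _).mpr ?_
    rintro _ (⟨c, rfl⟩ | ⟨c, rfl⟩)
    exacts [hs.1.2 c, ht.2 c]
  let Hp := H.comap Θ
  have gs : ∀ c : k, (⟨el (c • s0), Subgroup.subset_closure (Or.inl ⟨c, rfl⟩)⟩, upm (algebraMap k _ c)) ∈ Hp ∧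
      el (c • s) = el (c • s0) * Φ (upm (algebraMap k _ c)) := by
    intro c
    have hσ : σ (algebraMap k _ c) = c • lj S1 := by
      rw [← lj.map_smul, Algebra.algebraMap_eq_smul_one, LinearMap.map_smul]
      show c • lj (ι 1 * S1) = lj (c • S1)
      rw [map_one, one_mul, map_smul]
    have he : el (c • s) = el (c • s0) * Φ (upm (algebraMap k _ c)) := by
      rw [Φu, hσ, el_add (smul_sq hs00 c) (smul_sq (lj_sq _ hS1) c)]
      · rw [← smul_add, hs0, sub_add_cancel]
      all_goals
        rw [smul_mul_smul_comm]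
        convert smul_zero (c * c) using 2
        refine ext_compl hc (fun v => ?_) fun v hv => ?_
      · rw [Module.End.mul_apply, lj_q, s0q]; rfl
      · rw [Module.End.mul_apply, lj_p _ v hv, map_zero]; rfl
      · rw [Module.End.mul_apply, s0q, map_zero]; rfl
      · rw [Module.End.mul_apply, s0p v hv, lj_p _ _ (sp v hv)]; rfl
    refine ⟨?_, he⟩
    rw [Subgroup.mem_comap, Θapply, ← he]
    exact Subgroup.subset_closure (Or.inl ⟨c, rfl⟩)
  have gt : ∀ c : k, (⟨el (c • t0), Subgroup.subset_closure (Or.inr ⟨c, rfl⟩)⟩, lom (algebraMap k _ c * pb.gen)) ∈ Hp ∧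
      el (c • t) = el (c • t0) * Φ (lom (algebraMap k _ c * pb.gen)) := by
    intro c
    have hσ : τ' (algebraMap k _ c) = c • lj T1 := by
      rw [← lj.map_smul, Algebra.algebraMap_eq_smul_one, LinearMap.map_smul]
      show c • lj (ι 1 * T1) = lj (c • T1)
      rw [map_one, one_mul, map_smul]
    have he : el (c • t) = el (c • t0) * Φ (lom (algebraMap k _ c * pb.gen)) := by
      rw [Φl, hσ, el_add (smul_sq ht00 c) (smul_sq (lj_sq _ hT1) c)]
      · rw [← smul_add, ht0, sub_add_cancel]
      all_goals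
        rw [smul_mul_smul_comm]
        convert smul_zero (c * c) using 2
        refine ext_compl hc (fun v => ?_) fun v hv => ?_
      · rw [Module.End.mul_apply, lj_q, t0q]; rfl
      · rw [Module.End.mul_apply, lj_p _ v hv, map_zero]; rfl
      · rw [Module.End.mul_apply, t0q, map_zero]; rfl
      · rw [Module.End.mul_apply, t0p v hv, lj_p _ _ (tp v hv)]; rfl
    refine ⟨?_, he⟩
    rw [Subgroup.mem_comap, Θapply, ← he]
    exact Subgroup.subset_closure (Or.inr ⟨c, rfl⟩)
  have snd_full : Hp.map (MonoidHom.snd _ _) ≥ gam k pb.gen := by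
    refine (Subgroup.closure_le _).mpr ?_
    rintro _ (⟨c, rfl⟩ | ⟨c, rfl⟩)
    exacts [⟨_, (gs c).1, rfl⟩, ⟨_, (gt c).1, rfl⟩]
  have fullA := full pb h2 h3 hgen
  obtain ⟨l, hl, hl1⟩ := exists_sq_ne_one h2 h3
  obtain ⟨u, hu⟩ : ∃ u : (AdjoinRoot (minpoly k Z1))ˣ, (u : AdjoinRoot (minpoly k Z1)) = algebraMap k _ l :=
    ⟨((isUnit_iff_ne_zero.mpr hl).map (algebraMap k _)).unit, rfl⟩
  have hu' : ((u⁻¹ : (AdjoinRoot (minpoly k Z1))ˣ) : AdjoinRoot (minpoly k Z1)) = algebraMap k _ l⁻¹ :=
    Units.inv_eq_of_mul_eq_one_right (by rw [hu, ← map_mul, mul_inv_cancel₀ hl, map_one])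
  obtain ⟨⟨h0, h1⟩, hh, rfl : h1 = dia u⟩ :=
    Subgroup.mem_map.mp (snd_full (dia_mem (fun x => (fullA x).1) (fun x => (fullA x).2) u))
  have := isNilpotent_of_unip (unip_pair hs00 ht00 hn0 hU0)
  have line_u : ∀ c : k, ((1 : U0), upm (algebraMap k _ c)) ∈ Hp := fun c =>
    kill_fst Hp hh (fun c => upm (algebraMap k _ c)) hl1 (fun a b => by simp [upm_add])
      (fun c => by rw [dia_conj, hu, ← map_pow, ← map_mul]) (fun c => ⟨_, (gs c).1⟩) c
  have line_l : ∀ c : k, ((1 : U0), lom (algebraMap k _ c * pb.gen)) ∈ Hp := fun c =>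
    kill_fst (μ := (l⁻¹) ^ 2) Hp hh (fun c => lom (algebraMap k _ c * pb.gen))
      (by rw [inv_pow]; simpa using hl1) (fun a b => by simp [add_mul, lom_add])
      (fun c => by
        refine sl_ext ?_ ?_ ?_ ?_ <;> simp [dia_coe, lom_coe, mul_entry, inv_entry, Matrix.adjugate_fin_two]
        rw [hu']
        rw [← inv_pow, pow_two, AdjoinRoot.algebraMap_eq]
        erw [map_mul]
        ring)
      (fun c => ⟨_, (gt c).1⟩) c
  have inH : ∀ g, ((1 : U0), g) ∈ Hp → Φ g ∈ H := fun g hg => by
    have : Θ (1, g) ∈ H := hg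
    rwa [Θapply, Subgroup.coe_one, one_mul] at this
  have es : lj S1 ∈ Sc G := ⟨lj_sq _ hS1, fun c => by
    have := hHG (inH _ (line_u c))
    rw [Φu] at this
    convert this using 2
    show _ = lj (ι (algebraMap k _ c) * S1)
    rw [AlgHom.commutes, ← Algebra.smul_def, map_smul]⟩
  have et : lj T1 ∈ Sc G := ⟨lj_sq _ hT1, fun c => by
    have := hHG (inH _ (line_l c))
    rw [Φl] at this
    convert this using 2
    show _ = lj (ι (algebraMap k _ c) * T1)
    rw [AlgHom.commutes, ← Algebra.smul_def, map_smul]⟩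
  have hZne : Z1 ≠ 0 := fun h => by
    obtain ⟨v, hv⟩ := exists_ne (0 : q)
    exact hv (hZ1 (by rw [h]; rfl))
  have whole : ∀ (a : Module.End k M) (X : Module.End k q), Min G a → lj X ∈ Sc G → X ≠ 0 →
      (∀ v : q, (X v : M) = a v) → (∀ v ∈ p, a v ∈ p) → a = lj X := by
    intro a X ha hX hX0 hXa hap
    have hle : LinearMap.range (lj X) ≤ LinearMap.range a := by
      rintro _ ⟨v, rfl⟩
      refine ⟨((q.projectionOnto p hc v : q) : M), ?_⟩
      rw [← hXa]; rfl
    have hne : lj X ≠ 0 := fun h => hX0 (LinearMap.ext fun v => Subtype.ext (by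
      rw [← lj_q, h]; rfl))
    have heq := Submodule.eq_of_le_of_finrank_le hle (ha.2.2 _ hX hne)
    refine ext_compl hc (fun v => by rw [lj_q, hXa]) fun v hv => ?_
    rw [lj_p _ v hv]
    refine hqp _ ?_ (hap v hv)
    obtain ⟨w, hw⟩ : a v ∈ LinearMap.range (lj X) := heq ▸ LinearMap.mem_range_self a v
    exact hw ▸ lj_mem _ _
  have hS0 : S1 ≠ 0 := fun h => hZne (by rw [← hST, h, zero_mul, mul_zero, add_zero])
  have hT0 : T1 ≠ 0 := fun h => hZne (by rw [← hST, h, zero_mul, mul_zero, add_zero])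
  have hse : s = lj S1 := whole s S1 hs es hS0 S1_apply sp
  have hse' := hse
  have kerS : ∀ v : q, S1 v = 0 → v ∈ LinearMap.range S1 := by
    intro v hv
    obtain ⟨w, rfl⟩ := (LinearMap.injective_iff_surjective.mp hZ1) v
    refine ⟨T1 w, ?_⟩
    have hc1 : Z1 (S1 w) = S1 (Z1 w) := by
      have h1 := DFunLike.congr_fun (D.cS (pb.gen)).eq w
      rw [show D.ι pb.gen = Z1 from ιroot] at h1
      exact h1
    rw [hv] at hc1
    have hw : S1 w = 0 := hZ1 (hc1.trans (map_zero Z1).symm)
    rw [← hST, LinearMap.add_apply, Module.End.mul_apply, Module.End.mul_apply, hw, map_zero, add_zero]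
  have rkS : 2 * Module.finrank k (LinearMap.range S1) = Module.finrank k q := by
    have h1 := LinearMap.finrank_range_add_finrank_ker S1
    have h2' : LinearMap.ker S1 = LinearMap.range S1 := le_antisymm (fun v hv => kerS v hv) (by
      rintro _ ⟨v, rfl⟩; exact DFunLike.congr_fun hS1 v)
    rw [h2'] at h1
    omega
  have rkT : 2 * Module.finrank k (LinearMap.range T1) ≤ Module.finrank k q := by
    have h1 := LinearMap.finrank_range_add_finrank_ker T1
    have h2' : LinearMap.range T1 ≤ LinearMap.ker T1 := by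
      rintro _ ⟨v, rfl⟩; exact DFunLike.congr_fun hT1 v
    have := Submodule.finrank_mono h2'
    omega
  have rk_lj : ∀ X : Module.End k q, rk (lj X) = Module.finrank k (LinearMap.range X) := by
    intro X
    have e : LinearMap.range (lj X) = (LinearMap.range X).map q.subtype := by
      refine le_antisymm ?_ ?_
      · rintro _ ⟨v, rfl⟩
        exact ⟨X (q.projectionOnto p hc v), LinearMap.mem_range_self _ _, rfl⟩
      · rintro _ ⟨_, ⟨v, rfl⟩, rfl⟩
        exact ⟨v, lj_q X v⟩
    rw [rk, e, Submodule.finrank_map_subtype_eq]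
  set m := lj T1 with hm
  have hm0 : m ≠ 0 := fun h => hT0 (LinearMap.ext fun v => Subtype.ext (by
    rw [← lj_q, ← hm, h]; rfl))
  have hrk : rk m ≤ rk s := by
    rw [hse, rk_lj, rk_lj]
    omega
  have hmt : (t - m) * m = 0 ∧ m * (t - m) = 0 := by
    constructor <;> refine ext_compl hc (fun v => ?_) fun v hv => ?_ <;> rw [← ht0, Module.End.mul_apply]
    · rw [lj_q, t0q]; rfl
    · rw [lj_p _ v hv, map_zero]; rfl
    · rw [t0q, map_zero]; rfl
    · rw [t0p v hv, lj_p _ _ (tp v hv)]; rfl
  have hsub : t - m ∈ Sc G := by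
    rw [sub_eq_add_neg]
    refine sc_add ht (sc_neg et) ?_ ?_
    · rw [mul_neg, show t = (t - m) + m by abel, add_mul, hmt.1, lj_sq _ hT1, add_zero, neg_zero]
    · rw [neg_mul, show t = (t - m) + m by abel, mul_add, hmt.2, lj_sq _ hT1, add_zero, neg_zero]
  refine ⟨m, hs.of_rk_le et hm0 hrk, hsub, ?_, hmt⟩
  refine Submodule.finrank_lt_finrank_of_lt (lt_of_le_of_ne ?_ fun h => hm0 ?_)
  · rintro _ ⟨v, rfl⟩
    refine ⟨v - ((q.projectionOnto p hc v : q) : M), ?_⟩
    rw [map_sub, LinearMap.sub_apply]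
    rfl
  · refine LinearMap.ext fun v => ?_
    have h1 : m v ∈ LinearMap.range (t - m) := by
      rw [h]
      exact ⟨((q.projectionOnto p hc v : q) : M), by rw [← T1_apply]; rfl⟩
    obtain ⟨w, hw⟩ := h1
    refine hqp _ (lj_mem _ _) ?_
    obtain ⟨a, ha, b, hb, rfl⟩ := Submodule.mem_sup.mp (hc.sup_eq_top ▸ Submodule.mem_top : w ∈ q ⊔ p)
    rw [← hw, ← ht0, map_add, show t0 a = 0 from t0q ⟨a, ha⟩, zero_add, t0p b hb]
    exact tp b hb

variable {k : Type u} [Field k] {M : Type v} [AddCommGroup M] [Module k M] [FiniteDimensional k M]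
variable {G : Subgroup (LinearMap.GeneralLinearGroup k M)}

local notation "End'" => Module.End k M
local notation "GLM" => LinearMap.GeneralLinearGroup k M

theorem rk_mul_le_left (a b : End') : rk (a * b) ≤ rk a :=
  Submodule.finrank_mono (LinearMap.range_comp_le_range b a)

theorem rk_mul_le_right (a b : End') : rk (a * b) ≤ rk b := by
  rw [rk, rk, Module.End.mul_eq_comp, LinearMap.range_comp]
  exact Submodule.finrank_map_le a _

theorem sts_of_five' (h2 : (2 : k) ≠ 0) {s t : End'} (hs : Min G s) (ht : t ∈ Sc G)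
    (h5 : s * t * s * t * s = 0) : s * t * s = 0 := by
  have hss := hs.sq
  have htt := ht.1
  have hss' : ∀ x : End', x * s * s = 0 := fun x => by rw [mul_assoc, hss, mul_zero]
  have htt' : ∀ x : End', x * t * t = 0 := fun x => by rw [mul_assoc, htt, mul_zero]
  have h5' : ∀ x : End', x * s * t * s * t * s = 0 := fun x => by
    have : x * s * t * s * t * s = x * (s * t * s * t * s) := by simp only [mul_assoc]
    rw [this, h5, mul_zero]
  set s' := s + (t * s - s * t) - t * s * t with hs'
  have hs'm : s' ∈ Sc G := cjE_mem_el hs.1 ht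
  have e1 : s * s' * s = 0 := by
    simp only [hs', mul_add, mul_sub, add_mul, sub_mul, ← mul_assoc, hss, htt, hss', htt', h5, h5',
      zero_mul, add_zero, sub_zero, zero_sub, zero_add, neg_zero]
  have e2 : s' * s * s' = 0 := by
    simp only [hs', mul_add, mul_sub, add_mul, sub_mul, ← mul_assoc, hss, htt, hss', htt', h5, h5',
      zero_mul, add_zero, sub_zero, zero_sub, zero_add, neg_zero, neg_mul, mul_neg, neg_neg]
    try abel
  have hn : (t * s) ^ 3 = 0 := by
    simp only [pow_succ, pow_zero, one_mul, ← mul_assoc, h5']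
  have hn' : (s * t) ^ 3 = 0 := by
    simp only [pow_succ, pow_zero, one_mul, ← mul_assoc, h5, zero_mul]
  obtain ⟨W, hW⟩ : ∃ W : End', W = s * t * s := ⟨_, rfl⟩
  obtain ⟨A, hA⟩ : ∃ A : End', A = t * s * t * s - s * t * s * t := ⟨_, rfl⟩
  obtain ⟨B, hB⟩ : ∃ B : End', B = t * s * t * s * t := ⟨_, rfl⟩
  have hD1 : (2 : k) • W + A ∈ Sc G := by
    have := br_mem hs.1 hs'm e1 e2
    convert this using 1
    simp only [hW, hA, hs', mul_add, mul_sub, add_mul, sub_mul, ← mul_assoc, hss, htt, hss', htt', h5, h5',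
      zero_mul, two_smul]
    abel
  -- products of the four words vanish
  have key : ∀ a b c d e f : k, (a • W + b • A + c • B) * (d • W + e • A + f • B) = 0 := by
    intro a b c d e f
    simp only [hW, hA, hB, smul_sub, mul_add, mul_sub, add_mul, sub_mul, smul_mul_assoc, mul_smul_comm, ← mul_assoc,
      hss, htt, hss', htt', h5, h5', zero_mul, smul_zero, add_zero, sub_zero]
  have hz : ∀ a b c d e f : k, a • W + b • A + c • B ∈ Sc G → d • W + e • A + f • B ∈ Sc G →
      (a + d) • W + (b + e) • A + (c + f) • B ∈ Sc G := by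
    intro a b c d e f h1 h2
    have := sc_add h1 h2 (key a b c d e f) (key d e f a b c)
    convert this using 1
    simp only [add_smul]
    abel
  have hD1' : (2 : k) • W + (1 : k) • A + (0 : k) • B ∈ Sc G := by simpa using hD1
  have hconj : ∀ e : k, (2 : k) • W + (1 + 2 * e) • A + (-2 * (e + e * e)) • B ∈ Sc G := by
    intro e
    have := cjE_mem_el hD1 (sc_smul ht e)
    convert this using 1
    simp only [hW, hA, hB, smul_sub, mul_add, mul_sub, add_mul, sub_mul, smul_add, smul_mul_assoc, mul_smul_comm,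
      ← mul_assoc, hss, htt, hss', htt', h5, h5', zero_mul, smul_zero, smul_smul]
    module
  have hB1 : B ∈ Sc G := by
    have h := hz _ _ _ _ _ _ (hz _ _ _ _ _ _ (hconj 1) (hconj (-1)))
      (show (-4 : k) • W + (-2 : k) • A + (0 : k) • B ∈ Sc G by
        have := sc_smul hD1' (-2 : k)
        convert this using 1
        simp only [smul_add, smul_smul]; norm_num)
    have h4 : (-4 : k) ≠ 0 := by
      rw [neg_ne_zero, show (4 : k) = 2 * 2 by norm_num]; exact mul_ne_zero h2 h2
    have h' := sc_smul h (-4 : k)⁻¹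
    convert h' using 1
    norm_num [smul_smul]
    rw [inv_mul_cancel₀ (by simpa using h4), one_smul] at *
  have hB0 : B = 0 := hs.small hB1 (by
    refine lt_of_le_of_lt ?_ (rk_mul_lt' hn' hs.2.1 1 le_rfl)
    have e : B = t * ((s * t) ^ 1 * s) * t := by rw [hB, pow_one]; simp only [mul_assoc]
    rw [e]
    exact (rk_mul_le_left _ _).trans (rk_mul_le_right _ _))
  have hA1 : A ∈ Sc G := by
    have h := hz _ _ _ _ _ _ (hconj 1) (show (-2 : k) • W + (-1 : k) • A + (0 : k) • B ∈ Sc G by
      have := sc_neg hD1'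
      convert this using 1
      simp only [neg_add, neg_smul]; simp)
    have h' := sc_smul h (2 : k)⁻¹
    convert h' using 1
    rw [hB0]
    norm_num [smul_smul, h2]
  have hW1 : W ∈ Sc G := by
    have h := hz _ _ _ _ _ _ hD1' (show (0 : k) • W + (-1 : k) • A + (0 : k) • B ∈ Sc G by
      have := sc_neg hA1
      simpa using this)
    have h' := sc_smul h (2 : k)⁻¹
    convert h' using 1
    norm_num [smul_smul, h2]
  rw [← hW]
  exact hs.small hW1 (by simpa [hW] using rk_mul_lt' hn' hs.2.1 1 le_rfl)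

theorem sts_zero' (h2 : (2 : k) ≠ 0) {s t : End'} (hs : Min G s) (ht : t ∈ Sc G)
    (hn : IsNilpotent (s * t)) : s * t * s = 0 := by
  obtain ⟨m, hm⟩ := hn
  have hm' : (s * t) ^ m * s = 0 := by rw [hm, zero_mul]
  clear hm
  induction m using Nat.strong_induction_on generalizing t with
  | h m ih =>
    rcases Nat.lt_or_ge m 2 with h | h
    · interval_cases m
      · exact absurd (by simpa using hm') hs.2.1
      · simpa using hm'
    · refine sts_of_five' h2 hs ht ?_
      have hmem : Min G (cjE (el t) s) := hs.cjE (el_mem ht)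
      rw [cjE_el ht.1] at hmem
      have := ih ((m + 1) / 2) (by omega) hmem.1 (by
        rw [pow_word_conj hs.sq ht.1]
        have : 2 * ((m + 1) / 2) = (2 * ((m + 1) / 2) - m) + m := by omega
        rw [this, pow_add, mul_assoc, hm', mul_zero, smul_zero])
      have e := pow_word_conj (k := k) hs.sq ht.1 1
      simp only [pow_one, this, neg_one_smul, zero_eq_neg] at e
      simpa [pow_two, mul_assoc] using e

/-- A quadratic family annihilated by every root centralizes every root. -/
theorem commute_of_nilp (h2 : (2 : k) ≠ 0) (hG : IsQuadraticPair G)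
    (hopp : ∀ {s : End'}, Min G s → ∃ x, Min G x ∧ x * s * x ≠ 0) {q s : End'} (hq : q ∈ Sc G)
    (hs : Min G s) (hn : ∀ y, Min G y → IsNilpotent (y * q)) : q * s = s * q := by
  let P : End' → Prop := fun n => ∀ y, Min G y → y * n * y = 0
  have Pq : P q := fun y hy => sts_zero' h2 hy hq (hn y hy)
  have Pcj : ∀ g ∈ G, ∀ n, P n → P (cjE g n) := by
    intro g hg n hn' y hy
    have h1 := hn' _ (hy.cjE (inv_mem hg))
    have h1' := congrArg (cjE g) h1
    rwa [cjE_mul, cjE_mul, cjE_cjE, mul_inv_cancel, cjE_one, cjE_zero] at h1'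
  have Psub : ∀ {a b}, P a → P b → P (a - b) := fun ha hb y hy => by
    rw [mul_sub, sub_mul, ha y hy, hb y hy, sub_zero]
  have Psm : ∀ (c : k) {a}, P a → P (c • a) := fun c a ha y hy => by
    rw [mul_smul_comm, smul_mul_assoc, ha y hy, smul_zero]
  set δ := q * s - s * q with hδ
  have hsqs : s * q * s = 0 := Pq s hs
  have Pδ : P δ := by
    have h1 := Pcj _ (el_mem hs.1) q Pq
    rw [cjE_el hs.sq, hsqs, sub_zero] at h1
    have := Psub Pq h1
    convert this using 1
    rw [hδ]; abel
  have Pπ : P (q * s * q) := by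
    have h1 := Psub (Pcj _ (el_mem hq) δ Pδ) Pδ
    have h1' := Psub (Pcj _ (el_mem (sc_neg hq)) δ Pδ) Pδ
    rw [cjE_el hq.1] at h1
    rw [cjE_el (neg_sq hq.1)] at h1'
    have h3 := Psm (4 : k)⁻¹ (Psub h1' h1)
    have e : ∀ x : End', q * (q * x) = 0 := fun x => by rw [← mul_assoc, hq.1, zero_mul]
    have h4 : (4 : k) ≠ 0 := by rw [show (4 : k) = 2 * 2 by norm_num]; exact mul_ne_zero h2 h2
    convert h3 using 1
    simp only [hδ, mul_sub, sub_mul, neg_mul, mul_neg, neg_neg, mul_assoc, e, hq.1, mul_zero, sub_zero, zero_sub,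
      sub_self, neg_zero]
    match_scalars <;> first | (field_simp; ring) | simp | ring
  have hs' : Min G (cjE (el q) s) := hs.cjE (el_mem hq)
  have e1 : cjE (el q) s = s + δ - q * s * q := by rw [cjE_el hq.1]
  have π0 : q * s * q = 0 := by
    by_contra h0
    have hprod1 : s * (cjE (el q) s) = 0 := by
      have e : s * cjE (el q) s = s * s + s * q * s - s * s * q - s * q * s * q := by
        rw [e1, hδ]; noncomm_ring
      rw [e, hs.sq, hsqs]; simp
    have hprod2 : cjE (el q) s * s = 0 := by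
      have e : cjE (el q) s * s = s * s + q * (s * s) - s * q * s - q * (s * q * s) := by
        rw [e1, hδ]; noncomm_ring
      rw [e, hs.sq, hsqs]; simp
    have hm1 : Min G (cjE (el (-q)) s) := hs.cjE (el_mem (sc_neg hq))
    have e2 : cjE (el (-q)) s = s - δ - q * s * q := by
      rw [cjE_el (neg_sq hq.1), hδ]; noncomm_ring
    have hπ : q * s * q ∈ Sc G := by
      have p1 : cjE (el q) s * cjE (el (-q)) s = 0 ∧ cjE (el (-q)) s * cjE (el q) s = 0 := by
        have w1 : ∀ x : End', s * (s * x) = 0 := fun x => by rw [← mul_assoc, hs.sq, zero_mul]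
        have w2 : ∀ x : End', q * (q * x) = 0 := fun x => by rw [← mul_assoc, hq.1, zero_mul]
        have w3 : s * (q * s) = 0 := by rw [← mul_assoc, hsqs]
        have w4 : ∀ x : End', s * (q * (s * x)) = 0 := fun x => by
          rw [← mul_assoc, ← mul_assoc, hsqs, zero_mul]
        constructor <;>
          simp only [e1, e2, hδ, mul_add, mul_sub, add_mul, sub_mul, mul_assoc, w1, w2, w3, w4, hs.sq, hq.1, mul_zero,
            add_zero, sub_zero, zero_add, zero_sub, sub_self, neg_zero]
      have h5 := sc_add hs'.1 hm1.1 p1.1 p1.2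
      have hA : (cjE (el q) s + cjE (el (-q)) s) * ((-2 : k) • s) = 0 := by
        have : cjE (el (-q)) s * s = 0 := by
          have e : cjE (el (-q)) s * s = s * s - q * (s * s) + s * q * s - q * (s * q * s) := by
            rw [e2, hδ]; noncomm_ring
          rw [e, hs.sq, hsqs]; simp
        rw [mul_smul_comm, add_mul, hprod2, this, add_zero, smul_zero]
      have hB : ((-2 : k) • s) * (cjE (el q) s + cjE (el (-q)) s) = 0 := by
        have : s * cjE (el (-q)) s = 0 := by
          have e : s * cjE (el (-q)) s = s * s - s * q * s + s * s * q - s * q * s * q := by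
            rw [e2, hδ]; noncomm_ring
          rw [e, hs.sq, hsqs]; simp
        rw [smul_mul_assoc, mul_add, hprod1, this, add_zero, smul_zero]
      have h6 := sc_smul (sc_add h5 (sc_smul hs.1 (-2 : k)) hA hB) (-(2 : k)⁻¹)
      convert h6 using 1
      rw [e1, e2]
      match_scalars <;> field_simp <;> ring
    have hle : rk (q * s * q) ≤ rk s := (rk_mul_le_left _ _).trans (rk_mul_le_right _ _)
    obtain ⟨x, hx, hxne⟩ := hopp (hs.of_rk_le hπ h0 hle)
    exact hxne (Pπ x hx)
  rw [π0, sub_zero] at e1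
  have hδs : δ * s = 0 ∧ s * δ = 0 := by
    constructor
    · rw [hδ, sub_mul, mul_assoc q s s, hs.sq, mul_zero, hsqs, sub_zero]
    · rw [hδ, mul_sub, ← mul_assoc s q s, ← mul_assoc s s q, hs.sq, zero_mul, hsqs, sub_zero]
  have hδm : δ ∈ Sc G := by
    have h1 := sc_add hs'.1 (sc_neg hs.1) (by rw [e1, mul_neg, add_mul, hs.sq, hδs.1, add_zero, neg_zero])
      (by rw [e1, neg_mul, mul_add, hs.sq, hδs.2, add_zero, neg_zero])
    convert h1 using 1
    rw [e1]; abel
  have hsneg : Min G (cjE (el (-q)) s) := hs.cjE (el_mem (sc_neg hq))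
  have e2 : cjE (el (-q)) s = s - δ := by
    have e : cjE (el (-q)) s = s - δ - q * s * q := by rw [cjE_el (neg_sq hq.1), hδ]; noncomm_ring
    rw [e, π0, sub_zero]
  have ann : ∀ n, P n → δ * n * δ = 0 := by
    intro n hn'
    have a1 := hn' _ hs'
    have a2 := hn' _ hsneg
    rw [e1] at a1
    rw [e2] at a2
    have a0 := hn' _ hs
    have e : (2 : k) • (δ * n * δ) = (s + δ) * n * (s + δ) + (s - δ) * n * (s - δ) - (2 : k) • (s * n * s) := by
      simp only [add_mul, mul_add, sub_mul, mul_sub, two_smul]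
      abel
    rw [a1, a2, a0, smul_zero, add_zero, sub_zero] at e
    exact (smul_eq_zero.mp e).resolve_left h2
  by_contra hne
  have hδ0 : δ ≠ 0 := sub_ne_zero.mpr hne
  let W : Set (Subgroup GLM) := {A | ∃ g ∈ G, A = pairGrp (cjE g δ) (cjE g δ)}
  have hmem : ∀ g ∈ G, ∀ c : k, el (c • cjE g δ) ∈ G := fun g hg c => (sc_cjE hg hδm).2 c
  have hW : IsUnipotentOn (⨆ A ∈ W, A) := by
    refine unip_family (G := G) ?_ ?_ ?_
    · rintro A ⟨g, hg, rfl⟩
      refine (Subgroup.closure_le _).mpr ?_
      rintro _ (⟨c, rfl⟩ | ⟨c, rfl⟩) <;> exact hmem g hg c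
    · rintro A ⟨g, hg, rfl⟩ B ⟨h, hh, rfl⟩
      refine unip_pair (s := cjE g δ) (t := cjE h δ) (cjE_sq g hδm.1) (cjE_sq h hδm.1) ?_ ?_
      · have h1 := ann _ (Pcj _ (mul_mem (inv_mem hg) hh) δ Pδ)
        refine ⟨2, ?_⟩
        have h1' := congrArg (cjE g) h1
        rw [cjE_mul, cjE_mul, cjE_cjE, mul_inv_cancel_left, cjE_zero] at h1'
        rw [pow_two, ← mul_assoc, h1', zero_mul]
      · refine le_antisymm (sup_le ?_ ?_) ((Subgroup.closure_le _).mpr ?_)
        · refine Subgroup.closure_mono ?_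
          rintro x (hx | hx) <;> exact Or.inl hx
        · refine Subgroup.closure_mono ?_
          rintro x (hx | hx) <;> exact Or.inr hx
        · rintro _ (⟨c, rfl⟩ | ⟨c, rfl⟩)
          · exact Subgroup.mem_sup_left (Subgroup.subset_closure (Or.inl ⟨c, rfl⟩))
          · exact Subgroup.mem_sup_right (Subgroup.subset_closure (Or.inl ⟨c, rfl⟩))
    · rintro A ⟨g, hg, rfl⟩ h hh
      refine ⟨h * g, mul_mem hh hg, ?_⟩
      rw [conjBy, pairGrp, MonoidHom.map_closure, pairGrp, Set.image_union]
      have : (MulAut.conj h).toMonoidHom '' {x | ∃ c : k, x = el (c • cjE g δ)} =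
          {x | ∃ c : k, x = el (c • cjE (h * g) δ)} := by
        have e : ∀ c : k, (MulAut.conj h).toMonoidHom (el (c • cjE g δ)) = el (c • cjE (h * g) δ) := fun c => by
          rw [← cjE_cjE h g, ← cjE_smul h c, el_cjE h (smul_sq (cjE_sq g hδm.1) c)]
          simp
        ext x
        constructor
        · rintro ⟨_, ⟨c, rfl⟩, rfl⟩; exact ⟨c, e c⟩
        · rintro ⟨c, rfl⟩; exact ⟨_, ⟨c, rfl⟩, e c⟩
      rw [this]
  have hnorm : G ≤ Subgroup.normalizer ((⨆ A ∈ W, A : Subgroup GLM) : Set GLM) := by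
    intro g hg
    refine cj_eq_self.mp ?_
    have key : ∀ g ∈ G, conjBy (⨆ A ∈ W, A) g ≤ ⨆ A ∈ W, A := by
      intro g hg
      rw [conjBy, Subgroup.map_iSup]
      refine iSup_le fun C => ?_
      rw [Subgroup.map_iSup]
      refine iSup_le fun hC => ?_
      obtain ⟨p, hp', rfl⟩ := hC
      refine le_iSup₂_of_le (pairGrp (cjE (g * p) δ) (cjE (g * p) δ)) ⟨g * p, mul_mem hg hp', rfl⟩ ?_
      rw [pairGrp, MonoidHom.map_closure, Subgroup.closure_le]
      rintro _ ⟨x, hx, rfl⟩
      obtain ⟨c, rfl⟩ : ∃ c : k, x = el (c • cjE p δ) := by rcases hx with h | h <;> exact h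
      refine Subgroup.subset_closure (Or.inl ⟨c, ?_⟩)
      rw [← cjE_cjE g p, ← cjE_smul g c, el_cjE g (smul_sq (cjE_sq p hδm.1) c)]
      simp
    refine le_antisymm (key g hg) ?_
    have := cj_mono (key g⁻¹ (inv_mem hg)) g
    rwa [cj_cj, mul_inv_cancel, cj_one] at this
  have hbot := unip_normal_bot hG.1 hW hnorm
  apply hδ0
  have hel : el δ ∈ (⨆ A ∈ W, A : Subgroup GLM) := Subgroup.mem_iSup_of_mem _ (Subgroup.mem_iSup_of_mem
    (show pairGrp δ δ ∈ W from ⟨1, one_mem G, by rw [cjE_one]⟩) (Subgroup.subset_closure (Or.inl ⟨1, by rw [one_smul]⟩)))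
  rw [hbot, Subgroup.mem_bot] at hel
  exact (el_zero_iff hδm.1).mp hel

theorem exists_opp' (h2 : (2 : k) ≠ 0) (h3 : Nat.card k ≠ 3) (hG : IsQuadraticPair G) {s : End'} (hs : Min G s) :
    ∃ x, Min G x ∧ x * s * x ≠ 0 := by
  obtain ⟨x, hx, ho⟩ := exists_opp h2 h3 hG hs
  exact ⟨x, hx, sq_ne_of_opp h2 h3 hs hx ho⟩

/-- Members of `Sc` centralizing every root subgroup. -/
def Cen (G : Subgroup (LinearMap.GeneralLinearGroup k M)) (q : Module.End k M) : Prop :=
  ∀ s, Min G s → q * s = s * q

theorem cen_mem {q : End'} (hq : q ∈ Sc G) (hc : Cen G q) :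
    el q ∈ Subgroup.centralizer ((gen (quadraticRootSubgroups G) : Subgroup GLM) : Set GLM) := by
  have hle : gen (quadraticRootSubgroups G) ≤ Subgroup.centralizer {el q} := by
    refine iSup₂_le fun A hA x hx => ?_
    obtain ⟨s, hs, rfl⟩ := mem_roots.mp hA
    obtain ⟨a, ha, rfl⟩ := (mem_root hs).mp hx
    rw [Subgroup.mem_centralizer_singleton_iff]
    by_cases ha0 : a = 0
    · rw [ha0, el_zero, mul_one, one_mul]
    · exact commute_el ha.1.1 hq.1 (hc a (cls_spec hs ha ha0).1).symm
  rw [Subgroup.mem_centralizer_iff]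
  intro x hx
  exact Subgroup.mem_centralizer_singleton_iff.mp (hle hx)

theorem gen_mem_split (h2 : (2 : k) ≠ 0) (h3 : Nat.card k ≠ 3) (hG : IsQuadraticPair G) {q : End'} (hq : q ∈ Sc G) :
    el q ∈ gen (quadraticRootSubgroups G) ⊔
      (G ⊓ Subgroup.centralizer ((gen (quadraticRootSubgroups G) : Subgroup GLM) : Set GLM)) := by
  induction hrk : rk q using Nat.strong_induction_on generalizing q with
  | h r ih =>
    by_cases hall : ∀ y, Min G y → IsNilpotent (y * q)
    · exact Subgroup.mem_sup_right (Subgroup.mem_inf.mpr ⟨el_mem hq, cen_mem hq fun s hs =>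
        commute_of_nilp h2 hG (fun hs => exists_opp' h2 h3 hG hs) hq hs hall⟩)
    push Not at hall
    obtain ⟨s, hs, hn⟩ := hall
    obtain ⟨m, hm, hq0, hlt, e1, e2⟩ := split_pair h2 h3 hs hq hn
    have h1 := ih _ (hrk ▸ hlt) hq0 rfl
    have h4 : el q = el m * el (q - m) := by
      rw [el_add hm.sq hq0.1 e2 e1, add_sub_cancel]
    rw [h4]
    exact mul_mem (Subgroup.mem_sup_left (le_gen (mem_roots.mpr ⟨m, hm, rfl⟩) (el_mem_root hm (self_mem_cls hm)))) h1

theorem cocentral (h2 : (2 : k) ≠ 0) (h3 : Nat.card k ≠ 3) (hG : IsQuadraticPair G) :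
    gen (quadraticRootSubgroups G) ⊔
      (G ⊓ Subgroup.centralizer ((gen (quadraticRootSubgroups G) : Subgroup GLM) : Set GLM)) = G := by
  refine le_antisymm (sup_le (gen_all_le G) inf_le_left) ?_
  conv_lhs => rw [← hG.2]
  refine (Subgroup.closure_le _).mpr fun σ hσ => ?_
  obtain ⟨h1, -⟩ := mem_quadratic.mp hσ
  have := gen_mem_split h2 h3 hG h1
  rwa [el_dm h1.1] at this

/-- Each component is normal. -/
theorem part_normal (h2 : (2 : k) ≠ 0) (h3 : Nat.card k ≠ 3) (hG : IsQuadraticPair G) {A : Subgroup GLM}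
    (hA : A ∈ quadraticRootSubgroups G) :
    G ≤ Subgroup.normalizer ((gen (part G A) : Subgroup GLM) : Set GLM) := by
  conv_lhs => rw [← cocentral h2 h3 hG]
  refine sup_le (gen_normal h2 h3 hG hA) (inf_le_right.trans ?_)
  exact (Subgroup.centralizer_le (iSup₂_le fun B hB => le_gen hB.1 : gen (part G A) ≤ gen (quadraticRootSubgroups G))).trans
    (Subgroup.centralizer_le_normalizer _)

theorem eq_zero_of_cen_part (h2 : (2 : k) ≠ 0) (h3 : Nat.card k ≠ 3) (hG : IsQuadraticPair G) {m a : End'}
    (hm : Min G m) (ha : a * m = 0) (hc : ∀ B ∈ part G (root G m), ∀ x, Min G x → root G x = B → a * x = x * a) :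
    a = 0 := by
  let V : Submodule k M := ⨆ x : {x : End' // Min G x ∧ root G x ∈ part G (root G m)}, LinearMap.range x.1
  have hinv : ∀ g ∈ G, ∀ v ∈ V, (g : End') v ∈ V := by
    intro g hg v hv
    have hle : V.map (g : End') ≤ V := by
      rw [Submodule.map_iSup]
      refine iSup_le fun x => ?_
      have hle : root G x.1 ≤ gen (part G (root G m)) := le_gen x.2.2
      have hx' : root G (cjE g x.1) ∈ part G (root G m) := by
        have hsub : root G (cjE g x.1) ≤ gen (part G (root G m)) := by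
          rw [← conj_root hg x.2.1]
          exact (cj_mono hle g).trans (cj_eq_self.mpr (part_normal h2 h3 hG (mem_roots.mpr ⟨m, hm, rfl⟩) hg)).le
        by_contra hnot
        have hr : root G (cjE g x.1) ∈ quadraticRootSubgroups G := mem_roots.mpr ⟨_, x.2.1.cjE hg, rfl⟩
        obtain ⟨B, hB⟩ := exists_partner_root h2 h3 hG hr
        have hBp : B ∈ part G (root G (cjE g x.1)) := ⟨hB.2.1, Relation.ReflTransGen.single hB⟩
        have hc := Subgroup.commutator_eq_bot_iff_le_centralizer.mp
          (gen_commute h2 h3 hG (A := root G m) (B := root G (cjE g x.1)) fun h => hnot (h.symm.subset (self_part hr)))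
        obtain ⟨y, hy, hy1⟩ := exists_ne_one hB.2.2
        exact hy1 (eq_one_of_normalizes hB.2.2 hy (Subgroup.centralizer_le_normalizer _
          (Subgroup.centralizer_le (le_gen hBp) (hc (hsub hy)))))
      rw [← range_cjE]
      exact le_iSup (fun y : {x : End' // Min G x ∧ root G x ∈ part G (root G m)} => LinearMap.range y.1)
        ⟨cjE g x.1, x.2.1.cjE hg, hx'⟩
    exact hle (Submodule.mem_map_of_mem hv)
  have hmV : LinearMap.range m ≤ V := le_iSup
    (fun y : {x : End' // Min G x ∧ root G x ∈ part G (root G m)} => LinearMap.range y.1)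
    ⟨m, hm, self_part (mem_roots.mpr ⟨m, hm, rfl⟩)⟩
  rcases hG.1.2 V hinv with h | h
  · exact absurd (LinearMap.range_eq_bot.mp (eq_bot_iff.mpr (h ▸ hmV))) hm.2.1
  have key : ∀ B, Relation.ReflTransGen (RAdj G) (root G m) B → ∀ x, Min G x → root G x = B → a * x = 0 := by
    intro B hB
    induction hB with
    | refl =>
      intro x hx he
      obtain ⟨w, hw, e⟩ := (mem_root hm).mp (he ▸ el_mem_root hx (self_mem_cls hx))
      rw [el_inj hx.sq hw.1.1 e]
      refine LinearMap.ext fun v => ?_
      obtain ⟨u, hu⟩ := hw.2.2 (LinearMap.mem_range_self w v)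
      rw [Module.End.mul_apply, ← hu]
      exact DFunLike.congr_fun ha u
    | @tail B C hAB hBC ih =>
      intro x hx he
      obtain ⟨g, hg, hgC⟩ := conj_of_adj h2 h3 hG hBC
      obtain ⟨b, hb, hbe⟩ := mem_roots.mp hBC.1
      subst hbe
      have hBm : root G b ∈ part G (root G m) := ⟨mem_roots.mpr ⟨b, hb, rfl⟩, hAB⟩
      have hCm : C ∈ part G (root G m) := ⟨hBC.2.1, hAB.tail hBC⟩
      have hab : a * b = 0 := ih b hb rfl
      obtain ⟨c, hc', hce⟩ := mem_roots.mp hBC.2.1
      have hac : ∀ y ∈ root G b ⊔ C, a * (y : End') = (y : End') * a := by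
        intro y hy
        rw [hce, sup_closure hb hc'] at hy
        induction hy using Subgroup.closure_induction with
        | mem z hz =>
          obtain ⟨w, hw, rfl⟩ := hz
          by_cases hw0 : w = 0
          · rw [hw0, el_zero, Units.val_one, mul_one, one_mul]
          rcases hw with hw | hw
          · rw [coe_el hw.1.1, mul_add, add_mul, mul_one, one_mul,
              hc _ hBm w (cls_spec hb hw hw0).1 (root_eq_of_mem hb hw hw0)]
          · rw [coe_el hw.1.1, mul_add, add_mul, mul_one, one_mul,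
              hc _ hCm w (cls_spec hc' hw hw0).1 ((root_eq_of_mem hc' hw hw0).trans hce.symm)]
        | one => rw [Units.val_one, mul_one, one_mul]
        | mul p r _ _ hp hr => rw [Units.val_mul, ← mul_assoc, hp, mul_assoc, hr, mul_assoc]
        | inv p _ hp =>
          calc a * ((p⁻¹ : GLM) : End') = ((p⁻¹ : GLM) : End') * ((p : End') * a) * ((p⁻¹ : GLM) : End') := by
                rw [← mul_assoc _ (p : End'), Units.inv_mul, one_mul]
            _ = ((p⁻¹ : GLM) : End') * a := by rw [← hp, mul_assoc, mul_assoc, Units.mul_inv, mul_one]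
      have hgG : g ∈ G := sup_le (root_le hb) (hce ▸ root_le hc') hg
      have h1 : root G x = root G (cjE g b) := by rw [he, ← hgC, conj_root hgG hb]
      obtain ⟨w, hw, e⟩ := (mem_root (hb.cjE hgG)).mp (h1 ▸ el_mem_root hx (self_mem_cls hx))
      rw [el_inj hx.sq hw.1.1 e]
      have habg : a * cjE g b = 0 := by
        rw [cjE, ← mul_assoc, ← mul_assoc, hac g hg, mul_assoc _ a b, hab, mul_zero, zero_mul]
      refine LinearMap.ext fun v => ?_
      obtain ⟨u, hu⟩ := hw.2.2 (LinearMap.mem_range_self w v)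
      rw [Module.End.mul_apply, ← hu]
      exact DFunLike.congr_fun habg u
  have hker : V ≤ LinearMap.ker a := iSup_le fun x => by
    rintro _ ⟨v, rfl⟩
    exact DFunLike.congr_fun (key _ x.2.2.2 x.1 x.2.1 rfl) v
  exact LinearMap.ext fun v => hker (h ▸ Submodule.mem_top)

/-- A quadratic family lies in one component, or centralizes all of them. -/
theorem in_part (h2 : (2 : k) ≠ 0) (h3 : Nat.card k ≠ 3) (hG : IsQuadraticPair G) {q : End'} (hq : q ∈ Sc G) :
    Cen G q ∨ ∃ A ∈ quadraticRootSubgroups G, ∀ c : k, el (c • q) ∈ gen (part G A) := by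
  induction hrk : rk q using Nat.strong_induction_on generalizing q with
  | h r ih =>
    by_cases hall : ∀ y, Min G y → IsNilpotent (y * q)
    · exact Or.inl fun s hs => commute_of_nilp h2 hG (fun hs => exists_opp' h2 h3 hG hs) hq hs hall
    push Not at hall
    obtain ⟨s, hs, hn⟩ := hall
    obtain ⟨m, hm, hq0, hlt, e1, e2⟩ := split_pair h2 h3 hs hq hn
    have hmr : root G m ∈ quadraticRootSubgroups G := mem_roots.mpr ⟨m, hm, rfl⟩
    refine Or.inr ⟨root G m, hmr, fun c => ?_⟩
    have hme : ∀ c : k, el (c • m) ∈ gen (part G (root G m)) := fun c =>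
      le_gen (self_part hmr) (el_mem_root hm (Submodule.smul_mem _ c (self_mem_cls hm)))
    by_cases h0 : q - m = 0
    · rw [sub_eq_zero] at h0
      rw [h0]; exact hme c
    have hsame : ∀ c : k, el (c • (q - m)) ∈ gen (part G (root G m)) := by
      rcases ih _ (hrk ▸ hlt) hq0 rfl with hcen | ⟨B, hB, hBm⟩
      · exact absurd (eq_zero_of_cen_part h2 h3 hG hm e1 fun _ _ x hx _ => hcen x hx) h0
      by_cases hsame : part G B = part G (root G m)
      · exact fun c => hsame ▸ hBm c
      refine absurd (eq_zero_of_cen_part h2 h3 hG hm e1 fun C hC x hx he => ?_) h0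
      have hne : part G B ≠ part G C := by rw [part_eq hC]; exact hsame
      have hc := Subgroup.commutator_eq_bot_iff_le_centralizer.mp (gen_commute h2 h3 hG hne)
        (by simpa using hBm 1)
      have h5 := congrArg (fun g : GLM => (g : End'))
        (Subgroup.mem_centralizer_iff.mp hc _ (le_gen (self_part hC.1) (he ▸ el_mem_root hx (self_mem_cls hx))))
      simp only [Units.val_mul, coe_el hq0.1, coe_el hx.sq, mul_add, add_mul, one_mul, mul_one] at h5
      linear_combination (norm := abel) -h5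
    have e : el (c • q) = el (c • m) * el (c • (q - m)) := by
      rw [el_add (smul_sq hm.sq c) (smul_sq hq0.1 c) (by rw [smul_mul_smul_comm, e2, smul_zero])
        (by rw [smul_mul_smul_comm, e1, smul_zero]), ← smul_add, add_sub_cancel]
    rw [e]
    exact mul_mem (hme c) (hsame c)

end CfsgLib.QuadPair
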