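/-
A quadratic pair is a central product of quasisimple groups.
-/
import Mathlib
import Cfsg.Prelude.Def_RootSubgroups
import Cfsg.Agent.Lib.QuadPair.Quad
import Cfsg.Agent.Lib.Layer.Basic

set_option autoImplicit false
set_option linter.unusedSectionVars false

open Cfsg CfsgLib.RootSub.Unip CfsgLib.RootSub
open scoped commutatorElement

namespace CfsgLib.QuadPair

universe u v

section
variable {k : Type u} [Field k] {M : Type v} [AddCommGroup M] [Module k M] [FiniteDimensional k M]
variable {G : Subgroup (LinearMap.GeneralLinearGroup k M)}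

local notation "End'" => Module.End k M
local notation "GLM" => LinearMap.GeneralLinearGroup k M

/-- `S` is a set of commuting quasisimple normal factors of `G`, one containing each quadratic element. -/
def IsFactors (G : Subgroup (LinearMap.GeneralLinearGroup k M))
    (S : Set (Subgroup (LinearMap.GeneralLinearGroup k M))) : Prop :=
  S.Finite ∧ (∀ A ∈ S, A ≤ G ∧ G ≤ Subgroup.normalizer (A : Set (LinearMap.GeneralLinearGroup k M))) ∧
    (∀ A ∈ S, ∀ B ∈ S, A ≠ B → ⁅A, B⁆ = ⊥) ∧ sSup S = G ∧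
    (∀ A ∈ S, IsQuasisimple ↥A ∧
      Subgroup.closure (quadraticElements G ∩ (A : Set (LinearMap.GeneralLinearGroup k M))) = A) ∧
    ∀ q ∈ quadraticElements G, ∃ A ∈ S, q ∈ A

theorem exists_min' {q : GLM} (hq : q ∈ quadraticElements G) : ∃ s : End', Min G s := by
  classical
  have hex : ∃ n, ∃ t ∈ Sc G, t ≠ 0 ∧ rk t = n :=
    ⟨_, dm q, (mem_quadratic.mp hq).1, (mem_quadratic.mp hq).2, rfl⟩
  obtain ⟨t, ht, h0, hr⟩ := Nat.find_spec hex
  exact ⟨t, ht, h0, fun u hu hu0 => hr.le.trans (Nat.find_min' hex ⟨u, hu, hu0, rfl⟩)⟩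

theorem closure_quadratic_inter_gen {P : Set (Subgroup GLM)} (hP : P ⊆ quadraticRootSubgroups G) :
    Subgroup.closure (quadraticElements G ∩ ((gen P : Subgroup GLM) : Set GLM)) = gen P := by
  refine le_antisymm ((Subgroup.closure_le _).mpr Set.inter_subset_right) (iSup₂_le fun A hA x hx => ?_)
  obtain ⟨s, hs, rfl⟩ := mem_roots.mp (hP hA)
  obtain ⟨a, ha, e⟩ := (mem_root hs).mp hx
  by_cases h0 : a = 0
  · rw [show x = 1 by rw [e, h0, el_zero]]
    exact one_mem _
  · exact Subgroup.subset_closure ⟨mem_quadratic.mpr (by rw [e, dm_el ha.1.1]; exact ⟨ha.1, h0⟩), le_gen hA hx⟩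

/-- Elements acting on an invariant subspace. -/
noncomputable def actHom (H : Subgroup (LinearMap.GeneralLinearGroup k M)) (W : Submodule k M)
    (hinv : ∀ g ∈ H, ∀ w ∈ W, (g : Module.End k M) w ∈ W) :
    ↥H →* LinearMap.GeneralLinearGroup k ↥W :=
  MonoidHom.toHomUnits
    { toFun := fun g => ((g : LinearMap.GeneralLinearGroup k M) : Module.End k M).restrict (hinv g g.2)
      map_one' := LinearMap.ext fun w => Subtype.ext rfl
      map_mul' := fun g h => LinearMap.ext fun w => Subtype.ext rfl }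

theorem coe_actHom (H : Subgroup GLM) (W : Submodule k M)
    (hinv : ∀ g ∈ H, ∀ w ∈ W, (g : End') w ∈ W) (g : ↥H) (w : W) :
    (((actHom H W hinv g : LinearMap.GeneralLinearGroup k ↥W) : Module.End k ↥W) w : M) =
      ((g : GLM) : End') (w : M) := rfl

theorem decompose_step (h2 : (2 : k) ≠ 0) (h3 : Nat.card k ≠ 3) (hG : IsQuadraticPair G)
    (ih : ∀ (W : Submodule k M), W ≠ ⊤ → ∀ H : Subgroup (LinearMap.GeneralLinearGroup k ↥W),
      IsQuadraticPair H → ∃ S, IsFactors H S) : ∃ S, IsFactors G S := by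
  classical
  rcases Set.eq_empty_or_nonempty (quadraticElements G) with hemp | ⟨q₀, hq₀⟩
  · refine ⟨∅, Set.finite_empty, by simp, by simp, ?_, by simp, by simp [hemp]⟩
    rw [sSup_empty, ← hG.2, hemp, Subgroup.closure_empty]
  obtain ⟨s₀, hs₀⟩ := exists_min' hq₀
  set U := gen (quadraticRootSubgroups G) with hU
  set Z := Subgroup.centralizer (U : Set GLM) with hZ
  set H := Subgroup.closure (quadraticElements G ∩ (Z : Set GLM)) with hHdef
  set C : Set (Subgroup GLM) := (fun A => gen (part G A)) '' quadraticRootSubgroups G with hC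
  have hUG : U ≤ G := gen_all_le G
  have hHG : H ≤ G := (Subgroup.closure_le _).mpr fun x hx => hx.1.1
  have hHZ : H ≤ Z := (Subgroup.closure_le _).mpr Set.inter_subset_right
  have hUH : ∀ u ∈ U, ∀ h ∈ H, u * h = h * u := fun u hu h hh => Subgroup.mem_centralizer_iff.mp (hHZ hh) u hu
  have hcov : ∀ q ∈ quadraticElements G, (∃ A ∈ C, q ∈ A) ∨ q ∈ H := by
    intro q hq
    obtain ⟨hs, -⟩ := mem_quadratic.mp hq
    rcases in_part h2 h3 hG hs with hc | ⟨A, hA, hAm⟩
    · refine Or.inr (Subgroup.subset_closure ⟨hq, ?_⟩)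
      have := cen_mem hs hc
      rwa [el_dm hs.1] at this
    · refine Or.inl ⟨_, ⟨A, hA, rfl⟩, ?_⟩
      have := hAm 1
      rwa [one_smul, el_dm hs.1] at this
  have hGUH : G = U ⊔ H := by
    refine le_antisymm ?_ (sup_le hUG hHG)
    conv_lhs => rw [← hG.2]
    refine (Subgroup.closure_le _).mpr fun q hq => ?_
    rcases hcov q hq with ⟨A, ⟨B, hB, rfl⟩, h⟩ | h
    · exact Subgroup.mem_sup_left ((iSup₂_le fun D hD => le_gen hD.1 : gen (part G B) ≤ U) h)
    · exact Subgroup.mem_sup_right h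
  have hCfin : C.Finite := by
    haveI := parts_finite h2 h3 hG
    refine ((Set.finite_range fun x : {D : Set (Subgroup GLM) // ∃ A ∈ quadraticRootSubgroups G, D = part G A}
      => gen x.1)).subset ?_
    rintro _ ⟨A, hA, rfl⟩
    exact ⟨⟨_, A, hA, rfl⟩, rfl⟩
  have hCU : ∀ A ∈ C, A ≤ U := by
    rintro _ ⟨A, hA, rfl⟩
    exact iSup₂_le fun D hD => le_gen hD.1
  have hCn : ∀ A ∈ C, A ≤ G ∧ G ≤ Subgroup.normalizer (A : Set GLM) := by
    rintro _ ⟨A, hA, rfl⟩
    exact ⟨gen_part_le A, part_normal h2 h3 hG hA⟩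
  have hCc : ∀ A ∈ C, ∀ B ∈ C, A ≠ B → ⁅A, B⁆ = ⊥ := by
    rintro _ ⟨A, hA, rfl⟩ _ ⟨B, hB, rfl⟩ hne
    exact gen_commute h2 h3 hG fun e => hne (congrArg gen e)
  have hCq : ∀ A ∈ C, IsQuasisimple ↥A ∧
      Subgroup.closure (quadraticElements G ∩ (A : Set GLM)) = A := by
    rintro _ ⟨A, hA, rfl⟩
    exact ⟨gen_quasisimple h2 h3 hG hA, closure_quadratic_inter_gen fun D hD => hD.1⟩
  have hUC : U ≤ sSup C := iSup₂_le fun A hA => (le_gen (self_part hA)).trans (le_sSup ⟨A, hA, rfl⟩)
  rcases eq_or_ne H ⊥ with hbot | hbot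
  · refine ⟨C, hCfin, hCn, hCc, le_antisymm (sSup_le fun A hA => (hCn A hA).1) ?_, hCq, fun q hq => ?_⟩
    · conv_lhs => rw [hGUH, hbot, sup_bot_eq]
      exact hUC
    · rcases hcov q hq with h | h
      · exact h
      · rw [hbot, Subgroup.mem_bot] at h
        exact absurd (by rw [h, dm_one]) (mem_quadratic.mp hq).2
  -- a minimal subspace invariant under `H`
  let T : Set (Submodule k M) := {W | W ≠ ⊥ ∧ ∀ g ∈ H, ∀ w ∈ W, (g : End') w ∈ W}
  have hTne : T.Nonempty := by
    obtain ⟨m, hm⟩ := hG.1.1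
    exact ⟨⊤, fun h => hm ((Submodule.mem_bot k).mp (h ▸ Submodule.mem_top)), fun _ _ _ _ => trivial⟩
  obtain ⟨W, ⟨hW0, hinv⟩, hWmin⟩ := wellFounded_lt.has_min T hTne
  have hcomm_s : ∀ u ∈ U, ∀ h ∈ H, (u : End') * (h : End') = (h : End') * (u : End') := fun u hu h hh => by
    rw [← Units.val_mul, ← Units.val_mul, hUH u hu h hh]
  have hWtop : W ≠ ⊤ := by
    intro htop
    have hs1 : el s₀ ∈ U := le_gen (mem_roots.mpr ⟨s₀, hs₀, rfl⟩) (el_mem_root hs₀ (self_mem_cls hs₀))
    have hmem : LinearMap.ker s₀ ∈ T := by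
      refine ⟨fun h => hs₀.2.1 (LinearMap.ext fun v => ?_), fun g hg w hw => ?_⟩
      · have h1 : s₀ v ∈ LinearMap.ker s₀ := LinearMap.mem_ker.mpr (DFunLike.congr_fun hs₀.sq v)
        rwa [h, Submodule.mem_bot] at h1
      · have h1 := hcomm_s _ hs1 g hg
        rw [coe_el hs₀.sq, add_mul, mul_add, one_mul, mul_one] at h1
        have h4 := DFunLike.congr_fun (add_left_cancel h1) w
        rw [Module.End.mul_apply, Module.End.mul_apply, LinearMap.mem_ker.mp hw, map_zero] at h4
        exact LinearMap.mem_ker.mpr h4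
    refine hWmin _ hmem ?_
    rw [htop]
    exact lt_top_iff_ne_top.mpr fun h => hs₀.2.1 (LinearMap.ker_eq_top.mp h)
  have hspan : (⨆ u ∈ U, W.map ((u : GLM) : End')) = ⊤ := by
    set V := ⨆ u ∈ U, W.map ((u : GLM) : End') with hV
    have hle : ∀ u ∈ U, W.map ((u : GLM) : End') ≤ V := fun u hu =>
      le_iSup₂ (f := fun u (_ : u ∈ U) => W.map ((u : GLM) : End')) u hu
    have hgen : ∀ g : GLM, g ∈ U ∨ g ∈ H → V.map (g : End') ≤ V := by
      intro g hg
      rw [hV, Submodule.map_iSup]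
      refine iSup_le fun u => ?_
      rw [Submodule.map_iSup]
      refine iSup_le fun hu => ?_
      rcases hg with hg | hg
      · rw [← Submodule.map_comp]
        exact hle (g * u) (mul_mem hg hu)
      · rw [← Submodule.map_comp]
        rintro _ ⟨w, hw, rfl⟩
        refine hle u hu ⟨(g : End') w, hinv g hg w hw, ?_⟩
        exact DFunLike.congr_fun (hcomm_s u hu g hg) w
    have hall : ∀ g ∈ G, V.map ((g : GLM) : End') ≤ V := by
      intro g hg
      rw [hGUH, Subgroup.sup_eq_closure] at hg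
      induction hg using Subgroup.closure_induction'' with
      | one => exact (Submodule.map_id V).le
      | mem x hx => exact hgen x hx
      | inv_mem x hx => exact hgen x⁻¹ (hx.imp inv_mem inv_mem)
      | mul x y _ _ hx hy =>
        show V.map (((x : End')).comp (y : End')) ≤ V
        rw [Submodule.map_comp]
        exact (Submodule.map_mono hy).trans hx
    refine (hG.1.2 V fun g hg w hw => hall g hg (Submodule.mem_map_of_mem hw)).resolve_left fun h => hW0 ?_
    refine eq_bot_iff.mpr ?_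
    rw [← h]
    exact (Submodule.map_id W).ge.trans (hle 1 (one_mem U))
  have hzero : ∀ f : End', (∀ u ∈ U, f * (u : End') = (u : End') * f) → (∀ w ∈ W, f w = 0) → f = 0 := by
    intro f hf hfW
    have : (⊤ : Submodule k M) ≤ LinearMap.ker f := by
      rw [← hspan]
      refine iSup₂_le fun u hu => ?_
      rintro _ ⟨w, hw, rfl⟩
      have h1 := DFunLike.congr_fun (hf u hu) w
      rw [Module.End.mul_apply, Module.End.mul_apply, hfW w hw, map_zero] at h1
      exact LinearMap.mem_ker.mpr h1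
    exact LinearMap.ker_eq_top.mp (top_le_iff.mp this)
  set φ := actHom H W hinv with hφ
  have hφinj : Function.Injective φ := by
    intro a b hab
    refine Subtype.ext (Units.ext (sub_eq_zero.mp (hzero _ (fun u hu => ?_) fun w hw => ?_)))
    · rw [sub_mul, mul_sub, hcomm_s u hu a a.2, hcomm_s u hu b b.2]
    · have h1 := congrArg (fun x : LinearMap.GeneralLinearGroup k ↥W => ((x : Module.End k ↥W) ⟨w, hw⟩ : M)) hab
      simp only [hφ, coe_actHom] at h1
      rw [LinearMap.sub_apply, h1, sub_self]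
  -- quadratic elements of `G` inside `H` are the quadratic elements of the image
  have hcommdm : ∀ a : ↥H, ∀ u ∈ U, dm (a : GLM) * (u : End') = (u : End') * dm (a : GLM) := fun a u hu => by
    rw [dm, sub_mul, mul_sub, one_mul, mul_one, hcomm_s u hu a a.2]
  have hdm : ∀ (a : ↥H) (w : W), ((dm (φ a)) w : M) = dm (a : GLM) (w : M) := fun a w => by
    simp only [dm, LinearMap.sub_apply, Module.End.one_apply, Submodule.coe_sub, hφ, coe_actHom]
  have hφel : ∀ (a b : ↥H) (c : k), ((b : GLM) : End') = 1 + c • dm (a : GLM) →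
      ((φ b : LinearMap.GeneralLinearGroup k ↥W) : Module.End k ↥W) = 1 + c • dm (φ a) := by
    intro a b c hb
    refine LinearMap.ext fun w => Subtype.ext ?_
    rw [hφ, coe_actHom, hb]
    simp only [LinearMap.add_apply, LinearMap.smul_apply, Module.End.one_apply, Submodule.coe_add,
      Submodule.coe_smul]
    rw [← hdm a w]
  have hQfwd : ∀ a : ↥H, (a : GLM) ∈ quadraticElements G → φ a ∈ quadraticElements φ.range := by
    intro a ha
    obtain ⟨hs, hs0⟩ := mem_quadratic.mp ha
    have hsq : dm (φ a) * dm (φ a) = 0 := LinearMap.ext fun w => Subtype.ext (by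
      rw [Module.End.mul_apply, hdm, hdm, ← Module.End.mul_apply, hs.1]; rfl)
    refine mem_quadratic.mpr ⟨⟨hsq, fun c => ?_⟩, fun h0 => hs0 (hzero _ (hcommdm a) fun w hw => ?_)⟩
    · have hmem : el (c • dm (a : GLM)) ∈ H := by
        by_cases h0 : c • dm (a : GLM) = 0
        · rw [h0, el_zero]; exact one_mem _
        refine Subgroup.subset_closure ⟨mem_quadratic.mpr ?_, ?_⟩
        · rw [dm_el (smul_sq hs.1 c)]
          exact ⟨sc_smul hs c, h0⟩
        · refine Subgroup.mem_centralizer_iff.mpr fun u hu => Units.ext ?_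
          simp only [Units.val_mul, coe_el (smul_sq hs.1 c), mul_add, add_mul, mul_one, one_mul,
            mul_smul_comm, smul_mul_assoc, hcommdm a u hu]
      refine ⟨⟨_, hmem⟩, Units.ext ?_⟩
      rw [coe_el (smul_sq hsq c)]
      exact hφel a ⟨_, hmem⟩ c (coe_el (smul_sq hs.1 c))
    · have h1 := hdm a ⟨w, hw⟩
      rw [h0] at h1
      exact h1.symm
  have hQbwd : ∀ a : ↥H, φ a ∈ quadraticElements φ.range → (a : GLM) ∈ quadraticElements G := by
    intro a ha
    obtain ⟨hs, hs0⟩ := mem_quadratic.mp ha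
    have hsq : dm (a : GLM) * dm (a : GLM) = 0 := by
      refine hzero _ (fun u hu => ?_) fun w hw => ?_
      · rw [mul_assoc, hcommdm a u hu, ← mul_assoc, hcommdm a u hu, mul_assoc]
      · have h1 := congrArg (fun f : Module.End k ↥W => (f ⟨w, hw⟩ : M)) hs.1
        simpa only [Module.End.mul_apply, hdm, LinearMap.zero_apply, Submodule.coe_zero] using h1
    refine mem_quadratic.mpr ⟨⟨hsq, fun c => ?_⟩, fun h0 => hs0 (LinearMap.ext fun w => Subtype.ext ?_)⟩
    · obtain ⟨b, hb⟩ := hs.2 c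
      have he : ((b : GLM) : End') = 1 + c • dm (a : GLM) := by
        refine sub_eq_zero.mp (hzero _ (fun u hu => ?_) fun w hw => ?_)
        · simp only [sub_mul, mul_sub, add_mul, mul_add, one_mul, mul_one, smul_mul_assoc, mul_smul_comm,
            hcommdm a u hu, hcomm_s u hu b b.2]
        · have hb' : ((φ b : LinearMap.GeneralLinearGroup k ↥W) : Module.End k ↥W) = 1 + c • dm (φ a) := by
            rw [← coe_el (smul_sq hs.1 c)]
            exact congrArg Units.val hb
          have h1 : ((b : GLM) : End') w = w + c • dm (a : GLM) w := by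
            have h2 := congrArg (fun f : Module.End k ↥W => (f ⟨w, hw⟩ : M)) hb'
            simp only [LinearMap.add_apply, LinearMap.smul_apply, Module.End.one_apply, Submodule.coe_add,
              Submodule.coe_smul, hdm] at h2
            exact h2
          simp only [LinearMap.sub_apply, LinearMap.add_apply, LinearMap.smul_apply, Module.End.one_apply, h1,
            sub_self]
      have : el (c • dm (a : GLM)) = (b : GLM) := Units.ext (by rw [coe_el (smul_sq hsq c), he])
      rw [this]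
      exact hHG b.2
    · rw [hdm, h0]
      rfl
  have hpair : IsQuadraticPair φ.range := by
    refine ⟨⟨?_, fun X hX => ?_⟩, le_antisymm ((Subgroup.closure_le _).mpr fun x hx => hx.1) ?_⟩
    · obtain ⟨x, hx, hx0⟩ := Submodule.exists_mem_ne_zero_of_ne_bot hW0
      exact ⟨⟨x, hx⟩, fun h => hx0 (congrArg Subtype.val h)⟩
    · by_contra hcon
      push Not at hcon
      refine hWmin (X.map W.subtype) ⟨fun h => hcon.1 ?_, ?_⟩ ?_
      · exact Submodule.map_injective_of_injective W.subtype_injective (h.trans (Submodule.map_bot _).symm)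
      · rintro g hg _ ⟨x, hx, rfl⟩
        exact ⟨_, hX (φ ⟨g, hg⟩) ⟨⟨g, hg⟩, rfl⟩ x hx, rfl⟩
      · refine lt_of_le_of_ne (Submodule.map_subtype_le W X) fun h => hcon.2 ?_
        refine Submodule.map_injective_of_injective W.subtype_injective ?_
        rw [h, Submodule.map_subtype_top]
    · rintro _ ⟨⟨g, hg⟩, rfl⟩
      have key : H ≤ ((Subgroup.closure (quadraticElements φ.range)).comap φ).map H.subtype := by
        refine (Subgroup.closure_le _).mpr fun x hx => ?_
        exact ⟨⟨x, Subgroup.subset_closure hx⟩, Subgroup.subset_closure (hQfwd _ hx.1), rfl⟩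
      obtain ⟨y, hy, e⟩ := key hg
      obtain rfl : y = ⟨g, hg⟩ := Subtype.ext e
      exact hy
  obtain ⟨S', hS'fin, hS'n, hS'c, hS'sup, hS'q, hS'cov⟩ := ih W hWtop φ.range hpair
  let L : Subgroup (LinearMap.GeneralLinearGroup k ↥W) → Subgroup GLM :=
    fun A => (A.comap φ).map H.subtype
  have hLH : ∀ A, L A ≤ H := fun A => Subgroup.map_subtype_le _
  have hback : ∀ A ∈ S', (A.comap φ).map φ = A := fun A hA =>
    Subgroup.map_comap_eq_self (hS'n A hA).1
  have hHnorm : U ≤ Subgroup.centralizer (H : Set GLM) := fun u hu =>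
    Subgroup.mem_centralizer_iff.mpr fun h hh => (hUH u hu h hh).symm
  refine ⟨C ∪ L '' S', hCfin.union (hS'fin.image L), ?_, ?_, ?_, ?_, ?_⟩
  · rintro A (hA | ⟨A, hA, rfl⟩)
    · exact hCn A hA
    refine ⟨(hLH A).trans hHG, ?_⟩
    conv_lhs => rw [hGUH]
    refine sup_le ((hHnorm.trans (Subgroup.centralizer_le (hLH A))).trans
      (Subgroup.centralizer_le_normalizer _)) fun g hg => cj_eq_self.mp ?_
    have h1 := map_cj H.subtype (A.comap φ) (⟨g, hg⟩ : ↥H)
    have h0 : conjBy (A.comap φ) (⟨g, hg⟩ : ↥H) = A.comap φ := by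
      refine Subgroup.map_injective hφinj ?_
      rw [map_cj, hback A hA, cj_eq_self]
      exact (hS'n A hA).2 ⟨_, rfl⟩
    rw [h0] at h1
    exact h1.symm
  · have hcross : ∀ A ∈ C, ∀ B : Subgroup (LinearMap.GeneralLinearGroup k ↥W), ⁅A, L B⁆ = ⊥ := by
      intro A hA B
      rw [Subgroup.commutator_eq_bot_iff_le_centralizer]
      exact (hCU A hA).trans (hHnorm.trans (Subgroup.centralizer_le (hLH B)))
    rintro A (hA | ⟨A, hA, rfl⟩) B (hB | ⟨B, hB, rfl⟩) hne
    · exact hCc A hA B hB hne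
    · exact hcross A hA B
    · rw [Subgroup.commutator_comm]
      exact hcross B hB A
    · show ⁅(A.comap φ).map H.subtype, (B.comap φ).map H.subtype⁆ = ⊥
      rw [← Subgroup.map_commutator]
      have h1 : ⁅A.comap φ, B.comap φ⁆ = ⊥ := by
        refine Subgroup.map_injective hφinj ?_
        rw [Subgroup.map_commutator, hback A hA, hback B hB, Subgroup.map_bot]
        exact hS'c A hA B hB fun e => hne (congrArg L e)
      rw [h1, Subgroup.map_bot]
  · refine le_antisymm (sSup_le ?_) ?_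
    · rintro A (hA | ⟨A, hA, rfl⟩)
      · exact (hCn A hA).1
      · exact (hLH A).trans hHG
    conv_lhs => rw [hGUH]
    rw [sSup_union]
    refine sup_le_sup hUC ?_
    have htop : (⨆ A ∈ S', A.comap φ) = ⊤ := by
      refine Subgroup.map_injective hφinj ?_
      rw [Subgroup.map_iSup, ← MonoidHom.range_eq_map, ← hS'sup, sSup_eq_iSup]
      refine iSup_congr fun A => ?_
      rw [Subgroup.map_iSup]
      exact iSup_congr fun hA => hback A hA
    rw [sSup_image]
    calc H = (⊤ : Subgroup ↥H).map H.subtype := by rw [← MonoidHom.range_eq_map, H.range_subtype]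
      _ = ⨆ A ∈ S', L A := by
        rw [← htop, Subgroup.map_iSup]
        exact iSup_congr fun A => Subgroup.map_iSup _ _
      _ ≤ _ := le_rfl
  · rintro A (hA | ⟨A, hA, rfl⟩)
    · exact hCq A hA
    refine ⟨?_, ?_⟩
    · have e1 : ↥(A.comap φ) ≃* ↥A :=
        ((A.comap φ).equivMapOfInjective φ hφinj).trans (MulEquiv.subgroupCongr (hback A hA))
      exact CfsgLib.Layer.isQuasisimple_of_mulEquiv
        (e1.symm.trans ((A.comap φ).equivMapOfInjective H.subtype H.subtype_injective)) (hS'q A hA).1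
    · refine le_antisymm ((Subgroup.closure_le _).mpr Set.inter_subset_right) ?_
      set D := Subgroup.closure (quadraticElements G ∩ ((L A : Subgroup GLM) : Set GLM)) with hD
      have h1 : A ≤ (D.comap H.subtype).map φ := by
        conv_lhs => rw [← (hS'q A hA).2]
        refine (Subgroup.closure_le _).mpr ?_
        rintro x ⟨hxQ, hxA⟩
        obtain ⟨y, rfl⟩ := hxQ.1
        exact ⟨y, Subgroup.subset_closure ⟨hQbwd y hxQ, ⟨y, hxA, rfl⟩⟩, rfl⟩
      rintro _ ⟨y, hy, rfl⟩
      obtain ⟨z, hz, e⟩ := h1 hy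
      obtain rfl := hφinj e
      exact hz
  · intro q hq
    rcases hcov q hq with ⟨A, hA, h⟩ | h
    · exact ⟨A, Or.inl hA, h⟩
    · obtain ⟨A, hA, hmem⟩ := hS'cov _ (hQfwd ⟨q, h⟩ hq)
      exact ⟨L A, Or.inr ⟨A, hA, rfl⟩, ⟨⟨q, h⟩, hmem, rfl⟩⟩

end

theorem exists_factors_aux {k : Type u} [Field k] (h2 : (2 : k) ≠ 0) (h3 : Nat.card k ≠ 3) :
    ∀ (n : ℕ) (M : Type v) [AddCommGroup M] [Module k M] [FiniteDimensional k M],
      Module.finrank k M = n → ∀ G : Subgroup (LinearMap.GeneralLinearGroup k M), IsQuadraticPair G →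
      ∃ S, IsFactors G S := by
  intro n
  induction n using Nat.strong_induction_on with
  | _ n IH =>
    intro M _ _ _ hn G hG
    exact decompose_step h2 h3 hG fun W hW H hH =>
      IH _ (hn ▸ Submodule.finrank_lt hW) ↥W rfl H hH

theorem central_product {k : Type u} [Field k] (h2 : (2 : k) ≠ 0) (h3 : Nat.card k ≠ 3) {M : Type v}
    [AddCommGroup M] [Module k M] [FiniteDimensional k M]
    {G : Subgroup (LinearMap.GeneralLinearGroup k M)} (hG : IsQuadraticPair G) :
    ∃ (s : ℕ) (Gi : Fin s → Subgroup (LinearMap.GeneralLinearGroup k M)),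
      (∀ i, Gi i ≤ G ∧ ∀ g ∈ G, conjBy (Gi i) g = Gi i) ∧ (∀ i j, i ≠ j → ⁅Gi i, Gi j⁆ = ⊥) ∧
      (⨆ i, Gi i) = G ∧
      (∀ i, IsQuasisimple ↥(Gi i) ∧
        Subgroup.closure (quadraticElements G ∩ (Gi i : Set (LinearMap.GeneralLinearGroup k M))) = Gi i) ∧
      quadraticElements G ⊆ ⋃ i, (Gi i : Set (LinearMap.GeneralLinearGroup k M)) := by
  obtain ⟨S, hfin, hn, hc, hsup, hq, hcov⟩ := exists_factors_aux h2 h3 _ M rfl G hG
  obtain ⟨s, f, hf⟩ := hfin.fin_embedding
  have hmem : ∀ i, f i ∈ S := fun i => hf.subset ⟨i, rfl⟩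
  refine ⟨s, f, fun i => ⟨(hn _ (hmem i)).1, fun g hg => cj_eq_self.mpr ((hn _ (hmem i)).2 hg)⟩,
    fun i j hij => hc _ (hmem i) _ (hmem j) (f.injective.ne hij), ?_, fun i => hq _ (hmem i), fun q hq' => ?_⟩
  · rw [← sSup_range, hf, hsup]
  · obtain ⟨A, hA, h⟩ := hcov q hq'
    obtain ⟨i, rfl⟩ := hf.symm.subset hA
    exact Set.mem_iUnion.mpr ⟨i, h⟩

end CfsgLib.QuadPair
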